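import Cfsg.Agent.H47.Ree.Split
import Cfsg.Agent.H48.Ree.Sylow
import Cfsg.Agent.H65.Twist.ReeStatements

/-!
The small Ree group as a split cell; the centraliser of its torus involution and the fusion of involutions.
-/

set_option autoImplicit false

open Cfsg.Lie Cfsg.Agent.H46 Cfsg.Agent.H65.Twist

namespace Cfsg.Agent.H47.Ree

open Cfsg.Agent.H48.Ree (W Gr Ur Hr Br)

variable {K : Type*} [Field K] [Fintype K] {m : ℕ}

/-- The reflection of the Ree group. -/
noncomputable abbrev nG (K : Type*) [Field K] : GL chevG2.Idx K := H48.Ree.nW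

/-- The reflection inside the group. -/
noncomputable def nR (hK : Fintype.card K = 3 ^ (2 * m + 1)) : ↥(Gr K m) := ⟨(nG K), H48.Ree.nW_mem hK⟩

/-- The certificate that the reflection is an involution. -/
theorem top_sq_check : chkEqMod chevG2 tabG2 3 (reeTopWord ++ reeTopWord) [] = true := by decide +kernel

theorem reeN_word [CharP K 3] : (reeN K : GL chevG2.Idx K) = wordEl goodG2 reeTopWord := by
  have hsn : chevG2.simple 0 = 7 ∧ chevG2.simple 1 = 6 ∧ chevG2.neg 7 = 4 ∧ chevG2.neg 6 = 5 := by decide +kernel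
  simp [reeN, Good.nProd, wordEl, reeTopWord, Good.ng, hsn.1, hsn.2.1, hsn.2.2.1, hsn.2.2.2, mul_assoc]

theorem torus_neg_word [CharP K 3] : goodG2.torus (fun _ => (-1 : Kˣ)) = wordEl goodG2 reeInvWord := by
  have hp : (fun _ => (-1 : Kˣ) : Fin chevG2.rank → Kˣ) =
      Pi.mulSingle (⟨0, by decide +kernel⟩ : Fin chevG2.rank) (-1) * Pi.mulSingle ⟨1, by decide +kernel⟩ (-1) := by
    funext i
    have h := i.2
    simp only [show chevG2.rank = 2 from rfl] at h
    rcases i with ⟨_ | _ | k, hi⟩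
    · simp [Fin.ext_iff]
    · simp [Fin.ext_iff]
    · simp at h
  have hsn : chevG2.neg 7 = 4 ∧ chevG2.neg 6 = 5 := by decide +kernel
  rw [hp, map_mul, goodG2.torus_mulSingle, goodG2.torus_mulSingle]
  simp [Good.hg, Good.ng, simple_roots.1, simple_roots.2.1, hsn.1, hsn.2, wordEl, reeInvWord, mul_assoc]

theorem wordEl_append (w w' : List (ℕ × ℤ)) :
    (wordEl goodG2 (w ++ w') : GL chevG2.Idx K) = wordEl goodG2 w * wordEl goodG2 w' := by
  simp [wordEl]

/-- The small Ree group as a split cell. -/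
noncomputable def cell (hK : Fintype.card K = 3 ^ (2 * m + 1)) : SplitCell ↥(Gr K m) where
  U := (Ur K m).subgroupOf (Gr K m)
  H := (Hr K m).subgroupOf (Gr K m)
  n := nR hK
  conjU h hh u hu := H48.Ree.conj_U (H48.Ree.Hr_le_Br hh) hu
  inf_eq g hu hh := Subtype.ext (H48.Ree.Ur_inf_Hr hu hh)
  n_inv h hh := by
    haveI := (H48.Ree.field_data hK).1
    have hd : (h : GL chevG2.Idx K) ∈ chevG2.diagonalSubgroup K := (Subgroup.mem_inf.1 hh).1
    have e := congrArg Subtype.val (reeN_conj hK (⟨h, goodG2.diagonal_le_group hd⟩⁻¹) (inv_mem hd))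
    refine Subtype.ext ?_
    simpa [nR] using e
  n_sq := by
    haveI := (H48.Ree.field_data hK).1
    refine Subtype.ext ?_
    show (nG K) * (nG K) = 1
    rw [show (nG K) = wordEl goodG2 reeTopWord from reeN_word, ← wordEl_append,
      wordEl_eq goodG2 (p := 3) top_sq_check]
    simp [wordEl]
  dec g := by
    rcases H48.Ree.decomp hK g.2 with h | ⟨b, hb, u, hu, e⟩
    · obtain ⟨v, hv, k, hk, e⟩ := H48.Ree.mem_Br hK h
      exact Or.inl ⟨⟨v, hv.2⟩, hv, ⟨k, hk.2⟩, hk, Subtype.ext e⟩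
    · obtain ⟨v, hv, k, hk, rfl⟩ := H48.Ree.mem_Br hK hb
      refine Or.inr ⟨⟨v, hv.2⟩, hv, ⟨k, hk.2⟩⁻¹, inv_mem (s := (Hr K m).subgroupOf (Gr K m)) hk, ⟨u, hu.2⟩, hu,
        Subtype.ext ?_⟩
      have hd : k ∈ chevG2.diagonalSubgroup K := hk.1
      haveI := (H48.Ree.field_data hK).1
      have hc := congrArg Subtype.val (reeN_conj hK ⟨k, goodG2.diagonal_le_group hd⟩ hd)
      simp only [Subgroup.coe_mul, Subgroup.coe_inv] at hc
      rw [mul_inv_eq_iff_eq_mul] at hc
      simp only [Subgroup.coe_mul, Subgroup.coe_inv, nR, e]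
      rw [mul_assoc v k, ← hc]
      group
  ne_cell u hu h hh v hv u' hu' h' hh' e := by
    refine H48.Ree.nW_not_borel hK ?_
    show nG K ∈ Br K m
    have hU : ∀ x : ↥(Gr K m), x ∈ (Ur K m).subgroupOf (Gr K m) → (x : GL chevG2.Idx K) ∈ Br K m :=
      fun x hx => H48.Ree.Ur_le_Br hx
    have e' : (u : GL chevG2.Idx K) * (nG K) * h * v = u' * h' := congrArg Subtype.val e
    have : (nG K) =
        (u : GL chevG2.Idx K)⁻¹ * (u' * h') * (v : GL chevG2.Idx K)⁻¹ * (h : GL chevG2.Idx K)⁻¹ := by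
      rw [← e']; group
    rw [this]
    exact mul_mem (mul_mem (mul_mem (inv_mem (hU u hu)) (mul_mem (hU u' hu') (H48.Ree.Hr_le_Br hh')))
      (inv_mem (hU v hv))) (inv_mem (H48.Ree.Hr_le_Br hh))
  uniq u hu h hh v hv u' hu' h' hh' v' hv' e := by
    have e' : (u : GL chevG2.Idx K) * (nG K) * h * v = u' * (nG K) * h' * v' := congrArg Subtype.val e
    have hn : (nG K)⁻¹ = (nG K) := by
      haveI := (H48.Ree.field_data hK).1
      refine inv_eq_of_mul_eq_one_right ?_
      rw [show (nG K) = wordEl goodG2 reeTopWord from reeN_word, ← wordEl_append,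
        wordEl_eq goodG2 (p := 3) top_sq_check]
      simp [wordEl]
    have h1 : (nG K) * ((u' : GL chevG2.Idx K)⁻¹ * u) * (nG K)⁻¹ ∈ Br K m := by
      have : (nG K) * ((u' : GL chevG2.Idx K)⁻¹ * u) * (nG K)⁻¹ =
          (h' : GL chevG2.Idx K) * (v' * (v : GL chevG2.Idx K)⁻¹) * (h : GL chevG2.Idx K)⁻¹ := by
        calc (nG K) * ((u' : GL chevG2.Idx K)⁻¹ * u) * (nG K)⁻¹
            = (nG K)⁻¹ * ((u' : GL chevG2.Idx K)⁻¹ * (u * (nG K) * h * v) * (v : GL chevG2.Idx K)⁻¹ *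
                (h : GL chevG2.Idx K)⁻¹) := by rw [hn]; group
          _ = _ := by rw [e']; group
      rw [this]
      exact mul_mem (mul_mem (H48.Ree.Hr_le_Br hh') (H48.Ree.Ur_le_Br (mul_mem hv' (inv_mem hv))))
        (inv_mem (H48.Ree.Hr_le_Br hh))
    have h2 := H48.Ree.conj_nW_borel hK (mul_mem (inv_mem hu') hu) (Subgroup.mem_inf.1 h1).1
    rw [inv_mul_eq_one] at h2
    obtain rfl : u' = u := Subtype.ext h2
    have e3 : v * v'⁻¹ = h⁻¹ * h' := by
      have := congrArg (fun x => nR hK * (u'⁻¹ * x)) e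
      simp only [← mul_assoc, inv_mul_cancel, one_mul] at this
      rw [eq_inv_mul_iff_mul_eq, ← mul_assoc]
      refine mul_inv_eq_iff_eq_mul.2 (mul_left_cancel (a := nR hK) ?_)
      have e4 := mul_left_cancel (a := u') (b := nR hK * h * v) (c := nR hK * h' * v')
        (by simpa [mul_assoc] using e)
      simpa [mul_assoc] using e4
    have h4 := mul_mem hv (inv_mem hv')
    have h5 : v * v'⁻¹ = 1 :=
      Subtype.ext (H48.Ree.Ur_inf_Hr h4 (e3 ▸ mul_mem (inv_mem hh) hh' : v * v'⁻¹ ∈ (Hr K m).subgroupOf (Gr K m)))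
    rw [h5, eq_comm, inv_mul_eq_one] at e3
    exact ⟨rfl, e3, mul_inv_eq_one.1 h5⟩

theorem card_U (hK : Fintype.card K = 3 ^ (2 * m + 1)) :
    Nat.card ↥(cell hK).U = (3 ^ (2 * m + 1)) ^ 3 := by
  rw [← H48.Ree.card_Ur hK]
  exact Nat.card_congr (Subgroup.subgroupOfEquivOfLe inf_le_right).toEquiv

theorem card_H (hK : Fintype.card K = 3 ^ (2 * m + 1)) : Nat.card ↥(cell hK).H = 3 ^ (2 * m + 1) - 1 := by
  rw [← ree_card_diagonal hK]
  exact Nat.card_congr (Subgroup.subgroupOfEquivOfLe inf_le_right).toEquiv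

theorem isCyclic_H (hK : Fintype.card K = 3 ^ (2 * m + 1)) : IsCyclic ↥(cell hK).H := by
  haveI := (H48.Ree.field_data hK).1
  haveI := H48.Ree.isCyclic_diagonal (H48.Ree.uShape hK)
  exact isCyclic_of_surjective _ (Subgroup.subgroupOfEquivOfLe (inf_le_right : Hr K m ≤ Gr K m)).symm.surjective

theorem comm_H (hK : Fintype.card K = 3 ^ (2 * m + 1)) :
    ∀ a ∈ (cell hK).H, ∀ b ∈ (cell hK).H, a * b = b * a := fun a ha b hb => by
  haveI := isCyclic_H hK
  letI : CommGroup ↥(cell hK).H := IsCyclic.commGroup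
  exact congrArg Subtype.val (mul_comm (⟨a, ha⟩ : ↥(cell hK).H) ⟨b, hb⟩)

theorem card_R (hK : Fintype.card K = 3 ^ (2 * m + 1)) : Nat.card ↥(Gr K m) =
    (3 ^ (2 * m + 1)) ^ 3 * (3 ^ (2 * m + 1) - 1) * ((3 ^ (2 * m + 1)) ^ 3 + 1) := ree_card hK

theorem odd_orderOf_U (hK : Fintype.card K = 3 ^ (2 * m + 1)) : ∀ u ∈ (cell hK).U, Odd (orderOf u) := fun u hu => by
  have h := Subgroup.orderOf_dvd_natCard _ hu
  rw [card_U hK] at h
  exact Odd.of_dvd_nat ((Odd.pow (by decide)).pow) h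

/-- The torus involution. -/
noncomputable def tR (hK : Fintype.card K = 3 ^ (2 * m + 1)) : ↥(Gr K m) :=
  haveI := (H48.Ree.field_data hK).1
  ⟨(torusE goodG2 (fun _ => (-1 : Kˣ)) : GL chevG2.Idx K), torus_neg_one_mem (K := K) (m := m)⟩

theorem tR_coe (hK : Fintype.card K = 3 ^ (2 * m + 1)) :
    (tR hK : GL chevG2.Idx K) = goodG2.torus (fun _ => (-1 : Kˣ)) := rfl

theorem tR_mem (hK : Fintype.card K = 3 ^ (2 * m + 1)) : tR hK ∈ (cell hK).H :=
  Subgroup.mem_inf.2 ⟨goodG2.mem_diagonal.2 ⟨_, rfl⟩, (tR hK).2⟩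

theorem tR_sq (hK : Fintype.card K = 3 ^ (2 * m + 1)) : tR hK * tR hK = 1 := by
  refine Subtype.ext ?_
  show goodG2.torus (fun _ => (-1 : Kˣ)) * goodG2.torus (fun _ => (-1 : Kˣ)) = 1
  rw [← map_mul, show ((fun _ => (-1 : Kˣ)) * fun _ => (-1 : Kˣ) : Fin chevG2.rank → Kˣ) = 1 by funext i; simp,
    map_one]

theorem tR_ne_one (hK : Fintype.card K = 3 ^ (2 * m + 1)) : tR hK ≠ 1 := by
  haveI := (H48.Ree.field_data hK).1
  intro h
  have h1 := (goodG2.torus_eq_one_iff (fun _ => (-1 : Kˣ))).1 (congrArg Subtype.val h) 7 (by decide +kernel)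
  rw [neg_one_val] at h1
  exact H48.Ree.three0 (F := K) |> fun h3 => one_ne_zero (α := K) (by
    have h2 : (-1 : K) = 1 := congrArg Units.val h1
    linear_combination h3 + h2)

theorem orderOf_tR (hK : Fintype.card K = 3 ^ (2 * m + 1)) : orderOf (tR hK) = 2 :=
  orderOf_eq_prime (by rw [pow_two, tR_sq]) (tR_ne_one hK)

/-- The action of the torus involution on the unipotent coordinates. -/
theorem tR_conj_W (hK : Fintype.card K = 3 ^ (2 * m + 1)) (t u v : K) :
    (tR hK : GL chevG2.Idx K) * W (3 ^ m) t u v * (tR hK : GL chevG2.Idx K)⁻¹ = W (3 ^ m) (-t) u (-v) := by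
  haveI := (H48.Ree.field_data hK).1
  obtain ⟨ψ, hψ, hact⟩ := H48.Ree.exists_param (H48.Ree.uShape hK)
  set z : ↥(Hr K m) := ⟨tR hK, tR_mem hK⟩
  have h1 : (ψ z : K) ^ 2 = 1 := by
    rw [← Units.val_pow_eq_pow_val, ← map_pow, show z ^ 2 = 1 from Subtype.ext (by
      rw [pow_two]; exact (congrArg Subtype.val (tR_sq hK) :)), map_one, Units.val_one]
  have h2 : (ψ z : K) = -1 := (sq_eq_one_iff.1 h1).resolve_left fun h =>
    tR_ne_one hK (Subtype.ext (congrArg Subtype.val (hψ ((Units.ext (u := ψ z) (v := 1) h).trans (map_one ψ).symm)) :))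
  have e := hact z t u v
  have hodd : Odd (3 * 3 ^ m) := (Nat.odd_mul.2 ⟨by decide, Odd.pow (by decide)⟩)
  rw [h2, (hodd.add_one).neg_one_pow, (hodd.add_even even_two).neg_one_pow] at e
  simpa using e

/-- The centraliser of the involution in `U`. -/
theorem commute_tR_U (hK : Fintype.card K = 3 ^ (2 * m + 1)) {u : ↥(Gr K m)} (hu : u ∈ (cell hK).U) :
    u * tR hK = tR hK * u ↔ ∃ b : K, (u : GL chevG2.Idx K) = W (3 ^ m) 0 b 0 := by
  haveI := (H48.Ree.field_data hK).1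
  obtain ⟨t, b, v, e⟩ := H48.Ree.uShape hK _ hu
  have h2 : ∀ x : K, -x = x → x = 0 := fun x hx => by
    linear_combination (H48.Ree.three0 (F := K)) * x + hx
  constructor
  · intro h
    have h' : (tR hK : GL chevG2.Idx K) * u * (tR hK : GL chevG2.Idx K)⁻¹ = u :=
      congrArg Subtype.val (show tR hK * u * (tR hK)⁻¹ = u by rw [← h, mul_inv_cancel_right])
    change (u : GL chevG2.Idx K) = _ at e
    rw [e, tR_conj_W] at h'
    obtain ⟨e1, -, e3⟩ := H48.Ree.W_injective h'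
    exact ⟨b, by rw [e, h2 t e1, h2 v e3]⟩
  · rintro ⟨c, hc⟩
    have := tR_conj_W hK 0 c 0
    rw [neg_zero, ← hc, mul_inv_eq_iff_eq_mul] at this
    exact Subtype.ext this.symm

theorem W_mem_cellU (hK : Fintype.card K = 3 ^ (2 * m + 1)) (b : K) :
    (⟨W (3 ^ m) 0 b 0, (H48.Ree.W_mem_U _ _ _ _).2⟩ : ↥(Gr K m)) ∈ (cell hK).U :=
  H48.Ree.W_mem_U _ _ _ _

/-- The centraliser of the torus involution has order `q (q² - 1)`. -/
theorem card_centralizer_tR (hK : Fintype.card K = 3 ^ (2 * m + 1)) :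
    Nat.card ↥(Subgroup.centralizer ({tR hK} : Set ↥(Gr K m))) =
      3 ^ (2 * m + 1) * (3 ^ (2 * m + 1) - 1) * (3 ^ (2 * m + 1) + 1) := by
  classical
  haveI := (H48.Ree.field_data hK).1
  set S := cell hK
  let w : K → ↥(Gr K m) := fun b => ⟨W (3 ^ m) 0 b 0, (H48.Ree.W_mem_U _ _ _ _).2⟩
  have hw : ∀ b, w b * tR hK = tR hK * w b := fun b => (commute_tR_U hK (W_mem_cellU hK b)).2 ⟨b, rfl⟩
  have hH : ∀ h ∈ S.H, h * tR hK = tR hK * h := fun h hh => comm_H hK h hh _ (tR_mem hK)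
  have hn : S.n * tR hK = tR hK * S.n := by
    rw [S.n_inv' (tR_mem hK), inv_eq_of_mul_eq_one_right (tR_sq hK)]
  let f : (K × ↥S.H) ⊕ (K × ↥S.H × K) → ↥(Subgroup.centralizer ({tR hK} : Set ↥(Gr K m))) :=
    Sum.elim (fun p => ⟨w p.1 * p.2, mul_mem (Subgroup.mem_centralizer_singleton_iff.2 (hw _))
      (Subgroup.mem_centralizer_singleton_iff.2 (hH _ p.2.2))⟩)
      (fun p => ⟨w p.1 * S.n * p.2.1 * w p.2.2, mul_mem (mul_mem (mul_mem
        (Subgroup.mem_centralizer_singleton_iff.2 (hw _)) (Subgroup.mem_centralizer_singleton_iff.2 hn))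
        (Subgroup.mem_centralizer_singleton_iff.2 (hH _ p.2.1.2))) (Subgroup.mem_centralizer_singleton_iff.2 (hw _))⟩)
  have winj : ∀ {a b : K}, w a = w b → a = b := fun h => (H48.Ree.W_injective (congrArg Subtype.val h)).2.1
  have hf : Function.Bijective f := by
    constructor
    · rintro (⟨b, h, hh⟩ | ⟨b, ⟨h, hh⟩, c⟩) (⟨b', h', hh'⟩ | ⟨b', ⟨h', hh'⟩, c'⟩) e
      · obtain ⟨e1, e2⟩ := S.uniq_borel (W_mem_cellU hK b) (W_mem_cellU hK b') hh hh' (congrArg Subtype.val e)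
        obtain rfl := winj e1
        subst e2; rfl
      · exact absurd (congrArg Subtype.val e).symm
          (S.ne_cell _ (W_mem_cellU hK b') _ hh' _ (W_mem_cellU hK c') _ (W_mem_cellU hK b) _ hh)
      · exact absurd (congrArg Subtype.val e)
          (S.ne_cell _ (W_mem_cellU hK b) _ hh _ (W_mem_cellU hK c) _ (W_mem_cellU hK b') _ hh')
      · obtain ⟨e1, e2, e3⟩ := S.uniq _ (W_mem_cellU hK b) _ hh _ (W_mem_cellU hK c) _ (W_mem_cellU hK b') _ hh' _
          (W_mem_cellU hK c') (congrArg Subtype.val e)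
        obtain rfl := winj e1
        obtain rfl := winj e3
        subst e2; rfl
    · rintro ⟨g, hg⟩
      rw [Subgroup.mem_centralizer_singleton_iff] at hg
      rcases S.commute_torus (comm_H hK) (tR_mem hK) hg with
        ⟨u, hu, h, hh, rfl, hc⟩ | ⟨-, u, hu, h, hh, v, hv, rfl, hc, hd⟩
      · obtain ⟨b, hb⟩ := (commute_tR_U hK hu).1 hc
        obtain rfl : u = w b := Subtype.ext hb
        exact ⟨Sum.inl (b, ⟨h, hh⟩), rfl⟩
      · obtain ⟨b, hb⟩ := (commute_tR_U hK hu).1 hc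
        obtain ⟨c, hc'⟩ := (commute_tR_U hK hv).1 hd
        obtain rfl : u = w b := Subtype.ext hb
        obtain rfl : v = w c := Subtype.ext hc'
        exact ⟨Sum.inr (b, ⟨h, hh⟩, c), rfl⟩
  rw [← Nat.card_eq_of_bijective f hf, Nat.card_sum, Nat.card_prod, Nat.card_prod, Nat.card_prod, card_H hK,
    Nat.card_eq_fintype_card, hK]
  ring

/-- Conjugators carrying the two reflection involutions to the torus involution, over the prime field. -/
def conjN : List (ℕ × ℤ) :=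
  [(7, -1), (6, -1), (8, 0), (9, -1), (10, -1), (11, 0), (4, 0), (5, 0), (3, 1), (2, 1), (1, 1), (0, 1)]

/-- The second conjugator. -/
def conjNT : List (ℕ × ℤ) :=
  [(7, -1), (6, -1), (8, 0), (9, 1), (10, -1), (11, -1), (4, -1), (5, -1), (3, 1), (2, -1), (1, -1), (0, 0)]

theorem conjN_check : chkEqMod chevG2 tabG2 3 (conjN ++ reeTopWord) (reeInvWord ++ conjN) = true := by
  decide +kernel

theorem conjNT_check :
    chkEqMod chevG2 tabG2 3 (conjNT ++ reeTopWord ++ reeInvWord) (reeInvWord ++ conjNT) = true := by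
  decide +kernel

theorem conj_words_mem (hK : Fintype.card K = 3 ^ (2 * m + 1)) :
    (wordEl goodG2 conjN : GL chevG2.Idx K) ∈ Gr K m ∧ (wordEl goodG2 conjNT : GL chevG2.Idx K) ∈ Gr K m := by
  haveI := (H48.Ree.field_data hK).1
  have h3 := H48.Ree.three0 (F := K)
  have hmem : ∀ x : ↥(chevG2.group K), x ∈ reeW K m → (x : GL chevG2.Idx K) ∈ Gr K m := fun x hx => hx
  have ea : (1 : K) + 1 = -1 := by linear_combination h3
  have eb : (-1 : K) + -1 = 1 := by linear_combination -h3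
  refine ⟨?_, ?_⟩
  · have e : (wordEl goodG2 conjN : GL chevG2.Idx K) =
        ((reeU K m (-1) (-1) 0 * reeV K m 0 (-1) (-1) : ↥(chevG2.group K)) : GL chevG2.Idx K) := by
      simp [wordEl, conjN, reeU, reeV, ReeBlock.word, reePos, reeNeg, reePosIdx, reeNegIdx, xE, mul_assoc,
        goodG2.xg_zero, ea, eb]
    exact e ▸ hmem _ (mul_mem (reeU_mem _ _ _) (reeV_mem _ _ _))
  · have e : (wordEl goodG2 conjNT : GL chevG2.Idx K) =
        ((reeU K m (-1) (-1) (-1) * reeV K m 1 1 0 : ↥(chevG2.group K)) : GL chevG2.Idx K) := by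
      simp [wordEl, conjNT, reeU, reeV, ReeBlock.word, reePos, reeNeg, reePosIdx, reeNegIdx, xE, mul_assoc,
        goodG2.xg_zero, ea, eb]
    exact e ▸ hmem _ (mul_mem (reeU_mem _ _ _) (reeV_mem _ _ _))

/-- All involutions are conjugate to the torus involution. -/
theorem involution_conj (hK : Fintype.card K = 3 ^ (2 * m + 1)) {y : ↥(Gr K m)} (hy : orderOf y = 2) :
    ∃ g : ↥(Gr K m), g * y * g⁻¹ = tR hK := by
  classical
  haveI := (H48.Ree.field_data hK).1
  set S := cell hK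
  obtain ⟨k, hkodd, hk⟩ := H48.Ree.exists_half m
  haveI := isCyclic_H hK
  have huniq : ∀ h ∈ S.H, h * h = 1 → h ≠ 1 → h = tR hK := by
    intro h hh h2 h1
    letI : CommGroup ↥S.H := IsCyclic.commGroup
    by_contra hne
    have h4 : ({1, ⟨h, hh⟩, ⟨tR hK, tR_mem hK⟩} : Finset ↥S.H).card = 3 := by
      rw [Finset.card_insert_of_notMem, Finset.card_pair]
      · exact fun e => hne (congrArg Subtype.val e)
      · simp only [Finset.mem_insert, Finset.mem_singleton, Subtype.ext_iff, Subgroup.coe_one, not_or]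
        exact ⟨fun e => h1 (Subtype.ext e.symm), fun e => tR_ne_one hK (Subtype.ext e.symm)⟩
    have h5 := Nat.card_le_card_of_injective (fun x : ↥({1, ⟨h, hh⟩, ⟨tR hK, tR_mem hK⟩} : Finset ↥S.H) =>
      (⟨x.1, by
        rcases Finset.mem_insert.1 x.2 with e | e
        · rw [e]; exact one_mem _
        · rcases Finset.mem_insert.1 e with e | e
          · rw [e, MonoidHom.mem_ker, powMonoidHom_apply, pow_two]; exact Subtype.ext h2
          · rw [Finset.mem_singleton.1 e, MonoidHom.mem_ker, powMonoidHom_apply, pow_two]; exact Subtype.ext (tR_sq hK)⟩ : ↥(powMonoidHom 2 : ↥S.H →* ↥S.H).ker))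
      (fun a b e => Subtype.ext (congrArg (fun z : ↥(powMonoidHom 2 : ↥S.H →* ↥S.H).ker => z.1) e))
    rw [Nat.card_eq_finsetCard, h4, IsCyclic.card_powMonoidHom_ker, card_H hK, hk,
      Nat.gcd_mul_right_left] at h5
    omega
  have h1 : y ≠ 1 := fun e => by rw [e, orderOf_one] at hy; omega
  have h2 : y * y = 1 := by rw [← pow_two, ← hy]; exact pow_orderOf_eq_one y
  rcases S.involution_cases (odd_orderOf_U hK) h2 h1 with ⟨g, h, hh, hh2, hh1, e⟩ | ⟨g, h, hh, e⟩
  · exact ⟨g, e.trans (huniq h hh hh2 hh1)⟩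
  · -- `nh` is conjugate to `n` or `nt`
    obtain ⟨k', hk'⟩ := hkodd
    have hpow : h ^ (2 * k) = 1 := by
      rw [← hk, ← card_H hK]
      exact congrArg Subtype.val (pow_card_eq_one' (x := (⟨h, hh⟩ : ↥S.H)))
    have hk1 : h ^ k = 1 ∨ h ^ k = tR hK := by
      by_cases hh1 : h ^ k = 1
      · exact Or.inl hh1
      · exact Or.inr (huniq _ (pow_mem hh k) (by rw [← pow_add, ← two_mul, hpow]) hh1)
    have hsq : ∀ s ∈ S.H, s * (S.n * h) * s⁻¹ = S.n * (h * (s * s)⁻¹) := fun s hs => by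
      rw [← mul_assoc, S.n_inv' hs, mul_inv_rev, mul_assoc, mul_assoc, comm_H hK s⁻¹ (inv_mem hs) (h * s⁻¹)
        (mul_mem hh (inv_mem hs)), mul_assoc]
    set s := h ^ (k' + 1) with hs
    have hss : h * (s * s)⁻¹ = (h ^ k)⁻¹ := by
      rw [hs, ← pow_add, show k' + 1 + (k' + 1) = k + 1 by omega, pow_succ', mul_inv_rev]
      rw [comm_H hK _ (inv_mem (pow_mem hh k)) _ (inv_mem hh), ← mul_assoc, mul_inv_cancel, one_mul]
    have e2 : s * (g * y * g⁻¹) * s⁻¹ = S.n * (h ^ k)⁻¹ := by rw [e, hsq s (pow_mem hh _), hss]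
    obtain ⟨hm1, hm2⟩ := conj_words_mem (m := m) hK
    have e3 : ∀ c : ↥(Gr K m), ∀ z, s * (g * y * g⁻¹) * s⁻¹ = z → c * z = tR hK * c →
        ∃ g : ↥(Gr K m), g * y * g⁻¹ = tR hK := fun c z hz hc => ⟨c * s * g, by
      rw [show c * s * g * y * (c * s * g)⁻¹ = c * (s * (g * y * g⁻¹) * s⁻¹) * c⁻¹ by group, hz, hc,
        mul_inv_cancel_right]⟩
    rcases hk1 with hh1 | hh1
    · refine e3 ⟨_, hm1⟩ S.n (by rw [e2, hh1, inv_one, mul_one]) (Subtype.ext ?_)
      show (wordEl goodG2 conjN : GL chevG2.Idx K) * (nG K) = goodG2.torus _ * wordEl goodG2 conjN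
      rw [show (nG K) = wordEl goodG2 reeTopWord from reeN_word, torus_neg_word, ← wordEl_append,
        ← wordEl_append]
      exact wordEl_eq goodG2 (p := 3) conjN_check
    · refine e3 ⟨_, hm2⟩ (S.n * tR hK) (by rw [e2, hh1, inv_eq_of_mul_eq_one_right (tR_sq hK)]) (Subtype.ext ?_)
      show (wordEl goodG2 conjNT : GL chevG2.Idx K) * ((nG K) * goodG2.torus _) = goodG2.torus _ * wordEl goodG2 conjNT
      rw [show (nG K) = wordEl goodG2 reeTopWord from reeN_word, torus_neg_word, ← wordEl_append,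
        ← wordEl_append, ← wordEl_append, ← List.append_assoc]
      exact wordEl_eq goodG2 (p := 3) conjNT_check

end Cfsg.Agent.H47.Ree
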