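import Cfsg.Agent.H47.Ree.SLTwo
import Cfsg.Agent.H20.Hyperplane
import Mathlib.GroupTheory.Transfer

/-!
Centralisers of the elements of prime order of the two tori of orders `q - 1` and `q + 1`.
-/

set_option autoImplicit false

open Cfsg.Lie Cfsg.Agent.H46
open scoped Matrix MatrixGroups

namespace Cfsg.Agent.H47.Ree

open Cfsg.Agent.H48.Ree (W Gr Ur Hr Br)

/-- An element of prime order is conjugate into any subgroup of index prime to it. -/
theorem exists_conj_mem {G : Type*} [Group G] [Finite G] {M : Subgroup G} {ℓ : ℕ} (hℓ : ℓ.Prime)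
    (hM : ¬ ℓ ∣ M.index) {x : G} (hx : orderOf x = ℓ) : ∃ g : G, g * x * g⁻¹ ∈ M := by
  have := Fact.mk hℓ
  let Q : Sylow ℓ ↥M := default
  have hp : IsPGroup ℓ ↥((Q : Subgroup ↥M).map M.subtype) := Q.isPGroup'.map _
  have hidx : ¬ ℓ ∣ ((Q : Subgroup ↥M).map M.subtype).index := by
    rw [Subgroup.index_map_subtype]
    exact hℓ.not_dvd_mul Q.not_dvd_index hM
  let P₀ : Sylow ℓ G := hp.toSylow hidx
  obtain ⟨P, hP⟩ := (IsPGroup.of_card (n := 1) (by rw [Nat.card_zpowers, hx, pow_one]) :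
    IsPGroup ℓ ↥(Subgroup.zpowers x)).exists_le_sylow
  obtain ⟨g, hg⟩ := MulAction.exists_smul_eq G P P₀
  refine ⟨g, ?_⟩
  have h1 : g * x * g⁻¹ ∈ (P₀ : Subgroup G) := by
    rw [← hg, Sylow.coe_subgroup_smul, Subgroup.mem_pointwise_smul_iff_inv_smul_mem]
    simpa [MulAut.smul_def, mul_assoc] using hP (Subgroup.mem_zpowers x)
  exact Subgroup.map_subtype_le _ h1

theorem orderOf_conj {G : Type*} [Group G] (g x : G) : orderOf (g * x * g⁻¹) = orderOf x :=
  orderOf_injective (MulAut.conj g).toMonoidHom (MulAut.conj g).injective x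

/-- Arithmetic of `q = 3 ^ (2m+1)`. -/
theorem q_arith (m : ℕ) : ∃ k k', Odd k ∧ Odd k' ∧ 3 ^ (2 * m + 1) + 1 = 4 * k ∧ 3 ^ (2 * m + 1) - 1 = 2 * k' ∧
    3 ^ (2 * m + 1) % 3 = 0 ∧ k = k' / 2 + 1 := by
  have h8 : 3 ^ (2 * m + 1) % 8 = 3 := by rw [pow_succ, pow_mul, Nat.mul_mod, Nat.pow_mod]; simp
  have h3 : 3 ^ (2 * m + 1) % 3 = 0 := by rw [pow_succ, Nat.mul_mod_left]
  generalize 3 ^ (2 * m + 1) = q at h8 h3
  exact ⟨(q + 1) / 4, (q - 1) / 2, Nat.odd_iff.2 (by omega), Nat.odd_iff.2 (by omega), by omega, by omega, h3,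
    by omega⟩

variable {K : Type*} [Field K] [Fintype K] {m : ℕ}

/-- The centraliser of an element of odd prime order of `H` is `H`. -/
theorem centralizer_H (hK : Fintype.card K = 3 ^ (2 * m + 1)) {x : ↥(Gr K m)} (hx : x ∈ (cell hK).H)
    {ℓ : ℕ} (hℓ : ℓ.Prime) (hℓ2 : ℓ ≠ 2) (ho : orderOf x = ℓ) :
    Subgroup.centralizer ({x} : Set ↥(Gr K m)) = (cell hK).H := by
  haveI := (H48.Ree.field_data hK).1
  refine le_antisymm (fun g hg => ?_) fun h hh => Subgroup.mem_centralizer_singleton_iff.2 (comm_H hK h hh x hx)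
  rw [Subgroup.mem_centralizer_singleton_iff] at hg
  rcases (cell hK).commute_torus (comm_H hK) hx hg with ⟨u, hu, h, hh, rfl, hc⟩ | ⟨h2, -⟩
  · have hbot := H48.Ree.diagonal_fixed_free (H48.Ree.field_data hK).2 (H48.Ree.uShape hK) (x : GL chevG2.Idx K)
      hx (fun e => by
        rw [show x = 1 from Subtype.ext e, orderOf_one] at ho
        exact hℓ.one_lt.ne ho)
      (by rw [Subgroup.orderOf_coe, ho]; exact hℓ.odd_of_ne_two hℓ2)
    have : (u : GL chevG2.Idx K) = 1 := (Subgroup.eq_bot_iff_forall _).1 hbot _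
      ⟨hu, Subgroup.mem_centralizer_singleton_iff.2 (congrArg Subtype.val hc)⟩
    rw [show u = 1 from Subtype.ext this, one_mul]; exact hh
  · exfalso
    have := orderOf_dvd_of_pow_eq_one (x := x) (n := 2) (by rw [pow_two, h2])
    rw [ho] at this
    exact hℓ2 ((Nat.prime_dvd_prime_iff_eq hℓ Nat.prime_two).1 this)

/-- An element of odd prime order dividing `q - 1` is conjugate into `H`. -/
theorem exists_conj_H (hK : Fintype.card K = 3 ^ (2 * m + 1)) {x : ↥(Gr K m)} {ℓ : ℕ} (hℓ : ℓ.Prime) (hℓ2 : ℓ ≠ 2)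
    (hd : ℓ ∣ 3 ^ (2 * m + 1) - 1) (ho : orderOf x = ℓ) : ∃ g, g * x * g⁻¹ ∈ (cell hK).H := by
  refine exists_conj_mem hℓ (fun h => ?_) ho
  have e := (cell hK).H.card_mul_index
  rw [card_H hK, card_R hK] at e
  have hidx : (cell hK).H.index = (3 ^ (2 * m + 1)) ^ 3 * ((3 ^ (2 * m + 1)) ^ 3 + 1) := by
    refine Nat.eq_of_mul_eq_mul_left ?_ (e.trans (by ring))
    exact Nat.sub_pos_of_lt (Nat.one_lt_pow (by omega) (by norm_num))
  rw [hidx] at h
  have h1 : 1 ≤ 3 ^ (2 * m + 1) := Nat.one_le_pow _ _ (by norm_num)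
  clear e hidx
  generalize 3 ^ (2 * m + 1) = q at h hd h1
  have hmod : q ≡ 1 [MOD ℓ] := ((Nat.modEq_iff_dvd' h1).2 hd).symm
  rcases hℓ.dvd_mul.1 h with h' | h'
  · have : q ^ 3 ≡ 1 [MOD ℓ] := by simpa using hmod.pow 3
    have := this.symm.trans (Nat.modEq_zero_iff_dvd.2 h')
    exact hℓ.one_lt.ne' (Nat.dvd_one.1 (Nat.modEq_zero_iff_dvd.1 this))
  · have : q ^ 3 + 1 ≡ 2 [MOD ℓ] := by simpa using (hmod.pow 3).add_right 1
    have := this.symm.trans (Nat.modEq_zero_iff_dvd.2 h')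
    exact hℓ2 ((Nat.prime_dvd_prime_iff_eq hℓ Nat.prime_two).1 (Nat.modEq_zero_iff_dvd.1 this))

/-- The centraliser of the torus involution `t` is the image of `SL₂` together with its translate by `t`. -/
theorem exists_split_centralizer (hK : Fintype.card K = 3 ^ (2 * m + 1)) :
    ∃ φ : Matrix.SpecialLinearGroup (Fin 2) K →* ↥(Gr K m),
      (∀ g, φ g = 1 ↔ g.1 = 1 ∨ g.1 = -1) ∧ 2 * Nat.card ↥φ.range = Nat.card (Matrix.SpecialLinearGroup (Fin 2) K) ∧
      tR hK ∉ φ.range ∧ (∀ g, φ g * tR hK = tR hK * φ g) ∧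
      (∀ x, x * tR hK = tR hK * x → x ∈ φ.range ∨ tR hK * x ∈ φ.range) ∧
      ∀ x, x * tR hK = tR hK * x → Odd (orderOf x) → x ∈ φ.range := by
  classical
  haveI := (H48.Ree.field_data hK).1
  obtain ⟨φ, hX, hW, hc⟩ := exists_slHom hK
  obtain ⟨hker, hrange, htL⟩ := slHom_facts hK hX hW
  set t := tR hK
  have htC : ∀ x, x * t = t * x → x ∈ φ.range ∨ t * x ∈ φ.range := by
    have hle : φ.range ≤ Subgroup.centralizer ({t} : Set ↥(Gr K m)) := by
      rintro _ ⟨g, rfl⟩; exact Subgroup.mem_centralizer_singleton_iff.2 (hc g)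
    have hidx : (φ.range.subgroupOf (Subgroup.centralizer ({t} : Set ↥(Gr K m)))).index = 2 := by
      have e := (φ.range.subgroupOf (Subgroup.centralizer ({t} : Set ↥(Gr K m)))).card_mul_index
      rw [Nat.card_congr (Subgroup.subgroupOfEquivOfLe hle).toEquiv, card_centralizer_tR hK] at e
      have hr := hrange
      rw [card_sl_two, hK] at hr
      have h1 : 1 ≤ 3 ^ (2 * m + 1) := Nat.one_le_pow _ _ (by norm_num)
      have hpos : 0 < Nat.card ↥φ.range := Nat.card_pos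
      generalize 3 ^ (2 * m + 1) = q at e hr h1
      have : (q - 1) * (q + 1) = q ^ 2 - 1 := by
        zify [h1, Nat.one_le_pow 2 q h1]; ring
      refine Nat.eq_of_mul_eq_mul_left hpos (e.trans ?_)
      rw [mul_assoc, this, ← hr, mul_comm]
    intro x hx
    by_contra hcon
    rw [not_or] at hcon
    have htmem : t ∈ Subgroup.centralizer ({t} : Set ↥(Gr K m)) := Subgroup.mem_centralizer_singleton_iff.2 rfl
    have hxmem : x ∈ Subgroup.centralizer ({t} : Set ↥(Gr K m)) := Subgroup.mem_centralizer_singleton_iff.2 hx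
    have := (Subgroup.mul_mem_iff_of_index_two hidx (a := ⟨t, htmem⟩) (b := ⟨x, hxmem⟩)).2
      (by simp only [Subgroup.mem_subgroupOf]; exact iff_of_false htL hcon.1)
    exact hcon.2 (Subgroup.mem_subgroupOf.1 this)
  have hoddL : ∀ x, x * t = t * x → Odd (orderOf x) → x ∈ φ.range := by
    intro x hx ho
    refine (htC x hx).resolve_right fun hmem => htL ?_
    have h1 : (t * x) ^ orderOf x = t := by
      rw [(show Commute t x from hx.symm).mul_pow, pow_orderOf_eq_one, mul_one]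
      obtain ⟨i, hi⟩ := ho
      rw [hi, pow_succ, pow_mul, pow_two, tR_sq, one_pow, one_mul]
    rw [← h1]; exact pow_mem hmem _
  exact ⟨φ, hker, hrange, htL, hc, htC, hoddL⟩

/-- The torus of order `(q + 1) / 2` in the centraliser of the involution. -/
theorem exists_torus (hK : Fintype.card K = 3 ^ (2 * m + 1)) :
    ∃ T : Subgroup ↥(Gr K m), IsCyclic ↥T ∧ 2 * Nat.card ↥T = 3 ^ (2 * m + 1) + 1 ∧ tR hK ∉ T ∧
      (∀ x ∈ T, x * tR hK = tR hK * x) ∧
      (∀ x ∈ T, ∀ ℓ : ℕ, ℓ.Prime → ℓ ≠ 2 → orderOf x = ℓ → ∀ c, c * x = x * c → c * tR hK = tR hK * c →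
        ∃ h ∈ T, c = h ∨ c = tR hK * h) ∧
      ∀ x, x * tR hK = tR hK * x → ∀ ℓ : ℕ, ℓ.Prime → ℓ ≠ 2 → orderOf x = ℓ → ℓ ∣ 3 ^ (2 * m + 1) + 1 →
        ∃ g, g * tR hK = tR hK * g ∧ g * x * g⁻¹ ∈ T := by
  classical
  haveI := (H48.Ree.field_data hK).1
  obtain ⟨φ, hker, hrange, htL, hc, htC, hoddL⟩ := exists_split_centralizer (m := m) hK
  have hodd : Odd (Fintype.card K) := by rw [hK]; exact Odd.pow (by decide)
  obtain ⟨T', hcyc, hT', hself, hcen, -⟩ := Cfsg.Agent.S2429.result (F := K) hodd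
  set t := tR hK
  have h2 : (2 : K) ≠ 0 := fun h => one_ne_zero (α := K) (by linear_combination (H48.Ree.three0 (F := K)) - h)
  let z : Matrix.SpecialLinearGroup (Fin 2) K := slW * slW
  have hz : z.1 = -1 := by
    ext i j; fin_cases i <;> fin_cases j <;>
      simp [z, sl_mul_val, coe_slW, Matrix.mul_apply, Fin.sum_univ_two]
  have hzc : ∀ g, z * g = g * z := fun g => Subtype.ext (show z.1 * g.1 = g.1 * z.1 by rw [hz]; simp)
  have hz1 : z ≠ 1 := fun h => h2 (by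
    have := congrArg (fun x : Matrix.SpecialLinearGroup (Fin 2) K => x.1 0 0) h
    simp only [hz, Matrix.neg_apply, Matrix.one_apply_eq, Matrix.SpecialLinearGroup.coe_one] at this
    linear_combination -this)
  have hz2 : z * z = 1 := Subtype.ext (show z.1 * z.1 = 1 by rw [hz]; simp)
  have hzT : z ∈ T' := by
    rw [← hself]; exact Subgroup.mem_centralizer_iff.2 fun g _ => (hzc g).symm
  have hlift : ∀ (x : ↥(Gr K m)) (ℓ : ℕ), ℓ.Prime → ℓ ≠ 2 → orderOf x = ℓ →
      ∀ g₀, φ g₀ = x → orderOf (g₀ ^ (ℓ + 1)) = ℓ ∧ φ (g₀ ^ (ℓ + 1)) = x := by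
    intro x ℓ hℓ hℓ2 ho g₀ hg₀
    have e : φ (g₀ ^ (ℓ + 1)) = x := by
      rw [map_pow, hg₀, pow_succ, ← ho, pow_orderOf_eq_one, one_mul]
    have := Fact.mk hℓ
    refine ⟨orderOf_eq_prime ?_ fun h => ?_, e⟩
    · have h1 : φ (g₀ ^ ℓ) = 1 := by rw [map_pow, hg₀, ← ho, pow_orderOf_eq_one]
      obtain ⟨i, hi⟩ := hℓ.odd_of_ne_two hℓ2
      rw [← pow_mul, mul_comm, pow_mul, show ℓ + 1 = 2 * (i + 1) by omega, pow_mul]
      rcases (hker _).1 h1 with h | h
      · rw [show g₀ ^ ℓ = 1 from Subtype.ext h]; simp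
      · rw [show g₀ ^ ℓ = z from Subtype.ext (h.trans hz.symm), pow_two, hz2, one_pow]
    · rw [h, map_one] at e
      rw [← e, orderOf_one] at ho
      exact hℓ.one_lt.ne ho
  refine ⟨T'.map φ, isCyclic_of_surjective _ (φ.subgroupMap_surjective T'), ?_, fun h => htL ?_, ?_, ?_, ?_⟩
  · set f := φ.comp T'.subtype
    have hk : Nat.card ↥f.ker = 2 := by
      rw [Nat.card_eq_two_iff]
      refine ⟨1, ⟨⟨z, hzT⟩, (hker z).2 (Or.inr hz)⟩, fun h => hz1 (congrArg (fun w : ↥f.ker => w.1.1) h).symm, ?_⟩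
      ext ⟨⟨x, hxT⟩, hx⟩
      simp only [Set.mem_insert_iff, Set.mem_singleton_iff, Set.mem_univ, iff_true, Subtype.ext_iff]
      rcases (hker x).1 hx with h | h
      · exact Or.inl (Subtype.ext h)
      · exact Or.inr (Subtype.ext (h.trans hz.symm))
    have h := Subgroup.card_eq_card_quotient_mul_card_subgroup f.ker
    rw [Nat.card_congr (QuotientGroup.quotientKerEquivRange f).toEquiv, hk, hT', hK] at h
    rw [show T'.map φ = f.range by rw [MonoidHom.range_comp, Subgroup.range_subtype]]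
    omega
  · obtain ⟨g, -, hg⟩ := h; exact ⟨g, hg⟩
  · rintro _ ⟨g, -, rfl⟩; exact hc g
  · rintro _ ⟨g₀, hg₀, rfl⟩ ℓ hℓ hℓ2 ho c hcx hct
    obtain ⟨hgo, hge⟩ := hlift _ ℓ hℓ hℓ2 ho g₀ rfl
    set g := g₀ ^ (ℓ + 1)
    have hgT : g ∈ T' := pow_mem hg₀ _
    have key : ∀ h, φ h * φ g = φ g * φ h → φ h ∈ T'.map φ := by
      intro h hh
      refine ⟨h, ?_, rfl⟩
      have hne : ∀ (w : Matrix.SpecialLinearGroup (Fin 2) K), w ^ 2 = 1 → g ≠ w := fun w hw e => by
        have := orderOf_dvd_of_pow_eq_one (x := g) (n := 2) (e ▸ hw)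
        rw [hgo] at this
        exact hℓ2 ((Nat.prime_dvd_prime_iff_eq hℓ Nat.prime_two).1 this)
      rw [← hcen g hgT (fun e => hne 1 (one_pow _) (Subtype.ext e))
        (fun e => hne z (by rw [pow_two, hz2]) (Subtype.ext (e.trans hz.symm))), SetLike.mem_coe,
        Subgroup.mem_centralizer_singleton_iff]
      have h1 : φ ((g * h)⁻¹ * (h * g)) = 1 := by rw [map_mul, map_inv, map_mul, map_mul, hh, inv_mul_cancel]
      have e : h * g = g * h * ((g * h)⁻¹ * (h * g)) := (mul_inv_cancel_left _ _).symm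
      rcases (hker _).1 h1 with h2' | h2'
      · rw [e, show (g * h)⁻¹ * (h * g) = 1 from Subtype.ext h2', mul_one]
      · exfalso
        rw [show (g * h)⁻¹ * (h * g) = z from Subtype.ext (h2'.trans hz.symm)] at e
        have e3 : h * g * h⁻¹ = g * z := by
          rw [e, mul_assoc g h z, ← hzc h]; group
        have e4 : (h * g * h⁻¹) ^ ℓ = 1 := by rw [conj_pow, ← hgo, pow_orderOf_eq_one, mul_one, mul_inv_cancel]
        obtain ⟨i, hi⟩ := hℓ.odd_of_ne_two hℓ2
        rw [e3, (show Commute g z from (hzc g).symm).mul_pow, ← hgo, pow_orderOf_eq_one, one_mul, hgo, hi, pow_succ,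
          pow_mul, pow_two, hz2, one_pow, one_mul] at e4
        exact hz1 e4
    rw [← hge] at hcx
    rcases htC c hct with ⟨h, hh⟩ | ⟨h, hh⟩
    · exact ⟨c, hh ▸ key h (by rw [hh, hcx]), Or.inl rfl⟩
    · refine ⟨t * c, hh ▸ key h ?_, Or.inr (by rw [← mul_assoc, tR_sq, one_mul])⟩
      rw [hh, mul_assoc, hcx, ← mul_assoc, ← hc g, mul_assoc]
  · intro x hx ℓ hℓ hℓ2 ho hd
    obtain ⟨g₀, hg₀⟩ := hoddL x hx (ho ▸ hℓ.odd_of_ne_two hℓ2)
    obtain ⟨hgo, hge⟩ := hlift x ℓ hℓ hℓ2 ho g₀ hg₀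
    have hidx : ¬ ℓ ∣ T'.index := by
      intro h
      have e := T'.card_mul_index
      rw [hT', card_sl_two, hK] at e
      have h1 : 1 ≤ 3 ^ (2 * m + 1) := Nat.one_le_pow _ _ (by norm_num)
      have h3 : 3 ^ (2 * m + 1) % 3 = 0 := by rw [pow_succ, Nat.mul_mod_left]
      generalize 3 ^ (2 * m + 1) = q at h e hd h1 h3
      have hi : T'.index = q * (q - 1) := Nat.eq_of_mul_eq_mul_left (show 0 < q + 1 by omega) (e.trans (by
        zify [h1, Nat.one_le_pow 2 q h1]; ring))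
      rw [hi] at h
      rcases hℓ.dvd_mul.1 h with h' | h'
      · exact hℓ.one_lt.ne' (Nat.dvd_one.1 ((Nat.dvd_add_right h').1 hd))
      · have := Nat.dvd_sub hd h'
        rw [show q + 1 - (q - 1) = 2 by omega] at this
        exact hℓ2 ((Nat.prime_dvd_prime_iff_eq hℓ Nat.prime_two).1 this)
    obtain ⟨g, hg⟩ := exists_conj_mem hℓ hidx hgo
    exact ⟨φ g, hc g, _, hg, by rw [map_mul, map_mul, map_inv, hge]⟩

/-- An element of order three does not centralise one of prime order `ℓ` prime to `3 (q - 1)`. -/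
theorem not_commute_three (hK : Fintype.card K = 3 ^ (2 * m + 1)) {w y : ↥(Gr K m)} (hw : orderOf w = 3)
    {ℓ : ℕ} (hℓ : ℓ.Prime) (hy : orderOf y = ℓ) (h3 : ℓ ≠ 3) (hH : ¬ ℓ ∣ 3 ^ (2 * m + 1) - 1) :
    w * y ≠ y * w := by
  intro hwy
  set S := cell hK
  have hidx : ¬ 3 ∣ S.U.index := by
    intro h
    have e := S.U.card_mul_index
    rw [card_U hK, card_R hK, mul_assoc] at e
    rw [Nat.eq_of_mul_eq_mul_left (pow_pos (pow_pos (by norm_num) _) 3) e] at h
    have h1 : 1 ≤ 3 ^ (2 * m + 1) := Nat.one_le_pow _ _ (by norm_num)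
    have h3 : 3 ^ (2 * m + 1) % 3 = 0 := by rw [pow_succ, Nat.mul_mod_left]
    generalize 3 ^ (2 * m + 1) = q at h h1 h3
    rcases Nat.prime_three.dvd_mul.1 h with h' | h'
    · omega
    · have : 3 ∣ q ^ 3 := dvd_pow (Nat.dvd_of_mod_eq_zero h3) (by norm_num)
      omega
  obtain ⟨g, hg⟩ := exists_conj_mem Nat.prime_three hidx hw
  have hne : g * w * g⁻¹ ≠ 1 := fun e => by
    have := orderOf_conj g w
    rw [e, orderOf_one, hw] at this
    omega
  obtain ⟨u, hu, h, hh, e⟩ := S.commute_unipotent hg hne (g := g * y * g⁻¹) (by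
    calc g * y * g⁻¹ * (g * w * g⁻¹) = g * (y * w) * g⁻¹ := by group
      _ = g * w * g⁻¹ * (g * y * g⁻¹) := by rw [← hwy]; group)
  have hy' : orderOf (u * h) = ℓ := by rw [← e, orderOf_conj, hy]
  -- the powers of `uh`
  have hpow : ∀ n : ℕ, ∃ v ∈ S.U, (u * h) ^ n = v * h ^ n := by
    intro n
    induction n with
    | zero => exact ⟨1, one_mem _, by simp⟩
    | succ n ih =>
      obtain ⟨v, hv, e⟩ := ih
      refine ⟨v * (h ^ n * u * (h ^ n)⁻¹), mul_mem hv (S.conjU _ (pow_mem hh n) u hu), ?_⟩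
      rw [pow_succ, e, pow_succ]; group
  obtain ⟨v, hv, hv'⟩ := hpow ℓ
  rw [← hy', pow_orderOf_eq_one, hy'] at hv'
  have hhl : h ^ ℓ = 1 := (S.uniq_borel (one_mem _) hv (one_mem _) (pow_mem hh ℓ) (by rw [one_mul]; exact hv')).2.symm
  have hh1 : h = 1 := by
    have h1 := orderOf_dvd_of_pow_eq_one hhl
    rcases (Nat.dvd_prime hℓ).1 h1 with h2 | h2
    · exact orderOf_eq_one_iff.1 h2
    · exfalso
      have h4 := Subgroup.orderOf_dvd_natCard _ hh
      rw [card_H hK, h2] at h4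
      exact hH h4
  rw [hh1, mul_one] at hy'
  have h5 := Subgroup.orderOf_dvd_natCard _ hu
  rw [card_U hK, hy'] at h5
  exact h3 ((Nat.prime_dvd_prime_iff_eq hℓ Nat.prime_three).1 (hℓ.dvd_of_dvd_pow (hℓ.dvd_of_dvd_pow h5)))

/-- The centraliser of an element of prime order of the torus of order `q + 1`. -/
theorem centralizer_torus (hK : Fintype.card K = 3 ^ (2 * m + 1)) :
    ∃ T A : Subgroup ↥(Gr K m), T ≤ A ∧ IsCyclic ↥T ∧ 2 * Nat.card ↥T = 3 ^ (2 * m + 1) + 1 ∧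
      (∀ a ∈ A, ∀ b ∈ A, a * b = b * a) ∧ Nat.card ↥A = 3 ^ (2 * m + 1) + 1 ∧
      (∀ a ∈ A, orderOf a ≠ 4) ∧ (∀ a ∈ A, Odd (orderOf a) → a ∈ T) ∧
      ∀ (x : ↥(Gr K m)) (ℓ : ℕ), ℓ.Prime → ℓ ≠ 2 → ℓ ∣ 3 ^ (2 * m + 1) + 1 → orderOf x = ℓ →
        ∃ g, g * x * g⁻¹ ∈ T ∧ Subgroup.centralizer ({g * x * g⁻¹} : Set ↥(Gr K m)) = A := by
  classical
  obtain ⟨k, k', hk, -, hq, hk', hq3, -⟩ := q_arith m
  obtain ⟨T, hcyc, hT, htT, hct, hcen, hconj⟩ := exists_torus hK
  set t := tR hK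
  have hTk : Nat.card ↥T = 2 * k := by omega
  have hTc : ∀ a ∈ T, ∀ b ∈ T, a * b = b * a := fun a ha b hb => by
    letI : CommGroup ↥T := IsCyclic.commGroup
    exact congrArg Subtype.val (mul_comm (⟨a, ha⟩ : ↥T) ⟨b, hb⟩)
  let A : Subgroup ↥(Gr K m) :=
    { carrier := {c | ∃ h ∈ T, c = h ∨ c = t * h}
      one_mem' := ⟨1, one_mem T, Or.inl rfl⟩
      mul_mem' := by
        rintro a b ⟨g, hg, ha⟩ ⟨h, hh, hb⟩
        refine ⟨g * h, mul_mem hg hh, ?_⟩
        rcases ha with rfl | rfl <;> rcases hb with rfl | rfl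
        · exact Or.inl rfl
        · exact Or.inr (by rw [← mul_assoc, hct _ hg, mul_assoc])
        · exact Or.inr (mul_assoc _ _ _)
        · left
          rw [mul_assoc t g, ← mul_assoc g t, hct _ hg, ← mul_assoc, ← mul_assoc, tR_sq, one_mul]
      inv_mem' := by
        rintro a ⟨g, hg, ha⟩
        refine ⟨g⁻¹, inv_mem hg, ?_⟩
        rcases ha with rfl | rfl
        · exact Or.inl rfl
        · right
          rw [mul_inv_rev, inv_eq_of_mul_eq_one_right (tR_sq hK), hct _ (inv_mem hg)] }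
  have hTA : T ≤ A := fun h hh => ⟨h, hh, Or.inl rfl⟩
  have htA : t ∈ A := ⟨1, one_mem T, Or.inr (mul_one t).symm⟩
  have hAc : ∀ a ∈ A, ∀ b ∈ A, a * b = b * a := by
    have h1 : ∀ g ∈ T, ∀ b ∈ A, g * b = b * g := by
      rintro g hg b ⟨h, hh, rfl | rfl⟩
      · exact hTc g hg _ hh
      · rw [← mul_assoc, hct g hg, mul_assoc, hTc g hg h hh, ← mul_assoc]
    rintro a ⟨g, hg, rfl | rfl⟩ b hb
    · exact h1 _ hg b hb
    · obtain ⟨h, hh, rfl | rfl⟩ := hb
      · exact (h1 _ hh _ ⟨g, hg, Or.inr rfl⟩).symm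
      · rw [mul_assoc t g, h1 g hg (t * h) ⟨h, hh, Or.inr rfl⟩, ← mul_assoc, ← mul_assoc, tR_sq,
          ← mul_assoc (t * h), mul_assoc t h t, hct h hh, ← mul_assoc t t h, tR_sq]
  have hAcard : Nat.card ↥A = 3 ^ (2 * m + 1) + 1 := by
    rw [← hT, two_mul, ← Nat.card_sum]
    refine (Nat.card_eq_of_bijective (Sum.elim (fun h => ⟨h.1, hTA h.2⟩) fun h => ⟨t * h.1, mul_mem htA (hTA h.2)⟩)
      ⟨?_, ?_⟩).symm
    · rintro (⟨a, ha⟩ | ⟨a, ha⟩) (⟨b, hb⟩ | ⟨b, hb⟩) e
      · obtain rfl : a = b := congrArg Subtype.val e; rfl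
      · exfalso
        have e' : a = t * b := congrArg Subtype.val e
        exact htT (by rw [← mul_inv_cancel_right t b, ← e']; exact mul_mem ha (inv_mem hb))
      · exfalso
        have e' : t * a = b := congrArg Subtype.val e
        exact htT (by rw [← mul_inv_cancel_right t a, e']; exact mul_mem hb (inv_mem ha))
      · obtain rfl : a = b := mul_left_cancel (congrArg Subtype.val e); rfl
    · rintro ⟨a, h, hh, rfl | rfl⟩
      · exact ⟨Sum.inl ⟨_, hh⟩, rfl⟩
      · exact ⟨Sum.inr ⟨h, hh⟩, rfl⟩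
  have hpow : ∀ a ∈ A, a ^ (2 * k) = 1 := by
    rintro a ⟨h, hh, ha⟩
    have h1 : h ^ (2 * k) = 1 := by
      rw [← hTk]; exact congrArg Subtype.val (pow_card_eq_one' (x := (⟨h, hh⟩ : ↥T)))
    rcases ha with rfl | rfl
    · exact h1
    · rw [(show Commute t h from (hct h hh).symm).mul_pow, h1, mul_one, pow_mul, pow_two, tR_sq, one_pow]
  have h4 : ∀ a ∈ A, orderOf a ≠ 4 := fun a ha e => by
    have := orderOf_dvd_of_pow_eq_one (hpow a ha)
    rw [e, Nat.odd_iff] at *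
    omega
  have hAodd : ∀ a ∈ A, Odd (orderOf a) → a ∈ T := by
    rintro a ⟨h, hh, rfl | rfl⟩ ho
    · exact hh
    · exfalso
      obtain ⟨i, hi⟩ := ho
      have e : (t * h) ^ (2 * i + 1) = 1 := by rw [← hi, pow_orderOf_eq_one]
      rw [(show Commute t h from (hct h hh).symm).mul_pow, pow_succ t, pow_mul t, pow_two, tR_sq, one_pow, one_mul,
        mul_eq_one_iff_eq_inv] at e
      exact htT (by rw [e]; exact inv_mem (pow_mem hh _))
  refine ⟨T, A, hTA, hcyc, hT, hAc, hAcard, h4, hAodd, ?_⟩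
  intro x ℓ hℓ hℓ2 hd ho
  have hℓ3 : ℓ ≠ 3 := fun e => by
    subst e
    have := Nat.mod_eq_zero_of_dvd hd
    omega
  have hℓq : ¬ ℓ ∣ 3 ^ (2 * m + 1) - 1 := fun h => by
    have := Nat.dvd_sub hd h
    rw [show 3 ^ (2 * m + 1) + 1 - (3 ^ (2 * m + 1) - 1) = 2 by omega] at this
    exact hℓ2 ((Nat.prime_dvd_prime_iff_eq hℓ Nat.prime_two).1 this)
  -- conjugation into `T`
  have hidx : ¬ ℓ ∣ (Subgroup.centralizer ({t} : Set ↥(Gr K m))).index := by
    intro h
    have e := (Subgroup.centralizer ({t} : Set ↥(Gr K m))).card_mul_index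
    rw [card_centralizer_tR hK, card_R hK] at e
    have h1' : 1 < 3 ^ (2 * m + 1) := Nat.one_lt_pow (by omega) (by norm_num)
    have h1 := h1'.le
    clear hAcard hT hℓq hq hk' hq3
    generalize 3 ^ (2 * m + 1) = q at h e hd h1 h1'
    obtain ⟨r, hr⟩ : ∃ r, q ^ 2 = r + q := ⟨q ^ 2 - q, (Nat.sub_add_cancel (Nat.le_self_pow (by norm_num) q)).symm⟩
    have hi : (Subgroup.centralizer ({t} : Set ↥(Gr K m))).index = q ^ 2 * (r + 1) := by
      refine Nat.eq_of_mul_eq_mul_left (show 0 < q * (q - 1) * (q + 1) by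
        have : 0 < q - 1 := by omega
        positivity) (e.trans ?_)
      have hr' : (r : ℤ) = (q : ℤ) ^ 2 - q := by
        have : ((q : ℤ)) ^ 2 = r + q := by exact_mod_cast hr
        linarith
      zify [h1]
      rw [hr']
      ring
    rw [hi] at h
    rcases hℓ.dvd_mul.1 h with h' | h'
    · exact hℓ.one_lt.ne' (Nat.dvd_one.1 ((Nat.dvd_add_right (hℓ.dvd_of_dvd_pow h')).1 hd))
    · have h2 : (ℓ : ℤ) ∣ (r : ℤ) + 1 - ((q : ℤ) + 1) * ((q : ℤ) - 2) :=
        dvd_sub (by exact_mod_cast h') ((show (ℓ : ℤ) ∣ (q : ℤ) + 1 by exact_mod_cast hd).mul_right _)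
      have h3 : (r : ℤ) + 1 - ((q : ℤ) + 1) * ((q : ℤ) - 2) = 3 := by
        have : ((q : ℤ)) ^ 2 = r + q := by exact_mod_cast hr
        linear_combination -this
      rw [h3] at h2
      exact hℓ3 ((Nat.prime_dvd_prime_iff_eq hℓ Nat.prime_three).1 (by exact_mod_cast h2))
  obtain ⟨g₁, hg₁⟩ := exists_conj_mem hℓ hidx ho
  obtain ⟨g₂, -, hg₂⟩ := hconj _ (Subgroup.mem_centralizer_singleton_iff.1 hg₁) ℓ hℓ hℓ2
    (by rw [orderOf_conj, ho]) hd
  refine ⟨g₂ * g₁, ?_⟩
  have e : g₂ * g₁ * x * (g₂ * g₁)⁻¹ = g₂ * (g₁ * x * g₁⁻¹) * g₂⁻¹ := by group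
  rw [e]
  refine ⟨hg₂, ?_⟩
  set y := g₂ * (g₁ * x * g₁⁻¹) * g₂⁻¹
  have hyo : orderOf y = ℓ := by rw [orderOf_conj, orderOf_conj, ho]
  set C := Subgroup.centralizer ({y} : Set ↥(Gr K m)) with hC
  have hAC : A ≤ C := fun a ha => Subgroup.mem_centralizer_singleton_iff.2 (hAc a ha y (hTA hg₂))
  -- centralisers of the three involutions in `C`
  have hCt : ∀ z ∈ T, orderOf z = ℓ →
      Subgroup.centralizer ({t} : Set ↥(Gr K m)) ⊓ Subgroup.centralizer {z} = A := by
    intro z hz hzo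
    refine le_antisymm (fun c hc => ?_) fun a ha => ⟨Subgroup.mem_centralizer_singleton_iff.2 (hAc a ha t htA),
      Subgroup.mem_centralizer_singleton_iff.2 (hAc a ha z (hTA hz))⟩
    exact hcen z hz ℓ hℓ hℓ2 hzo c (Subgroup.mem_centralizer_singleton_iff.1 hc.2)
      (Subgroup.mem_centralizer_singleton_iff.1 hc.1)
  have hv : ∀ v ∈ A, v * v = 1 → v ≠ 1 → C ⊓ Subgroup.centralizer ({v} : Set ↥(Gr K m)) = A := by
    intro v hvA hv2 hv1
    obtain ⟨a, ha⟩ := involution_conj hK (y := v) (orderOf_eq_prime (by rw [pow_two, hv2]) hv1)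
    have hcomm : a * y * a⁻¹ * t = t * (a * y * a⁻¹) := by
      rw [show a * y * a⁻¹ * t = a * (y * v) * a⁻¹ by rw [show t = a * v * a⁻¹ from ha.symm]; group,
        hAc y (hTA hg₂) v hvA, show a * (v * y) * a⁻¹ = a * v * a⁻¹ * (a * y * a⁻¹) by group, ha]
    obtain ⟨b, hbt, hb⟩ := hconj _ hcomm ℓ hℓ hℓ2 (by rw [orderOf_conj, hyo]) hd
    have h1 := hCt _ hb (by rw [orderOf_conj, orderOf_conj, hyo])
    symm
    refine Subgroup.eq_of_le_of_card_ge (le_inf hAC fun c hc =>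
      Subgroup.mem_centralizer_singleton_iff.2 (hAc c hc v hvA)) ?_
    have hle : (C ⊓ Subgroup.centralizer ({v} : Set ↥(Gr K m))).map (MulAut.conj (b * a)).toMonoidHom ≤ A := by
      rintro _ ⟨c, ⟨hcC, hcv⟩, rfl⟩
      rw [← h1]
      have hcC : c * y = y * c := Subgroup.mem_centralizer_singleton_iff.1 hcC
      have hcv : c * v = v * c := Subgroup.mem_centralizer_singleton_iff.1 hcv
      have hbav : b * a * v * (b * a)⁻¹ = t := by
        rw [show b * a * v * (b * a)⁻¹ = b * (a * v * a⁻¹) * b⁻¹ by group, ha, hbt, mul_inv_cancel_right]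
      simp only [MulEquiv.coe_toMonoidHom, MulAut.conj_apply]
      refine ⟨Subgroup.mem_centralizer_singleton_iff.2 ?_, Subgroup.mem_centralizer_singleton_iff.2 ?_⟩
      · rw [← hbav]
        calc b * a * c * (b * a)⁻¹ * (b * a * v * (b * a)⁻¹) = b * a * (c * v) * (b * a)⁻¹ := by group
          _ = b * a * v * (b * a)⁻¹ * (b * a * c * (b * a)⁻¹) := by rw [hcv]; group
      · calc b * a * c * (b * a)⁻¹ * (b * (a * y * a⁻¹) * b⁻¹) = b * a * (c * y) * (b * a)⁻¹ := by group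
          _ = b * (a * y * a⁻¹) * b⁻¹ * (b * a * c * (b * a)⁻¹) := by rw [hcC]; group
    have := Subgroup.card_le_of_le hle
    rwa [Subgroup.card_map_of_injective (MulAut.conj (b * a)).injective] at this
  -- the Klein subgroup
  let V : Subgroup ↥(Gr K m) :=
    { carrier := {v | v ∈ A ∧ v * v = 1}
      one_mem' := ⟨one_mem A, one_mul 1⟩
      mul_mem' := by
        rintro a b ⟨ha, ha2⟩ ⟨hb, hb2⟩
        refine ⟨mul_mem ha hb, ?_⟩
        rw [mul_assoc, ← mul_assoc b a b, hAc b hb a ha, mul_assoc a b b, hb2, mul_one, ha2]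
      inv_mem' := by
        rintro a ⟨ha, ha2⟩
        exact ⟨inv_mem ha, by rw [← mul_inv_rev, ha2, inv_one]⟩ }
  obtain ⟨s, hsT, hs1, hs2, hsu⟩ : ∃ s ∈ T, s ≠ 1 ∧ s * s = 1 ∧ ∀ r ∈ T, r * r = 1 → r = 1 ∨ r = s := by
    letI : CommGroup ↥T := IsCyclic.commGroup
    obtain ⟨s, hs⟩ := exists_prime_orderOf_dvd_card' (G := ↥T) 2 (by rw [hTk]; exact dvd_mul_right 2 k)
    refine ⟨s, s.2, fun h => ?_, congrArg Subtype.val (show s * s = 1 by rw [← pow_two, ← hs, pow_orderOf_eq_one]),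
      fun r hr hr2 => ?_⟩
    · rw [show s = 1 from Subtype.ext h, orderOf_one] at hs; omega
    · by_contra hne
      rw [not_or] at hne
      have hle : ({1, ⟨r, hr⟩, s} : Finset ↥T) ⊆ Finset.univ.filter fun a => a ^ 2 = 1 := by
        intro a ha
        simp only [Finset.mem_insert, Finset.mem_singleton] at ha
        refine Finset.mem_filter.2 ⟨Finset.mem_univ _, ?_⟩
        rcases ha with rfl | rfl | rfl
        · exact one_pow _
        · exact Subtype.ext (by rw [pow_two]; exact hr2)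
        · rw [← hs, pow_orderOf_eq_one]
      have h3 := (Finset.card_le_card hle).trans (IsCyclic.card_pow_eq_one_le (α := ↥T) (n := 2) (by norm_num))
      rw [Finset.card_insert_of_notMem, Finset.card_pair] at h3
      · omega
      · exact fun e => hne.2 (congrArg Subtype.val e)
      · simp only [Finset.mem_insert, Finset.mem_singleton, not_or]
        exact ⟨fun e => hne.1 (congrArg Subtype.val e).symm, fun e => by rw [← e, orderOf_one] at hs; omega⟩
  have hVmem : ∀ v ∈ V, v = 1 ∨ v = t ∨ v = s ∨ v = t * s := by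
    rintro v ⟨⟨h, hh, rfl | rfl⟩, hv2⟩
    · rcases hsu _ hh hv2 with rfl | rfl <;> simp
    · have h2 : h * h = 1 := by
        have h5 : (t * h) * (t * h) = h * h := by
          rw [mul_assoc, ← mul_assoc h t h, hct h hh, mul_assoc t h h, ← mul_assoc, tR_sq, one_mul]
        rw [← h5]; exact hv2
      rcases hsu h hh h2 with rfl | rfl <;> simp
  have hts : t * s ∈ V := mul_mem (show t ∈ V from ⟨htA, tR_sq hK⟩) (show s ∈ V from ⟨hTA hsT, hs2⟩)
  have htV : t ∈ V := ⟨htA, tR_sq hK⟩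
  have hsV : s ∈ V := ⟨hTA hsT, hs2⟩
  have hts1 : t * s ≠ 1 := fun e => htT (by rw [eq_inv_of_mul_eq_one_left e]; exact inv_mem hsT)
  -- the normaliser of `V` in `C`
  have hNV : ∀ g ∈ C, (∀ v ∈ V, g * v * g⁻¹ ∈ V) → g ∈ A := by
    intro g hgC hgV
    have hfix : ∀ v ∈ V, v ≠ 1 → g * v * g⁻¹ = v → g ∈ A := fun v hvV hv1 hgv => by
      rw [← hv v hvV.1 hvV.2 hv1]
      exact ⟨hgC, Subgroup.mem_centralizer_singleton_iff.2 (by rw [mul_inv_eq_iff_eq_mul] at hgv; exact hgv)⟩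
    by_contra hgA
    have hinj : ∀ a b, g * a * g⁻¹ = g * b * g⁻¹ → a = b := fun a b e => mul_left_cancel (mul_right_cancel e)
    have him : ∀ v ∈ V, v ≠ 1 → g * v * g⁻¹ ≠ 1 ∧ g * v * g⁻¹ ≠ v := fun v hvV hv1 =>
      ⟨fun e => hv1 (hinj v 1 (e.trans (by group))), fun e => hgA (hfix v hvV hv1 e)⟩
    have hcyc3 : g ^ 3 * t * (g ^ 3)⁻¹ = t := by
      have hst : ∀ v ∈ V, v ≠ 1 → g * v * g⁻¹ = t ∨ g * v * g⁻¹ = s ∨ g * v * g⁻¹ = t * s := fun v hvV hv1 =>
        (hVmem _ (hgV v hvV)).resolve_left (him v hvV hv1).1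
      have hne1 : s ≠ t := fun e => htT (e ▸ hsT)
      have hne2 : t * s ≠ t := fun e => hs1 (mul_eq_left.1 e)
      have hne3 : t * s ≠ s := fun e => tR_ne_one hK (mul_eq_right.1 e)
      have e3 : g ^ 3 * t * (g ^ 3)⁻¹ = g * (g * (g * t * g⁻¹) * g⁻¹) * g⁻¹ := by
        rw [pow_succ, pow_succ, pow_one]; group
      rw [e3]
      rcases hst t htV (tR_ne_one hK) with a | a | a
      · exact absurd a (him t htV (tR_ne_one hK)).2
      · rw [a]
        rcases hst s hsV hs1 with b | b | b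
        · exfalso
          rcases hst (t * s) hts hts1 with c | c | c
          · exact hne3 (hinj _ _ (c.trans b.symm))
          · exact hne2 (hinj _ _ (c.trans a.symm))
          · exact (him _ hts hts1).2 c
        · exact absurd b (him s hsV hs1).2
        · rw [b]
          rcases hst (t * s) hts hts1 with c | c | c
          · exact c
          · exact absurd (hinj _ _ (c.trans a.symm)) hne2
          · exact absurd c (him _ hts hts1).2
      · rw [a]
        rcases hst (t * s) hts hts1 with b | b | b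
        · exfalso
          rcases hst s hsV hs1 with c | c | c
          · exact hne3 (hinj _ _ (c.trans b.symm)).symm
          · exact (him s hsV hs1).2 c
          · exact hne1 (hinj _ _ (c.trans a.symm))
        · rw [b]
          rcases hst s hsV hs1 with c | c | c
          · exact c
          · exact absurd c (him s hsV hs1).2
          · exact absurd (hinj _ _ (c.trans a.symm)) hne1
        · exact absurd b (him _ hts hts1).2
    have hg3 : g ^ 3 ∈ A := by
      rw [← hv t htA (tR_sq hK) (tR_ne_one hK)]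
      exact ⟨pow_mem hgC 3, Subgroup.mem_centralizer_singleton_iff.2
        (by rw [mul_inv_eq_iff_eq_mul] at hcyc3; exact hcyc3)⟩
    set w := g ^ (2 * k) with hw
    have hw3 : w ^ 3 = 1 := by rw [hw, ← pow_mul, mul_comm, pow_mul]; exact hpow _ hg3
    by_cases hw1 : w = 1
    · apply hgA
      have hc : Nat.Coprime (2 * k) 3 := by
        refine ((Nat.prime_three.coprime_iff_not_dvd).2 ?_).symm
        omega
      have h1 : g ∈ Subgroup.zpowers (g ^ 3) := by
        rw [show g ^ 3 = g ^ (3 : ℕ) from rfl]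
        refine (mem_zpowers_pow_iff (G := ↥(Gr K m))).2 ?_
        exact (Nat.Coprime.coprime_dvd_left (orderOf_dvd_of_pow_eq_one hw1) hc).symm
      exact (Subgroup.zpowers_le.2 hg3) h1
    · exact not_commute_three hK (orderOf_eq_prime hw3 hw1) hℓ hyo hℓ3 hℓq
        (Subgroup.mem_centralizer_singleton_iff.1 (pow_mem hgC _))
  -- transfer
  have hVC : V ≤ C := fun v hvV => hAC hvV.1
  set V' := V.subgroupOf C with hV'
  have hVcard : Nat.card ↥V = 4 := by
    have : (V : Set ↥(Gr K m)) = ↑({1, t, s, t * s} : Finset ↥(Gr K m)) := by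
      ext v
      simp only [SetLike.mem_coe, Finset.coe_insert, Finset.coe_singleton, Set.mem_insert_iff, Set.mem_singleton_iff]
      refine ⟨hVmem v, ?_⟩
      rintro (rfl | rfl | rfl | rfl)
      exacts [one_mem V, htV, hsV, hts]
    rw [← SetLike.coe_sort_coe, this, Nat.card_coe_set_eq, Set.ncard_coe_finset]
    rw [Finset.card_insert_of_notMem, Finset.card_insert_of_notMem, Finset.card_pair]
    · exact fun e => tR_ne_one hK (mul_eq_right.1 e.symm)
    · simp only [Finset.mem_insert, Finset.mem_singleton, not_or]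
      exact ⟨fun e => htT (e ▸ hsT), fun e => hs1 (mul_eq_left.1 e.symm)⟩
    · simp only [Finset.mem_insert, Finset.mem_singleton, not_or]
      exact ⟨fun e => tR_ne_one hK e.symm, fun e => hs1 e.symm, fun e => hts1 e.symm⟩
  have hV'p : IsPGroup 2 ↥V' :=
    IsPGroup.of_card (n := 2) (by rw [Nat.card_congr (Subgroup.subgroupOfEquivOfLe hVC).toEquiv, hVcard]; norm_num)
  obtain ⟨P, hP⟩ := hV'p.exists_le_sylow
  haveI : Fact (Nat.Prime 2) := ⟨Nat.prime_two⟩
  have hnorm : ∀ g ∈ Subgroup.normalizer (V' : Set ↥C), (g : ↥(Gr K m)) ∈ A := fun g hg =>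
    hNV g g.2 fun v hvV => (Subgroup.mem_normalizer_iff.1 hg ⟨v, hVC hvV⟩).1 hvV
  have hPV : (P : Subgroup ↥C) = V' := by
    refine le_antisymm (fun g hg => ?_) hP
    haveI := P.isPGroup'.isNilpotent
    by_contra hgV
    have hlt : V'.subgroupOf P < ⊤ := lt_top_iff_ne_top.2 fun h => hgV (Subgroup.subgroupOf_eq_top.1 h hg)
    obtain ⟨w, hw, hwV⟩ := SetLike.exists_of_lt (Group.normalizerCondition_of_isNilpotent _ hlt)
    apply hwV
    have hwA : ((w : ↥C) : ↥(Gr K m)) ∈ A := by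
      refine hnorm w (Subgroup.mem_normalizer_iff.2 fun v => ⟨fun hvV => ?_, fun hvV => ?_⟩)
      · exact (Subgroup.mem_normalizer_iff.1 hw ⟨v, hP hvV⟩).1 hvV
      · have hvP : v ∈ (P : Subgroup ↥C) := by
          have := mul_mem (mul_mem (inv_mem w.2) (hP hvV)) w.2
          simpa [mul_assoc] using this
        exact (Subgroup.mem_normalizer_iff.1 hw ⟨v, hvP⟩).2 hvV
    refine ⟨hwA, ?_⟩
    obtain ⟨j, hj⟩ := IsPGroup.iff_orderOf.1 P.isPGroup' w
    have h1 := orderOf_dvd_of_pow_eq_one (hpow _ hwA)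
    rw [Subgroup.orderOf_coe, Subgroup.orderOf_coe] at h1
    rw [hj] at h1
    have h2 : 2 ^ j ∣ 2 := (Nat.Coprime.pow_left j (Nat.coprime_two_left.2 hk)).dvd_of_dvd_mul_right h1
    have h3 : w * w = 1 := by
      rw [← pow_two, ← orderOf_dvd_iff_pow_eq_one, hj]; exact h2
    exact congrArg (fun z : ↥(P : Subgroup ↥C) => ((z : ↥C) : ↥(Gr K m))) h3
  have hburn : Subgroup.normalizer ((P : Subgroup ↥C) : Set ↥C) ≤ Subgroup.centralizer ((P : Subgroup ↥C) : Set ↥C) := by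
    intro g hg
    rw [hPV] at hg ⊢
    exact Subgroup.mem_centralizer_iff.2 fun v hvV =>
      Subtype.ext ((hAc _ (hnorm g hg) _ hvV.1).symm)
  set O := (MonoidHom.transferSylow P hburn).ker with hO
  have hcompl := MonoidHom.ker_transferSylow_isComplement' P hburn
  have hOodd := MonoidHom.not_dvd_card_ker_transferSylow P hburn
  have hPcomm : IsMulCommutative ↥(P : Subgroup ↥C) :=
    ⟨⟨fun a b => Subtype.ext (Subtype.ext (hAc _ (hPV ▸ a.2 : (a : ↥C) ∈ V').1 _ (hPV ▸ b.2 : (b : ↥C) ∈ V').1))⟩⟩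
  have hOA : O ≤ A.subgroupOf C := by
    haveI := hPcomm
    refine H20.le_of_cocyclic_centralizers_le (A := (P : Subgroup ↥C)) ?_ ?_ fun B hB ⟨a, ha, hBa⟩ => ?_
    · rw [(Subgroup.normalizer_eq_top_iff.2 inferInstance : Subgroup.normalizer (O : Set ↥C) = ⊤)]; exact le_top
    · obtain ⟨j, hj⟩ := IsPGroup.iff_card.1 P.isPGroup'
      rw [hj]
      exact Nat.Coprime.pow_left j ((Nat.prime_two.coprime_iff_not_dvd).2 hOodd)
    · obtain ⟨b, hb, hb1⟩ : ∃ b ∈ B, b ≠ 1 := by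
        by_contra hcon
        simp only [not_exists, not_and, not_not] at hcon
        rw [(Subgroup.eq_bot_iff_forall _).2 hcon, bot_sup_eq] at hBa
        have h1 : Nat.card ↥(P : Subgroup ↥C) = 4 := by
          rw [hPV, Nat.card_congr (Subgroup.subgroupOfEquivOfLe hVC).toEquiv, hVcard]
        have ha2 : a ^ 2 = 1 := by rw [pow_two]; exact Subtype.ext (hPV ▸ ha : a ∈ V').2
        rw [← hBa, Nat.card_zpowers] at h1
        have := Nat.le_of_dvd two_pos (orderOf_dvd_of_pow_eq_one ha2)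
        omega
      intro c hc
      have hbV : (b : ↥(Gr K m)) ∈ V := (hPV ▸ hB hb : b ∈ V')
      rw [Subgroup.mem_subgroupOf, ← hv _ hbV.1 hbV.2 fun e => hb1 (Subtype.ext e)]
      exact ⟨c.2, Subgroup.mem_centralizer_singleton_iff.2
        (congrArg Subtype.val (Subgroup.mem_centralizer_iff.1 hc.2 b hb)).symm⟩
  refine le_antisymm (fun c hc => ?_) hAC
  obtain ⟨⟨⟨o, ho'⟩, ⟨p, hp⟩⟩, e⟩ := hcompl.2 ⟨c, hc⟩
  have hp' : (p : ↥(Gr K m)) ∈ A := (hPV ▸ hp : p ∈ V').1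
  have := mul_mem (show (o : ↥(Gr K m)) ∈ A from hOA ho') hp'
  rwa [← Subgroup.coe_mul, show o * p = ⟨c, hc⟩ from e] at this

end Cfsg.Agent.H47.Ree
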