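import Cfsg.Agent.H47.Ree.Conjugate

/-!
The arithmetic of the two factors of `q² - q + 1`.
-/

set_option autoImplicit false

namespace Cfsg.Agent.H47.Ree

/-- The smaller factor `q - 3^(m+1) + 1` of `q² - q + 1`. -/
abbrev qA (m : ℕ) : ℕ := 3 ^ (2 * m + 1) - 3 ^ (m + 1) + 1

/-- The larger factor `q + 3^(m+1) + 1` of `q² - q + 1`. -/
abbrev qB (m : ℕ) : ℕ := 3 ^ (2 * m + 1) + 3 ^ (m + 1) + 1

theorem six_arith {m : ℕ} (hm : 1 ≤ m) :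
    qA m * qB m + 3 ^ (2 * m + 1) = (3 ^ (2 * m + 1)) ^ 2 + 1 ∧ qA m + qB m = 2 * (3 ^ (2 * m + 1) + 1) ∧
      5 ≤ qA m ∧ 5 ≤ qB m ∧ 27 ≤ 3 ^ (2 * m + 1) := by
  have he : (3 ^ (m + 1)) ^ 2 = 3 * 3 ^ (2 * m + 1) := by ring
  have h9 : 3 ^ 2 ≤ 3 ^ (m + 1) := Nat.pow_le_pow_right (by norm_num) (by omega)
  unfold qA qB
  generalize 3 ^ (m + 1) = e at he h9
  generalize 3 ^ (2 * m + 1) = q at he
  norm_num at h9
  have h3 : 3 * e ≤ q := by nlinarith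
  refine ⟨?_, by omega, by omega, by omega, by nlinarith⟩
  zify [show e ≤ q by omega]
  have : (e : ℤ) ^ 2 = 3 * q := by exact_mod_cast he
  linear_combination -this

/-- The primes of `q² - q + 1`. -/
theorem six_prime {m : ℕ} (hm : 1 ≤ m) {ℓ : ℕ} (hℓ : ℓ.Prime) (hd : ℓ ∣ qA m * qB m) :
    ℓ ≠ 2 ∧ ℓ ≠ 3 ∧ ((3 ^ (2 * m + 1) : ℕ) : ZMod ℓ) ^ 2 - ((3 ^ (2 * m + 1) : ℕ) : ZMod ℓ) + 1 = 0 ∧
      ¬ ℓ ∣ 3 ^ (2 * m + 1) - 1 ∧ ¬ ℓ ∣ 3 ^ (2 * m + 1) + 1 := by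
  have hd' : ℓ ∣ qA m ∨ ℓ ∣ qB m := hℓ.dvd_mul.1 hd
  obtain ⟨ho, h3⟩ := toral_coprime_six hm (d := ℓ) (hd'.elim (fun h => Or.inr (Or.inr (Or.inl h)))
    fun h => Or.inr (Or.inr (Or.inr h)))
  have hℓ3 : ℓ ≠ 3 := fun e => h3 (e ▸ dvd_rfl)
  have h6 := sixth_of_dvd (m := m) hd'
  obtain ⟨h1, h2⟩ := not_dvd_pred_succ hℓ hℓ3 (Nat.one_le_pow _ _ (by norm_num)) h6
  exact ⟨fun e => by subst e; exact absurd ho (by decide), hℓ3, h6, h1, h2⟩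

theorem qA_coprime_qB {m : ℕ} (hm : 1 ≤ m) : (qA m).Coprime (qB m) := by
  refine Nat.coprime_of_dvd fun p hp ha hb => ?_
  obtain ⟨hp2, hp3, -, -, hp4⟩ := six_prime hm hp (ha.mul_right _)
  have h := dvd_add ha hb
  rw [(six_arith hm).2.1] at h
  exact (hp.dvd_mul.1 h).elim (fun h => hp2 ((Nat.prime_dvd_prime_iff_eq hp Nat.prime_two).1 h)) hp4

theorem six_coprime {m : ℕ} (hm : 1 ≤ m) :
    (qA m * qB m).Coprime ((3 ^ (2 * m + 1)) ^ 3 * (3 ^ (2 * m + 1) - 1) * (3 ^ (2 * m + 1) + 1)) := by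
  refine Nat.coprime_of_dvd fun p hp ha hb => ?_
  obtain ⟨-, hp3, -, h1, h2⟩ := six_prime hm hp ha
  rcases hp.dvd_mul.1 hb with h | h
  · rcases hp.dvd_mul.1 h with h | h
    · exact hp3 ((Nat.prime_dvd_prime_iff_eq hp Nat.prime_three).1 (hp.dvd_of_dvd_pow (hp.dvd_of_dvd_pow h)))
    · exact h1 h
  · exact h2 h

theorem card_R_factor {K : Type*} [Field K] [Fintype K] {m : ℕ} (hm : 1 ≤ m)
    (hK : Fintype.card K = 3 ^ (2 * m + 1)) :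
    Nat.card ↥(H48.Ree.Gr K m) =
      (3 ^ (2 * m + 1)) ^ 3 * (3 ^ (2 * m + 1) - 1) * (3 ^ (2 * m + 1) + 1) * (qA m * qB m) := by
  rw [card_R hK, mul_assoc ((3 ^ (2 * m + 1)) ^ 3 * (3 ^ (2 * m + 1) - 1))]
  congr 1
  have h := (six_arith hm).1
  generalize qA m * qB m = P at h
  generalize 3 ^ (2 * m + 1) = q at h
  have h' : (P : ℤ) + q = (q : ℤ) ^ 2 + 1 := by exact_mod_cast h
  zify
  linear_combination -((q : ℤ) + 1) * h'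

end Cfsg.Agent.H47.Ree
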