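import Cfsg.Agent.H47.Ree.Orders
import Cfsg.Agent.H47.Ree.SixArith

/-!
The classification of the element orders of the small Ree group, and the number of elements of order dividing
`q² - q + 1`.
-/

set_option autoImplicit false

open Cfsg.Lie Cfsg.Agent.H46

namespace Cfsg.Agent.H47.Ree

open Cfsg.Agent.H48.Ree (Gr)

variable {K : Type*} [Field K] [Fintype K] {m : ℕ}

/-- An element that is no involution, no two-element beyond, has an odd prime in its order. -/
theorem exists_odd_prime_of_lt (hK : Fintype.card K = 3 ^ (2 * m + 1)) {z : ↥(Gr K m)} (h : 2 < orderOf z) :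
    ∃ p : ℕ, p.Prime ∧ p ≠ 2 ∧ p ∣ orderOf z :=
  exists_odd_prime (fun e => by
      have := Nat.le_of_dvd (by norm_num) (orderOf_dvd_of_pow_eq_one (x := z) (n := 2) (by rw [pow_two, e]))
      omega)
    fun h4 => orderOf_ne_four hK _ (exists_pow_prime z h4)

theorem pow_commute_conj {G : Type*} [Group G] (g z : G) (j : ℕ) :
    g * z * g⁻¹ ∈ Subgroup.centralizer ({g * z ^ j * g⁻¹} : Set G) := by
  rw [Subgroup.mem_centralizer_singleton_iff, ← conj_pow]
  exact (Commute.refl _).pow_right j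

theorem two_lt_of_sq_ne {G : Type*} [Group G] [Finite G] {z : G} (h : z * z ≠ 1) : 2 < orderOf z := by
  by_contra hle
  have hpos := orderOf_pos z
  refine h ?_
  rw [← pow_two]
  apply orderOf_dvd_iff_pow_eq_one.1
  interval_cases orderOf z <;> norm_num

theorem sq_ne_of_two_lt {G : Type*} [Group G] {z : G} (h : 2 < orderOf z) : z * z ≠ 1 := fun e => by
  have := Nat.le_of_dvd (by norm_num) (orderOf_dvd_of_pow_eq_one (x := z) (n := 2) (by rw [pow_two, e]))
  omega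

/-- The elements of order above two dividing `q - 1` are those conjugate into `H` and not squaring to one. -/
theorem mem_sweep_H (hK : Fintype.card K = 3 ^ (2 * m + 1)) (z : ↥(Gr K m)) :
    z ∈ sweep {h | h ∈ (cell (m := m) hK).H ∧ h * h ≠ 1} ↔ orderOf z ∣ 3 ^ (2 * m + 1) - 1 ∧ 2 < orderOf z := by
  constructor
  · rintro ⟨g, hg, hg2⟩
    rw [← orderOf_conj g z]
    exact ⟨card_H (m := m) hK ▸ Subgroup.orderOf_dvd_natCard _ hg, two_lt_of_sq_ne hg2⟩
  · rintro ⟨hd, hlt⟩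
    obtain ⟨p, hp, hp2, hpd⟩ := exists_odd_prime_of_lt hK hlt
    obtain ⟨g, hg⟩ := exists_conj_H hK hp hp2 (hpd.trans hd) (exists_pow_prime z hpd)
    refine ⟨g, ?_, sq_ne_of_two_lt (by rw [orderOf_conj]; exact hlt)⟩
    rw [← centralizer_H hK hg hp hp2 (by rw [orderOf_conj, exists_pow_prime z hpd])]
    exact pow_commute_conj g z _

/-- The number of elements of order above two dividing `q - 1`. -/
theorem card_qm1 (hK : Fintype.card K = 3 ^ (2 * m + 1)) :
    2 * {z : ↥(Gr K m) | orderOf z ∣ 3 ^ (2 * m + 1) - 1 ∧ 2 < orderOf z}.ncard =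
      (3 ^ (2 * m + 1) - 3) * (3 ^ (2 * m + 1)) ^ 3 * ((3 ^ (2 * m + 1)) ^ 3 + 1) := by
  classical
  set S := {h | h ∈ (cell (m := m) hK).H ∧ h * h ≠ 1}
  have hsw := card_sweep (normH hK) S (fun n hn s hs => ?_)
    fun g s hs h => conj_H_cases hK hs.1 hs.2 h.1
  · have hS : Nat.card ↥S + 2 = 3 ^ (2 * m + 1) - 1 := by
      obtain ⟨-, k', -, hk', -, hq', -, -⟩ := q_arith m
      have h2 : Nat.card {h : ↥(Gr K m) // h ∈ (cell hK).H ∧ h * h = 1} = 2 := by
        rw [Nat.card_eq_two_iff]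
        refine ⟨⟨1, one_mem _, one_mul 1⟩, ⟨tR hK, tR_mem hK, tR_sq hK⟩,
          fun e => tR_ne_one hK (congrArg Subtype.val e).symm, ?_⟩
        ext ⟨h, hh, hh2⟩
        simp only [Set.mem_insert_iff, Set.mem_singleton_iff, Set.mem_univ, iff_true, Subtype.mk.injEq]
        haveI := isCyclic_H (m := m) hK
        refine or_iff_not_imp_left.2 fun hne => ?_
        have e : Subgroup.zpowers h = Subgroup.zpowers (tR hK) :=
          eq_of_le_cyclic (Subgroup.zpowers_le.2 hh) (Subgroup.zpowers_le.2 (tR_mem hK))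
            (by rw [Nat.card_zpowers, Nat.card_zpowers, orderOf_tR,
              orderOf_eq_prime (by rw [pow_two, hh2]) hne])
        obtain ⟨j, hj⟩ := (Subgroup.mem_zpowers_iff).1 (e ▸ Subgroup.mem_zpowers h)
        rcases Int.even_or_odd j with ⟨i, hi⟩ | ⟨i, hi⟩
        · exact absurd (by rw [← hj, hi, ← two_mul, zpow_mul, zpow_two, tR_sq, one_zpow]) hne
        · rw [← hj, hi, zpow_add, zpow_mul, zpow_two, tR_sq, one_zpow, one_mul, zpow_one]
      rw [← card_H (m := m) hK, ← h2]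
      rw [← Nat.card_sum]
      exact Nat.card_congr
        { toFun := Sum.elim (fun h => ⟨h.1, h.2.1⟩) fun h => ⟨h.1, h.2.1⟩
          invFun := fun h => if e : (h : ↥(Gr K m)) * h = 1 then Sum.inr ⟨h, h.2, e⟩ else Sum.inl ⟨h, h.2, e⟩
          left_inv := fun h => by
            rcases h with h | h
            · exact dif_neg h.2.2
            · exact dif_pos h.2.2
          right_inv := fun h => by dsimp only; split <;> rfl }
    rw [show sweep S = {z | orderOf z ∣ 3 ^ (2 * m + 1) - 1 ∧ 2 < orderOf z} from Set.ext (mem_sweep_H hK),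
      Nat.card_coe_set_eq, card_normH hK, card_R hK] at hsw
    generalize Nat.card ↥S = c at hS hsw
    generalize ({z : ↥(Gr K m) | orderOf z ∣ 3 ^ (2 * m + 1) - 1 ∧ 2 < orderOf z}).ncard = N at hsw ⊢
    have h1 : 3 ≤ 3 ^ (2 * m + 1) := Nat.le_self_pow (by omega) 3
    generalize 3 ^ (2 * m + 1) = q at hS hsw h1 ⊢
    obtain rfl : c = q - 3 := by omega
    refine Nat.eq_of_mul_eq_mul_left (show 0 < q - 1 by omega) ?_
    calc (q - 1) * (2 * N) = N * (2 * (q - 1)) := by ring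
      _ = (q - 3) * (q ^ 3 * (q - 1) * (q ^ 3 + 1)) := hsw
      _ = _ := by ring
  · have hmem : n * s * n⁻¹ ∈ (cell hK).H := by
      rcases hn with hn | hn
      · exact mul_mem (mul_mem hn hs.1) (inv_mem hn)
      · set S' := cell (m := m) hK
        have e : n = S'.n * (S'.n * n) := by rw [← mul_assoc, S'.n_sq, one_mul]
        rw [e, show S'.n * (S'.n * n) * s * (S'.n * (S'.n * n))⁻¹ =
          S'.n * ((S'.n * n) * s * (S'.n * n)⁻¹) * S'.n⁻¹ by group,
          S'.n_inv _ (mul_mem (mul_mem hn hs.1) (inv_mem hn))]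
        exact inv_mem (mul_mem (mul_mem hn hs.1) (inv_mem hn))
    exact ⟨hmem, fun e => hs.2 (conj_eq_one_iff.1 (show n * (s * s) * n⁻¹ = 1 by rw [← e]; group))⟩

/-- A torus of order `q + 1` with all that is needed of it. -/
theorem exists_torus_data (hm : 1 ≤ m) (hK : Fintype.card K = 3 ^ (2 * m + 1)) :
    ∃ A : Subgroup ↥(Gr K m), Nat.card ↥A = 3 ^ (2 * m + 1) + 1 ∧
      (∀ a ∈ A, ∀ b ∈ A, a * b = b * a) ∧ (∀ a ∈ A, orderOf a ∣ (3 ^ (2 * m + 1) + 1) / 2) ∧
      (∃ a ∈ A, orderOf a = (3 ^ (2 * m + 1) + 1) / 2) ∧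
      Nat.card {a : ↥(Gr K m) // a ∈ A ∧ a * a = 1} = 4 ∧
      Nat.card ↥(Subgroup.normalizer (A : Set ↥(Gr K m))) = 6 * (3 ^ (2 * m + 1) + 1) ∧
      (∃ T : Subgroup ↥(Gr K m), IsCyclic ↥T ∧ T ≤ A ∧ ∀ a ∈ A, Odd (orderOf a) → a ∈ T) ∧
      (∀ a ∈ A, a * a ≠ 1 → Subgroup.centralizer ({a} : Set ↥(Gr K m)) = A) ∧
      ∀ z : ↥(Gr K m), orderOf z ∣ 3 ^ (2 * m + 1) + 1 → 2 < orderOf z → ∃ g, g * z * g⁻¹ ∈ A := by
  obtain ⟨k, -, hk, -, hq, -, -, -⟩ := q_arith m
  obtain ⟨T, A, hTA, hTc, hTcard, hAc, hAcard, hA4, hAodd, hall⟩ := centralizer_torus (m := m) hK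
  obtain ⟨ℓ, hℓ, hℓd⟩ := Nat.exists_prime_and_dvd (n := k) (by
    obtain ⟨-, h2⟩ := one_lt_half m hm
    omega)
  haveI := Fact.mk hℓ
  have hℓ2 : ℓ ≠ 2 := fun e => (Nat.not_even_iff_odd.2 hk) (even_iff_two_dvd.2 (e ▸ hℓd))
  have hd : ℓ ∣ 3 ^ (2 * m + 1) + 1 := hq ▸ hℓd.mul_left 4
  obtain ⟨x, hx⟩ := exists_prime_orderOf_dvd_card' (G := ↥A) ℓ (hAcard ▸ hd)
  rw [← Subgroup.orderOf_coe] at hx
  obtain ⟨g, -, hgA⟩ := hall x ℓ hℓ hℓ2 hd hx
  have hxo : orderOf (g * (x : ↥(Gr K m)) * g⁻¹) = ℓ := by rw [orderOf_conj, hx]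
  have hCx : Subgroup.centralizer ({g * (x : ↥(Gr K m)) * g⁻¹} : Set ↥(Gr K m)) = A := hgA
  refine ⟨A, hAcard, hAc, fun a ha => ?_, ?_, card_sq_eq_one A hAc hk (hAcard.trans hq) hA4, ?_,
    ⟨T, hTc, hTA, hAodd⟩, fun a ha ha2 => ?_, fun z hz hlt => ?_⟩
  · have h1 : orderOf a ∣ 4 * k := hq ▸ hAcard ▸ Subgroup.orderOf_dvd_natCard _ ha
    rw [hq, show 4 * k / 2 = 2 * k by omega]
    have h4 : ¬ 4 ∣ orderOf a := fun h => hA4 _ (pow_mem ha _) (exists_pow_prime a h)
    have hpos := orderOf_pos a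
    obtain ⟨e, n, hn, he⟩ := Nat.exists_eq_pow_mul_and_not_dvd hpos.ne' 2 (by norm_num)
    have he1 : e ≤ 1 := by
      by_contra hlt
      exact h4 (he ▸ ((pow_dvd_pow 2 (show 2 ≤ e by omega)).mul_right n))
    have hn1 : n ∣ k := by
      refine (Nat.Coprime.dvd_of_dvd_mul_left ?_ ((dvd_mul_left n (2 ^ e)).trans (he ▸ h1)))
      exact (Nat.Coprime.pow_left 2 ((Nat.prime_two.coprime_iff_not_dvd).2 hn) :
        Nat.Coprime (2 ^ 2) n).symm
    rw [he]
    exact mul_dvd_mul ((pow_dvd_pow 2 he1).trans (by norm_num)) hn1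
  · obtain ⟨a, ha⟩ := IsCyclic.exists_ofOrder_eq_natCard (α := ↥T)
    refine ⟨a, hTA a.2, ?_⟩
    rw [Subgroup.orderOf_coe, ha]; omega
  · rw [← hCx]; exact card_normalizer_torus hK hℓ hℓ2 hd hxo
  · rw [← hCx] at ha
    rw [centralizer_torus_elt hK hℓ hℓ2 hd hxo (Subgroup.mem_centralizer_singleton_iff.1 ha) ha2, hCx]
  · obtain ⟨p, hp, hp2, hpd⟩ := exists_odd_prime_of_lt hK hlt
    obtain ⟨g, -, hg⟩ := hall _ p hp hp2 (hpd.trans hz) (exists_pow_prime z hpd)
    exact ⟨g, hg ▸ pow_commute_conj g z _⟩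

/-- A union of conjugates of part of an abelian subgroup in which every element has that subgroup as centraliser. -/
theorem card_sweep_abelian {G : Type*} [Group G] [Finite G] (A : Subgroup G) (S : Set G)
    (hcen : ∀ s ∈ S, Subgroup.centralizer ({s} : Set G) = A) (hS : ∀ n ∈ Subgroup.normalizer (A : Set G),
      ∀ s ∈ S, n * s * n⁻¹ ∈ S) :
    Nat.card ↥(sweep S) * Nat.card ↥(Subgroup.normalizer (A : Set G)) = Nat.card ↥S * Nat.card G := by
  refine card_sweep _ S hS fun g s hs h => Subgroup.mem_normalizer_iff.2 fun c => ?_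
  have e := map_centralizer_singleton g s
  rw [hcen s hs, hcen _ h] at e
  constructor
  · intro hc
    rw [← e]
    exact ⟨c, hc, rfl⟩
  · intro hc
    rw [← e] at hc
    obtain ⟨d, hd, hde⟩ := hc
    exact (MulAut.conj g).injective hde ▸ hd

/-- The number of elements of order above two dividing `q + 1`. -/
theorem card_qp1 (hm : 1 ≤ m) (hK : Fintype.card K = 3 ^ (2 * m + 1)) :
    6 * {z : ↥(Gr K m) | orderOf z ∣ 3 ^ (2 * m + 1) + 1 ∧ 2 < orderOf z}.ncard =
      (3 ^ (2 * m + 1) - 3) * (3 ^ (2 * m + 1)) ^ 3 * (3 ^ (2 * m + 1) - 1) * (qA m * qB m) := by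
  classical
  obtain ⟨A, hAcard, hAc, hAexp, -, h4, hN, -, hcen, hall⟩ := exists_torus_data hm hK
  set S := {a : ↥(Gr K m) | a ∈ A ∧ a * a ≠ 1}
  have hsw := card_sweep_abelian A S (fun s hs => hcen s hs.1 hs.2) fun n hn s hs =>
    ⟨(Subgroup.mem_normalizer_iff.1 hn s).1 hs.1,
      fun e => hs.2 (conj_eq_one_iff.1 (show n * (s * s) * n⁻¹ = 1 by rw [← e]; group))⟩
  have hS : Nat.card ↥S + 4 = 3 ^ (2 * m + 1) + 1 := by
    rw [← hAcard, ← h4]
    rw [← Nat.card_sum]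
    exact Nat.card_congr
      { toFun := Sum.elim (fun h => ⟨h.1, h.2.1⟩) fun h => ⟨h.1, h.2.1⟩
        invFun := fun h => if e : (h : ↥(Gr K m)) * h = 1 then Sum.inr ⟨h, h.2, e⟩ else Sum.inl ⟨h, h.2, e⟩
        left_inv := fun h => by
          rcases h with h | h
          · exact dif_neg h.2.2
          · exact dif_pos h.2.2
        right_inv := fun h => by dsimp only; split <;> rfl }
  have hset : sweep S = {z | orderOf z ∣ 3 ^ (2 * m + 1) + 1 ∧ 2 < orderOf z} := by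
    ext z
    refine ⟨fun ⟨g, hg, hg2⟩ => ?_, fun ⟨hd, hlt⟩ => ?_⟩
    · rw [Set.mem_setOf_eq, ← orderOf_conj g z]
      exact ⟨hAcard ▸ Subgroup.orderOf_dvd_natCard _ hg, two_lt_of_sq_ne hg2⟩
    · obtain ⟨g, hg⟩ := hall z hd hlt
      exact ⟨g, hg, sq_ne_of_two_lt (by rw [orderOf_conj]; exact hlt)⟩
  rw [hset, Nat.card_coe_set_eq, hN, card_R_factor hm hK] at hsw
  generalize Nat.card ↥S = c at hS hsw
  generalize ({z : ↥(Gr K m) | orderOf z ∣ 3 ^ (2 * m + 1) + 1 ∧ 2 < orderOf z}).ncard = N at hsw ⊢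
  generalize qA m * qB m = P at hsw ⊢
  generalize 3 ^ (2 * m + 1) = q at hS hsw ⊢
  obtain rfl : c = q - 3 := by omega
  refine Nat.eq_of_mul_eq_mul_left (show 0 < q + 1 by omega) ?_
  calc (q + 1) * (6 * N) = N * (6 * (q + 1)) := by ring
    _ = (q - 3) * (q ^ 3 * (q - 1) * (q + 1) * P) := hsw
    _ = _ := by ring

/-- Every element has order `1, 2, 3, 6, 9`, or dividing `q - 1`, `q + 1`, or `q² - q + 1`. -/
theorem order_cases (hm : 1 ≤ m) (hK : Fintype.card K = 3 ^ (2 * m + 1)) (z : ↥(Gr K m)) :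
    orderOf z = 1 ∨ orderOf z = 2 ∨ orderOf z = 3 ∨ orderOf z = 6 ∨ orderOf z = 9 ∨
      (orderOf z ∣ 3 ^ (2 * m + 1) - 1 ∧ 2 < orderOf z) ∨ (orderOf z ∣ 3 ^ (2 * m + 1) + 1 ∧ 2 < orderOf z) ∨
      (orderOf z ∣ qA m * qB m ∧ 1 < orderOf z) := by
  by_cases h3 : 3 ∣ orderOf z
  · rcases three_dvd_cases hK z h3 with h | h | h <;> simp [h]
  by_cases hlt : 2 < orderOf z
  · right; right; right; right; right
    obtain ⟨p, hp, hp2, hpd⟩ := exists_odd_prime_of_lt hK hlt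
    have hw := exists_pow_prime z hpd
    have hp3 : p ≠ 3 := fun e => h3 (e ▸ hpd)
    have hdR : p ∣ Nat.card ↥(Gr K m) := hpd.trans (orderOf_dvd_natCard z)
    rw [card_R_factor hm hK] at hdR
    rcases hp.dvd_mul.1 hdR with h | h
    · rcases hp.dvd_mul.1 h with h | h
      · rcases hp.dvd_mul.1 h with h | h
        · exact absurd ((Nat.prime_dvd_prime_iff_eq hp Nat.prime_three).1
            (hp.dvd_of_dvd_pow (hp.dvd_of_dvd_pow h))) hp3
        · left
          refine ⟨?_, hlt⟩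
          obtain ⟨g, hg⟩ := exists_conj_H hK hp hp2 h hw
          have hmem := pow_commute_conj g z (orderOf z / p)
          rw [centralizer_H hK hg hp hp2 (by rw [orderOf_conj, hw])] at hmem
          rw [← orderOf_conj g z, ← card_H (m := m) hK]
          exact Subgroup.orderOf_dvd_natCard _ hmem
      · right; left
        refine ⟨?_, hlt⟩
        rw [← (nonsplit_torus hK hp hp2 h hw).1]
        exact Subgroup.orderOf_dvd_natCard _
          (Subgroup.mem_centralizer_singleton_iff.2 ((Commute.refl z).pow_right _))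
    · right; right
      refine ⟨?_, by omega⟩
      obtain ⟨-, -, -, hn1, hn2⟩ := six_prime hm hp h
      have hdv : orderOf z ∣ Nat.card ↥(Subgroup.centralizer ({z ^ (orderOf z / p)} : Set ↥(Gr K m))) :=
        Subgroup.orderOf_dvd_natCard _ (Subgroup.mem_centralizer_singleton_iff.2 ((Commute.refl z).pow_right _))
      have hR := orderOf_dvd_natCard z
      rw [card_R_factor hm hK] at hR
      refine Nat.Coprime.dvd_of_dvd_mul_left ?_ hR
      refine Nat.coprime_of_dvd fun r hr hr1 hr2 => ?_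
      refine not_dvd_centralizer_six hK hp hp3 hn1 hn2 hw hr ?_ (hr1.trans hdv)
      rcases hr.dvd_mul.1 hr2 with h | h
      · rcases hr.dvd_mul.1 h with h | h
        · exact Or.inl ((Nat.prime_dvd_prime_iff_eq hr Nat.prime_three).1 (hr.dvd_of_dvd_pow (hr.dvd_of_dvd_pow h)))
        · exact Or.inr (Or.inl h)
      · exact Or.inr (Or.inr h)
  · have := orderOf_pos z
    omega

/-- The number of nontrivial elements of order dividing `q² - q + 1`. -/
theorem card_six_set (hm : 1 ≤ m) (hK : Fintype.card K = 3 ^ (2 * m + 1)) :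
    6 * ({z : ↥(Gr K m) | orderOf z ∣ qA m * qB m ∧ 1 < orderOf z}.ncard : ℤ) =
      2 * Nat.card ↥(Gr K m) -
        (((3 ^ (2 * m + 1)) ^ 3 * (3 ^ (2 * m + 1) - 1) * (3 ^ (2 * m + 1) + 1) : ℕ) : ℤ) * (qA m + qB m : ℕ) := by
  classical
  have H2 := card_involutions (m := m) hK
  obtain ⟨H3, H9⟩ := card_order_three_nine (m := m) hK
  have H6 := card_order_six (m := m) hK
  have HH := card_qm1 (m := m) hK
  have HA := card_qp1 hm hK
  obtain ⟨hab, hsum, -, -, hq27⟩ := six_arith hm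
  obtain ⟨k, k', hk, hk', hqk, hqk', hq3, -⟩ := q_arith m
  have hcop := six_coprime hm
  have hR := card_R_factor (K := K) hm hK
  rw [← Set.coe_setOf, Nat.card_coe_set_eq] at H2 H3 H9 H6
  set q := 3 ^ (2 * m + 1)
  set P := qA m * qB m
  let O : (ℕ → Prop) → Set ↥(Gr K m) := fun p => {z | p (orderOf z)}
  have key : ∀ n, n ∣ P → (n ∣ q - 1 ∨ n ∣ q + 1 ∨ n = 2 ∨ n = 3 ∨ n = 6 ∨ n = 9) → n = 1 := by
    intro n hn h
    have h1 : n ∣ q ^ 3 * (q - 1) * (q + 1) := by
      have e3 : 3 ∣ q ^ 3 := dvd_pow (Nat.dvd_of_mod_eq_zero hq3) (by norm_num)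
      have e9 : 9 ∣ q ^ 3 := (pow_dvd_pow_of_dvd (Nat.dvd_of_mod_eq_zero hq3) 2).trans (pow_dvd_pow q (by norm_num))
      have e2 : 2 ∣ q - 1 := ⟨k', hqk'⟩
      rcases h with h | h | rfl | rfl | rfl | rfl
      · exact dvd_mul_of_dvd_left (dvd_mul_of_dvd_right h _) _
      · exact dvd_mul_of_dvd_right h _
      · exact dvd_mul_of_dvd_left (dvd_mul_of_dvd_right e2 _) _
      · exact dvd_mul_of_dvd_left (dvd_mul_of_dvd_left e3 _) _
      · exact dvd_mul_of_dvd_left (mul_comm 3 2 ▸ mul_dvd_mul e3 e2 : 2 * 3 ∣ q ^ 3 * (q - 1)) _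
      · exact dvd_mul_of_dvd_left (dvd_mul_of_dvd_left e9 _) _
    exact Nat.eq_one_of_dvd_coprimes hcop hn h1
  have key3 : ∀ n, (n = 3 ∨ n = 6 ∨ n = 9) → ¬ n ∣ q - 1 ∧ ¬ n ∣ q + 1 := by
    intro n hn
    have h3 : 3 ∣ n := by rcases hn with rfl | rfl | rfl <;> norm_num
    exact ⟨fun h => by have := h3.trans h; omega, fun h => by have := h3.trans h; omega⟩
  have keypm : ∀ n, n ∣ q - 1 → n ∣ q + 1 → n ≤ 2 := by
    intro n h h'
    have := Nat.dvd_sub h' h
    rw [show q + 1 - (q - 1) = 2 by omega] at this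
    exact Nat.le_of_dvd (by norm_num) this
  have huniv : (O fun n => n = 1 ∨ n = 2 ∨ n = 3 ∨ n = 6 ∨ n = 9 ∨ (n ∣ q - 1 ∧ 2 < n) ∨ (n ∣ q + 1 ∧ 2 < n) ∨
      (n ∣ P ∧ 1 < n)) = Set.univ :=
    Set.eq_univ_of_forall fun z => order_cases hm hK z
  have h1 : (O fun n => n = 1).ncard = 1 := by
    rw [show (O fun n => n = 1) = {1} from Set.ext fun z => orderOf_eq_one_iff, Set.ncard_singleton]
  have e := congrArg Set.ncard huniv
  rw [Set.ncard_univ] at e
  refine (fun (e' : (O fun n => n = 1).ncard + ((O fun n => n = 2).ncard + ((O fun n => n = 3).ncard +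
      ((O fun n => n = 6).ncard + ((O fun n => n = 9).ncard + ((O fun n => n ∣ q - 1 ∧ 2 < n).ncard +
      ((O fun n => n ∣ q + 1 ∧ 2 < n).ncard + (O fun n => n ∣ P ∧ 1 < n).ncard)))))) = _) => ?_) ((Eq.symm ?_).trans e)
  rotate_left
  · show ((O fun n => n = 1) ∪ ((O fun n => n = 2) ∪ ((O fun n => n = 3) ∪ ((O fun n => n = 6) ∪
      ((O fun n => n = 9) ∪ ((O fun n => n ∣ q - 1 ∧ 2 < n) ∪ ((O fun n => n ∣ q + 1 ∧ 2 < n) ∪
        (O fun n => n ∣ P ∧ 1 < n)))))))).ncard = _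
    rw [Set.ncard_union_eq, Set.ncard_union_eq, Set.ncard_union_eq, Set.ncard_union_eq, Set.ncard_union_eq,
      Set.ncard_union_eq, Set.ncard_union_eq]
    all_goals simp only [Set.disjoint_union_right, Set.disjoint_left]
    all_goals (try repeat' apply And.intro)
    all_goals intro z h h'
    all_goals simp only [O, Set.mem_union, Set.mem_setOf_eq] at h h'
    all_goals generalize orderOf z = n at h h'
    all_goals (repeat' obtain h' | h' := (h' : _ ∨ _))
    all_goals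
      first
      | omega
      | (have := key3 n (by omega); tauto)
      | (have := keypm n h.1 h'.1; omega)
      | (have := key n h'.1 (by omega); omega)
      | (have := key n h'.1 (Or.inl h.1); omega)
      | (have := key n h'.1 (Or.inr (Or.inl h.1)); omega)
  · rw [h1] at e'
    change 1 + ({z : ↥(Gr K m) | orderOf z = 2}.ncard + ({z : ↥(Gr K m) | orderOf z = 3}.ncard +
      ({z : ↥(Gr K m) | orderOf z = 6}.ncard + ({z : ↥(Gr K m) | orderOf z = 9}.ncard +
      ({z : ↥(Gr K m) | orderOf z ∣ q - 1 ∧ 2 < orderOf z}.ncard +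
      ({z : ↥(Gr K m) | orderOf z ∣ q + 1 ∧ 2 < orderOf z}.ncard +
        {z : ↥(Gr K m) | orderOf z ∣ P ∧ 1 < orderOf z}.ncard)))))) = _ at e'
    clear e
    rename' e' => e
    rw [H2, H3, H6, H9] at e
    generalize ({z : ↥(Gr K m) | orderOf z ∣ q - 1 ∧ 2 < orderOf z}).ncard = nH at e HH
    generalize ({z : ↥(Gr K m) | orderOf z ∣ q + 1 ∧ 2 < orderOf z}).ncard = nA at e HA
    generalize ({z : ↥(Gr K m) | orderOf z ∣ P ∧ 1 < orderOf z}).ncard = nE at e ⊢
    rw [hR, hsum]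
    rw [hR] at e
    zify [show q ≤ q ^ 2 from Nat.le_self_pow two_ne_zero q, show 1 ≤ q by omega, show 3 ≤ q by omega,
      Nat.one_le_pow 2 q (by omega)] at e HH HA hab ⊢
    push_cast at e HH HA hab ⊢
    have hP : (P : ℤ) = (q : ℤ) ^ 2 - q + 1 := by linear_combination hab
    rw [hP] at e HA ⊢
    linear_combination 6 * e - 3 * HH - HA

end Cfsg.Agent.H47.Ree
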