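import Mathlib.RingTheory.IntegralDomain
import Mathlib.RingTheory.Adjoin.Polynomial.Basic
import Mathlib.GroupTheory.PGroup
import Mathlib.LinearAlgebra.Dimension.RankNullity
import Mathlib.FieldTheory.Finite.Basic

/-!
A group acting faithfully in dimension at most 7 with a central element of prime order `ℓ`, `q` of order six
modulo `ℓ`, and of order prime to `q - 1`, is cyclic.
-/

set_option autoImplicit false

namespace Cfsg.Agent.H47.Ree

open Polynomial

variable {K V : Type*} [Field K] [Fintype K] [AddCommGroup V] [Module K V] [FiniteDimensional K V]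

/-- A nonzero invariant subspace on which an element of order `ℓ` fixes only zero has dimension six. -/
theorem finrank_eq_six {G : Type*} [Group G] [Finite G] (f : G →* Module.End K V) {y : G} {ℓ : ℕ}
    (hℓ : ℓ.Prime) (hy : orderOf y = ℓ) (hV : Module.finrank K V ≤ 7)
    (hord : ∀ d, 1 ≤ d → d ≤ 7 → d ≠ 6 → ¬ ((ℓ : ℤ) ∣ (Fintype.card K : ℤ) ^ d - 1))
    (W : Submodule K V) (hne : W ≠ ⊥) (hinv : ∀ w ∈ W, f y w ∈ W) (hfix : ∀ w ∈ W, f y w = w → w = 0) :
    Module.finrank K W = 6 := by
  classical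
  have := Fact.mk hℓ
  have : Finite V := Module.finite_of_finite K
  have hpow : ∀ n : ℕ, ∀ w ∈ W, f (y ^ n) w ∈ W := by
    intro n
    induction n with
    | zero => intro w hw; simpa using hw
    | succ n ih => intro w hw; rw [pow_succ, map_mul, Module.End.mul_apply]; exact ih _ (hinv w hw)
  have hmem : ∀ z : ↥(Subgroup.zpowers y), ∀ w : ↥W, f (z : G) w ∈ W := by
    rintro ⟨z, hz⟩ w
    obtain ⟨n, rfl⟩ := (mem_powers_iff_mem_zpowers.2 hz : z ∈ Submonoid.powers y)
    exact hpow n w w.2
  letI : MulAction ↥(Subgroup.zpowers y) ↥W :=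
    { smul := fun z w => ⟨f (z : G) w, hmem z w⟩
      one_smul := fun w => Subtype.ext (by show f ((1 : ↥(Subgroup.zpowers y)) : G) (w : V) = w; simp)
      mul_smul := fun a b w => Subtype.ext (by
        show f ((a * b : ↥(Subgroup.zpowers y)) : G) (w : V) = f (a : G) (f (b : G) w)
        rw [Subgroup.coe_mul, map_mul]; rfl) }
  have hp : IsPGroup ℓ ↥(Subgroup.zpowers y) := IsPGroup.of_card (n := 1) (by rw [Nat.card_zpowers, hy, pow_one])
  have hfixed : Nat.card (MulAction.fixedPoints ↥(Subgroup.zpowers y) ↥W) = 1 := by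
    have hset : MulAction.fixedPoints ↥(Subgroup.zpowers y) ↥W = {0} := by
      ext w
      refine ⟨fun h => Subtype.ext (hfix w w.2 (congrArg Subtype.val (h ⟨y, Subgroup.mem_zpowers y⟩))), ?_⟩
      rintro rfl z
      exact Subtype.ext (map_zero (f (z : G)))
    rw [hset]; simp
  have hmod := hp.card_modEq_card_fixedPoints ↥W
  rw [hfixed, Module.natCard_eq_pow_finrank (K := K), Nat.card_eq_fintype_card] at hmod
  by_contra h6
  refine hord _ ?_ ((Submodule.finrank_le W).trans hV) h6 ?_
  · exact Nat.one_le_iff_ne_zero.2 fun h => hne (Submodule.finrank_eq_zero.1 h)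
  · have := Nat.modEq_iff_dvd.1 hmod.symm
    push_cast at this
    exact this

/-- The moved subspace of an element of order `ℓ`, with the fixed space, in the situation of the criterion. -/
theorem split_data {G : Type*} [Group G] [Finite G] (f : G →* Module.End K V) (hf : Function.Injective f)
    (hV : Module.finrank K V ≤ 7) {y : G} {ℓ : ℕ} (hℓ : ℓ.Prime) (hℓK : (ℓ : K) ≠ 0) (hy : orderOf y = ℓ)
    (hord : ∀ d, 1 ≤ d → d ≤ 7 → d ≠ 6 → ¬ ((ℓ : ℤ) ∣ (Fintype.card K : ℤ) ^ d - 1)) :
    Module.finrank K ↥(LinearMap.range (f y - 1)) = 6 ∧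
      LinearMap.range (f y - 1) ⊔ LinearMap.ker (f y - 1) = ⊤ ∧
      Module.finrank K ↥(LinearMap.ker (f y - 1)) ≤ 1 ∧
      ∀ W' ≤ LinearMap.range (f y - 1), (∀ w ∈ W', f y w ∈ W') → W' ≠ ⊥ → W' = LinearMap.range (f y - 1) := by
  classical
  set Y := f y
  set W := LinearMap.range (Y - 1) with hW
  set Z := LinearMap.ker (Y - 1) with hZ
  have hinvW : ∀ w ∈ W, Y w ∈ W := by
    rintro _ ⟨v, rfl⟩
    exact ⟨Y v, by simp⟩
  have hZmem : ∀ v, v ∈ Z ↔ Y v = v := fun v => by simp [hZ, sub_eq_zero]
  have hdisj : ∀ w ∈ W, Y w = w → w = 0 := by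
    rintro _ ⟨v, rfl⟩ hfix
    set w := (Y - 1) v with hw
    have hv : Y v = v + w := by rw [hw]; simp
    have hn : ∀ n : ℕ, f (y ^ n) v = v + (n : K) • w := by
      intro n
      induction n with
      | zero => simp
      | succ n ih =>
        rw [pow_succ', map_mul, Module.End.mul_apply, ih, map_add, map_smul, show f y = Y from rfl, hv, hfix]
        push_cast
        rw [add_smul, one_smul]
        abel
    have := hn ℓ
    rw [← hy, pow_orderOf_eq_one, map_one, hy] at this
    have h0 : (ℓ : K) • w = 0 := by simpa using this.symm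
    exact (smul_eq_zero.1 h0).resolve_left hℓK
  have hy1 : Y ≠ 1 := fun h => by
    have : y = 1 := hf (h.trans (map_one f).symm)
    rw [this, orderOf_one] at hy
    exact hℓ.one_lt.ne hy
  have hWne : W ≠ ⊥ := fun h => hy1 (sub_eq_zero.1 (LinearMap.range_eq_bot.1 h))
  have hW6 := finrank_eq_six f hℓ hy hV hord W hWne hinvW hdisj
  have hrn : Module.finrank K W + Module.finrank K Z = Module.finrank K V := LinearMap.finrank_range_add_finrank_ker _
  refine ⟨hW6, ?_, by omega, fun W' hle hinv hne => Submodule.eq_of_le_of_finrank_eq hle (by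
    rw [hW6, finrank_eq_six f hℓ hy hV hord W' hne hinv fun w hw => hdisj w (hle hw)])⟩
  have hinf : W ⊓ Z = ⊥ := (Submodule.eq_bot_iff _).2 fun w hw => hdisj w hw.1 ((hZmem w).1 hw.2)
  apply Submodule.eq_top_of_finrank_eq
  have := Submodule.finrank_sup_add_finrank_inf_eq W Z
  rw [hinf, finrank_bot, add_zero] at this
  rw [this, hrn]

/-- The algebra generated by an endomorphism without proper invariant subspace is a domain, contains all that
commutes with it, and has the dimension of the space. -/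
theorem adjoin_simple {W : Type*} [AddCommGroup W] [Module K W] [FiniteDimensional K W] [Nontrivial W]
    (YW : Module.End K W) (hirr : ∀ W' : Submodule K W, (∀ w ∈ W', YW w ∈ W') → W' ≠ ⊥ → W' = ⊤) :
    IsDomain ↥(Algebra.adjoin K ({YW} : Set (Module.End K W))) ∧
      (∀ a : Module.End K W, a * YW = YW * a → a ∈ Algebra.adjoin K ({YW} : Set (Module.End K W))) ∧
      Module.finrank K ↥(Algebra.adjoin K ({YW} : Set (Module.End K W))) = Module.finrank K W := by
  classical
  set R := Algebra.adjoin K ({YW} : Set (Module.End K W))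
  obtain ⟨w₀, hw₀⟩ := exists_ne (0 : W)
  have hker : ∀ a : Module.End K W, a * YW = YW * a → a ≠ 0 → ∀ w, a w = 0 → w = 0 := by
    intro a hac ha0 w hw
    by_contra hw0
    refine ha0 (LinearMap.ker_eq_top.1 (hirr _ (fun u hu => ?_) fun h => hw0 ?_))
    · rw [LinearMap.mem_ker, show a (YW u) = (a * YW) u from rfl, hac]
      simp [LinearMap.mem_ker.1 hu]
    · exact (Submodule.eq_bot_iff _).1 h w hw
  have hcR : ∀ a ∈ R, a * YW = YW * a := fun a ha => by
    induction ha using Algebra.adjoin_induction with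
    | mem x hx => rw [Set.mem_singleton_iff.1 hx]
    | algebraMap r => rw [Algebra.commutes]
    | add x y _ _ hx hy => rw [add_mul, mul_add, hx, hy]
    | mul x y _ _ hx hy => rw [mul_assoc, hy, ← mul_assoc, hx, mul_assoc]
  have hinj : ∀ a : ↥R, (a : Module.End K W) w₀ = 0 → a = 0 := fun a ha => by
    by_contra hne
    exact hw₀ (hker a (hcR a a.2) (fun h => hne (Subtype.ext h)) w₀ ha)
  let ev : ↥R →ₗ[K] W := (LinearMap.applyₗ w₀).comp R.val.toLinearMap
  have hev : LinearMap.range ev = ⊤ := by
    refine hirr _ ?_ fun h => hw₀ ((Submodule.eq_bot_iff _).1 h w₀ ⟨1, by simp [ev]⟩)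
    rintro _ ⟨a, rfl⟩
    exact ⟨⟨YW, Algebra.self_mem_adjoin_singleton K YW⟩ * a, rfl⟩
  refine ⟨?_, fun a hac => ?_, ?_⟩
  · have : Nontrivial (Module.End K W) := inferInstance
    have : NoZeroDivisors ↥R := ⟨fun {a b} hab => by
      by_contra hcon
      rw [not_or] at hcon
      refine hcon.2 (Subtype.ext (LinearMap.ext fun u => ?_))
      have h0 : (a : Module.End K W) ((b : Module.End K W) u) = 0 :=
        congrArg (fun z : ↥R => (z : Module.End K W) u) hab
      exact hker a (hcR a a.2) (fun h => hcon.1 (Subtype.ext h)) _ h0⟩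
    exact NoZeroDivisors.to_isDomain ↥R
  · obtain ⟨p, hp⟩ := LinearMap.range_eq_top.1 hev (a w₀)
    by_contra ha
    refine hw₀ (hker (a - (p : Module.End K W)) ?_ (fun h => ha ((sub_eq_zero.1 h).symm ▸ p.2)) w₀
      (sub_eq_zero.2 hp.symm))
    rw [sub_mul, mul_sub, hac, hcR _ p.2]
  · exact LinearEquiv.finrank_eq (LinearEquiv.ofBijective ev
      ⟨(injective_iff_map_eq_zero ev).2 hinj, LinearMap.range_eq_top.1 hev⟩)

/-- The cyclicity criterion. -/
theorem isCyclic_of_faithful {G : Type*} [Group G] [Finite G] (f : G →* Module.End K V) (hf : Function.Injective f)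
    (hV : Module.finrank K V ≤ 7) {y : G} {ℓ : ℕ} (hℓ : ℓ.Prime) (hℓK : (ℓ : K) ≠ 0) (hy : orderOf y = ℓ)
    (hcen : ∀ g, g * y = y * g)
    (hord : ∀ d, 1 ≤ d → d ≤ 7 → d ≠ 6 → ¬ ((ℓ : ℤ) ∣ (Fintype.card K : ℤ) ^ d - 1))
    (hcop : (Nat.card G).Coprime (Fintype.card K - 1)) : IsCyclic G := by
  classical
  obtain ⟨hW6, hsup, hdim, hsimple⟩ := split_data f hf hV hℓ hℓK hy hord
  set Y := f y
  set W := LinearMap.range (Y - 1) with hW
  set Z := LinearMap.ker (Y - 1) with hZ
  have hcomm : ∀ g v, f g (Y v) = Y (f g v) := fun g v => by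
    have h := congrArg (fun a => f a v) (hcen g)
    simp only [map_mul, Module.End.mul_apply] at h
    exact h
  have hinvW : ∀ g, ∀ w ∈ W, f g w ∈ W := by
    rintro g _ ⟨v, rfl⟩
    exact ⟨f g v, by simp [hcomm]⟩
  have hZmem : ∀ v, v ∈ Z ↔ Y v = v := fun v => by simp [hZ, sub_eq_zero]
  -- restriction to `W`
  let ρ : G →* Module.End K W :=
    { toFun := fun g => (f g).restrict (hinvW g)
      map_one' := by ext w; simp
      map_mul' := fun a b => by ext w; simp }
  have hρ : Function.Injective ρ := by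
    rw [injective_iff_map_eq_one]
    intro g hg
    apply hf
    rw [map_one]
    have hgW : ∀ w ∈ W, f g w = w := fun w hw => congrArg (fun a : Module.End K W => (a ⟨w, hw⟩ : V)) hg
    have hgZ : ∀ z ∈ Z, f g z = z := by
      intro z hz
      by_cases hz0 : z = 0
      · simp [hz0]
      have hgz : f g z ∈ Z := (hZmem _).2 (by rw [← hcomm, (hZmem z).1 hz])
      obtain ⟨a, ha⟩ : ∃ a : K, a • z = f g z := by
        obtain ⟨v, hv⟩ := finrank_le_one_iff.1 hdim
        obtain ⟨c, hc⟩ := hv ⟨z, hz⟩
        obtain ⟨d, hd⟩ := hv ⟨f g z, hgz⟩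
        have hc0 : c ≠ 0 := fun h => hz0 (by rw [h, zero_smul] at hc; exact (congrArg Subtype.val hc).symm)
        refine ⟨d * c⁻¹, ?_⟩
        rw [show f g z = d • (v : V) from (congrArg Subtype.val hd).symm,
          show z = c • (v : V) from (congrArg Subtype.val hc).symm, smul_smul, mul_assoc, inv_mul_cancel₀ hc0, mul_one]
      have hiter : ∀ n : ℕ, f (g ^ n) z = a ^ n • z := by
        intro n
        induction n with
        | zero => simp
        | succ n ih => rw [pow_succ', map_mul, Module.End.mul_apply, ih, map_smul, ← ha, smul_smul, ← pow_succ]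
      have h1 := hiter (Nat.card G)
      rw [pow_card_eq_one', map_one, Module.End.one_apply] at h1
      have ha1 : a ^ Nat.card G = 1 := by
        have h2 : (a ^ Nat.card G - 1) • z = 0 := by rw [sub_smul, one_smul, ← h1, sub_self]
        exact sub_eq_zero.1 ((smul_eq_zero.1 h2).resolve_right hz0)
      have ha0 : a ≠ 0 := fun h => by rw [h, zero_pow Nat.card_pos.ne'] at ha1; exact zero_ne_one ha1
      have ha2 := FiniteField.pow_card_sub_one_eq_one a ha0
      have := pow_gcd_eq_one.2 ⟨ha1, ha2⟩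
      rw [hcop, pow_one] at this
      rw [← ha, this, one_smul]
    refine LinearMap.ext fun v => ?_
    obtain ⟨w, hw, z, hz, rfl⟩ := Submodule.mem_sup.1 (hsup ▸ Submodule.mem_top : v ∈ W ⊔ Z)
    simp [hgW w hw, hgZ z hz]
  -- the field of the restriction
  haveI : Nontrivial ↥W := Module.nontrivial_of_finrank_eq_succ hW6
  obtain ⟨hdom, hmemR, -⟩ := adjoin_simple (ρ y) fun W' hinv hne => by
    have h := hsimple (W'.map W.subtype) (Submodule.map_subtype_le _ _)
      (by rintro _ ⟨u, hu, rfl⟩; exact ⟨_, hinv u hu, rfl⟩)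
      fun h => hne (Submodule.map_injective_of_injective (f := W.subtype) Subtype.val_injective
        (h.trans (Submodule.map_bot _).symm))
    exact Submodule.map_injective_of_injective (f := W.subtype) Subtype.val_injective
      (h.trans (Submodule.map_subtype_top W).symm)
  letI : CommRing ↥(Algebra.adjoin K ({ρ y} : Set (Module.End K W))) := Algebra.adjoinCommRingOfComm K (by
    rintro a rfl b rfl; rfl)
  haveI := hdom
  exact isCyclic_of_injective_ringHom (R := ↥(Algebra.adjoin K ({ρ y} : Set (Module.End K W))))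
    (ρ.codRestrict (Algebra.adjoin K ({ρ y} : Set (Module.End K W))).toSubmonoid
      fun g => hmemR _ (by rw [← map_mul, ← map_mul, hcen]))
    fun a b h => hρ (congrArg Subtype.val h)

end Cfsg.Agent.H47.Ree
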