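import Cfsg.Agent.H47.Ree.TorusStatements
import Cfsg.Agent.H47.Ree.Cyclic
import Cfsg.Agent.H47.SpecialTables
import Cfsg.Agent.H65.Twist.Ree

/-!
Cyclic subgroups of the toral orders of the small Ree group.
-/

set_option autoImplicit false

open Cfsg.Lie Cfsg.Agent.H46

namespace Cfsg.Agent.H47.Ree

open Cfsg.Agent.H48.Ree (Gr)

/-- Two subgroups of one order in a finite cyclic group are equal. -/
theorem eq_of_le_cyclic {G : Type*} [Group G] [Finite G] {M X Y : Subgroup G} [IsCyclic ↥M] (hX : X ≤ M)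
    (hY : Y ≤ M) (h : Nat.card ↥X = Nat.card ↥Y) : X = Y := by
  letI : CommGroup ↥M := IsCyclic.commGroup
  have key : ∀ Z : Subgroup G, Z ≤ M → Nat.card ↥Z = Nat.card ↥X →
      Z.subgroupOf M = (powMonoidHom (Nat.card ↥X) : ↥M →* ↥M).ker := by
    intro Z hZ hc
    refine Subgroup.eq_of_le_of_card_ge (fun z hz => ?_) ?_
    · rw [MonoidHom.mem_ker, powMonoidHom_apply, ← hc]
      refine Subtype.ext ?_
      rw [SubmonoidClass.coe_pow, Subgroup.coe_one]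
      exact orderOf_dvd_iff_pow_eq_one.1 (Subgroup.orderOf_dvd_natCard _ hz)
    · rw [IsCyclic.card_powMonoidHom_ker, Nat.card_congr (Subgroup.subgroupOfEquivOfLe hZ).toEquiv, hc]
      exact Nat.le_of_dvd Nat.card_pos (Nat.gcd_dvd_right _ _)
  have e := (key X hX rfl).trans (key Y hY h.symm).symm
  have := congrArg (Subgroup.map M.subtype) e
  rwa [Subgroup.map_subgroupOf_eq_of_le hX, Subgroup.map_subgroupOf_eq_of_le hY] at this

/-- Cyclic subgroups of one odd order are conjugate, if for a prime divisor `ℓ` of that order the elements of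
odd order of the centraliser of each element of order `ℓ` lie in a cyclic subgroup. -/
theorem conj_of_prime {G : Type*} [Group G] [Finite G] {ℓ : ℕ} (hℓ : ℓ.Prime) (hℓ2 : ℓ ≠ 2)
    (hM : ∀ x : G, orderOf x = ℓ → ∃ M : Subgroup G, IsCyclic ↥M ∧
      ∀ a, a * x = x * a → Odd (orderOf a) → a ∈ M)
    {A B : Subgroup G} [IsCyclic ↥A] [IsCyclic ↥B] {d : ℕ} (hA : Nat.card ↥A = d) (hB : Nat.card ↥B = d)
    (hd : Odd d) (hℓd : ℓ ∣ d) : ∃ g : G, B = A.map (MulAut.conj g).toMonoidHom := by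
  have := Fact.mk hℓ
  obtain ⟨a, ha⟩ := exists_prime_orderOf_dvd_card' (G := ↥A) ℓ (hA ▸ hℓd)
  obtain ⟨b, hb⟩ := exists_prime_orderOf_dvd_card' (G := ↥B) ℓ (hB ▸ hℓd)
  rw [← Subgroup.orderOf_coe] at ha hb
  obtain ⟨P, hP⟩ := (IsPGroup.of_card (n := 1) (by rw [Nat.card_zpowers, hb, pow_one]) :
    IsPGroup ℓ ↥(Subgroup.zpowers (b : G))).exists_le_sylow
  have hbP := hP (Subgroup.mem_zpowers (b : G))
  obtain ⟨g, hg⟩ := exists_conj_mem hℓ P.not_dvd_index ha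
  -- the Sylow subgroup is cyclic
  haveI : Nontrivial ↥(P : Subgroup G) := ⟨⟨b, hbP⟩, 1, fun e => hℓ.one_lt.ne' (by
    rw [← hb, show (b : G) = 1 from congrArg Subtype.val e, orderOf_one])⟩
  haveI := P.isPGroup'.center_nontrivial
  obtain ⟨n, hn⟩ := IsPGroup.iff_card.1 (P.isPGroup'.to_subgroup (Subgroup.center ↥(P : Subgroup G)))
  have hn0 : n ≠ 0 := fun h => by
    rw [h, pow_zero] at hn
    exact not_subsingleton _ (Nat.card_eq_one_iff_unique.1 hn).1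
  obtain ⟨z, hz⟩ := exists_prime_orderOf_dvd_card' (G := ↥(Subgroup.center ↥(P : Subgroup G))) ℓ
    (hn ▸ dvd_pow_self ℓ hn0)
  rw [← Subgroup.orderOf_coe, ← Subgroup.orderOf_coe] at hz
  obtain ⟨M, hMc, hMm⟩ := hM _ hz
  have hPM : (P : Subgroup G) ≤ M := fun p hp => by
    refine hMm p (congrArg Subtype.val (Subgroup.mem_center_iff.1 z.2 ⟨p, hp⟩)) ?_
    obtain ⟨k, hk⟩ := IsPGroup.iff_orderOf.1 P.isPGroup' ⟨p, hp⟩
    rw [← Subgroup.orderOf_coe] at hk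
    rw [hk]; exact (hℓ.odd_of_ne_two hℓ2).pow
  have he : Subgroup.zpowers (g * (a : G) * g⁻¹) = Subgroup.zpowers (b : G) :=
    eq_of_le_cyclic (Subgroup.zpowers_le.2 (hPM hg)) (Subgroup.zpowers_le.2 (hPM hbP))
      (by rw [Nat.card_zpowers, Nat.card_zpowers, orderOf_conj, ha, hb])
  refine ⟨g, ?_⟩
  obtain ⟨M', hM'c, hM'⟩ := hM _ hb
  set A' := A.map (MulAut.conj g).toMonoidHom
  have hA' : IsCyclic ↥A' := isCyclic_of_surjective _ ((MulAut.conj g).toMonoidHom.subgroupMap_surjective A)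
  have hcard : Nat.card ↥A' = d := (Subgroup.card_map_of_injective (MulAut.conj g).injective).trans hA
  have hbA : (b : G) ∈ A' := by
    have h : Subgroup.zpowers (g * (a : G) * g⁻¹) ≤ A' := Subgroup.zpowers_le.2 ⟨a, a.2, rfl⟩
    exact h (he ▸ Subgroup.mem_zpowers _)
  have hle : ∀ X : Subgroup G, IsCyclic ↥X → Nat.card ↥X = d → (b : G) ∈ X → X ≤ M' := by
    intro X hX hc hbX c hc'
    letI : CommGroup ↥X := IsCyclic.commGroup
    refine hM' c (congrArg Subtype.val (mul_comm (⟨c, hc'⟩ : ↥X) ⟨b, hbX⟩)) ?_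
    exact Odd.of_dvd_nat hd (hc ▸ Subgroup.orderOf_dvd_natCard _ hc')
  exact eq_of_le_cyclic (hle B inferInstance hB b.2) (hle A' hA' hcard hbA) (hB.trans hcard.symm)

/-- In `ZMod ℓ`, a root of `t² - t + 1` has order six. -/
theorem pow_ne_one_of_sixth {F : Type*} [Field F] {t : F} (ht : t ^ 2 - t + 1 = 0) (h2 : (2 : F) ≠ 0)
    (h3 : (3 : F) ≠ 0) {d : ℕ} (h1d : 1 ≤ d) (hd7 : d ≤ 7) (hd6 : d ≠ 6) : t ^ d ≠ 1 := by
  have e3 : t ^ 3 = -1 := by linear_combination (t + 1) * ht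
  have n1 : t ≠ 1 := fun h => one_ne_zero (α := F) (by rw [h] at ht; linear_combination ht)
  have n2 : t ^ 2 ≠ 1 := fun h => by
    rcases sq_eq_one_iff.1 h with h | h
    · exact n1 h
    · exact h3 (by rw [h] at ht; linear_combination ht)
  intro h
  interval_cases d
  · exact n1 (by simpa using h)
  · exact n2 h
  · exact h2 (by linear_combination h.symm.trans e3)
  · exact n2 (by linear_combination (t ^ 3 - 1) * e3 - t ^ 2 * h)
  · exact n1 (by linear_combination (t ^ 3 - 1) * e3 - t * h)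
  · exact absurd rfl hd6
  · exact n1 (by linear_combination h - t * (t ^ 3 - 1) * e3)

variable {K : Type*} [Field K] [Fintype K] {m : ℕ}

/-- The seven-dimensional representation. -/
theorem exists_faithful (hK : Fintype.card K = 3 ^ (2 * m + 1)) :
    ∃ f : ↥(Gr K m) →* Module.End K (Fin g2Ideal.length → K), Function.Injective f := by
  haveI := (H48.Ree.field_data hK).1
  let e : Matrix (Fin g2Ideal.length) (Fin g2Ideal.length) K ≃ₐ[K] Module.End K (Fin g2Ideal.length → K) :=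
    Matrix.toLinAlgEquiv'
  refine ⟨(MonoidHomClass.toMonoidHom e).comp ((Units.coeHom _).comp ((idealRep (F := K) idealCheck_g2).comp
        (Subgroup.inclusion (H65.Twist.twistedG2_le)))), ?_⟩
  exact e.injective.comp (Units.val_injective.comp
    ((idealRep_injective idealCheck_g2 leftInvCheck_g2).comp (Subgroup.inclusion_injective _)))

/-- A prime with a root `q` of `t² - t + 1` does not divide `q - 1` or `q + 1`. -/
theorem not_dvd_pred_succ {ℓ q : ℕ} (hℓ : ℓ.Prime) (hℓ3 : ℓ ≠ 3) (h1 : 1 ≤ q)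
    (hd : ((q : ZMod ℓ)) ^ 2 - (q : ZMod ℓ) + 1 = 0) : ¬ ℓ ∣ q - 1 ∧ ¬ ℓ ∣ q + 1 := by
  have := Fact.mk hℓ
  refine ⟨fun h => ?_, fun h => ?_⟩
  · have h' := (ZMod.natCast_eq_zero_iff _ _).2 h
    rw [Nat.cast_sub h1, Nat.cast_one] at h'
    exact one_ne_zero (α := ZMod ℓ) (by linear_combination hd - (q : ZMod ℓ) * h')
  · have h' : ((q + 1 : ℕ) : ZMod ℓ) = 0 := (ZMod.natCast_eq_zero_iff _ _).2 h
    rw [Nat.cast_add, Nat.cast_one] at h'
    have h3 : ((3 : ℕ) : ZMod ℓ) = 0 := by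
      push_cast; linear_combination hd - ((q : ZMod ℓ) - 2) * h'
    exact hℓ3 ((Nat.prime_dvd_prime_iff_eq hℓ Nat.prime_three).1 ((ZMod.natCast_eq_zero_iff _ _).1 h3))

/-- The centraliser of an element of prime order dividing `q² - q + 1` has order prime to `3 (q - 1) (q + 1)`. -/
theorem not_dvd_centralizer_six (hK : Fintype.card K = 3 ^ (2 * m + 1)) {x : ↥(Gr K m)} {ℓ : ℕ} (hℓ : ℓ.Prime)
    (hℓ3 : ℓ ≠ 3) (hn1 : ¬ ℓ ∣ 3 ^ (2 * m + 1) - 1) (hn2 : ¬ ℓ ∣ 3 ^ (2 * m + 1) + 1) (ho : orderOf x = ℓ)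
    {r : ℕ} (hr : r.Prime) (h : r = 3 ∨ r ∣ 3 ^ (2 * m + 1) - 1 ∨ r ∣ 3 ^ (2 * m + 1) + 1) :
    ¬ r ∣ Nat.card ↥(Subgroup.centralizer ({x} : Set ↥(Gr K m))) := by
  classical
  intro hrC
  have := Fact.mk hr
  obtain ⟨w, hw⟩ := exists_prime_orderOf_dvd_card' (G := ↥(Subgroup.centralizer ({x} : Set ↥(Gr K m)))) r hrC
  rw [← Subgroup.orderOf_coe] at hw
  have hwx : (w : ↥(Gr K m)) * x = x * w := Subgroup.mem_centralizer_singleton_iff.1 w.2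
  have conjmem : ∀ g : ↥(Gr K m),
      g * x * g⁻¹ ∈ Subgroup.centralizer ({g * (w : ↥(Gr K m)) * g⁻¹} : Set ↥(Gr K m)) := by
    intro g
    rw [Subgroup.mem_centralizer_singleton_iff]
    calc g * x * g⁻¹ * (g * w * g⁻¹) = g * (x * w) * g⁻¹ := by group
      _ = g * w * g⁻¹ * (g * x * g⁻¹) := by rw [← hwx]; group
  rcases eq_or_ne r 2 with rfl | hr2
  · obtain ⟨g, hg⟩ := involution_conj hK hw
    have hdv := Subgroup.orderOf_dvd_natCard _ (hg ▸ conjmem g)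
    rw [orderOf_conj, ho, card_centralizer_tR hK] at hdv
    rcases hℓ.dvd_mul.1 hdv with h | h
    · rcases hℓ.dvd_mul.1 h with h | h
      · exact hℓ3 ((Nat.prime_dvd_prime_iff_eq hℓ Nat.prime_three).1 (hℓ.dvd_of_dvd_pow h))
      · exact hn1 h
    · exact hn2 h
  rcases h with rfl | h | h
  · exact not_commute_three hK hw hℓ ho hℓ3 hn1 hwx
  · obtain ⟨g, hg⟩ := exists_conj_H hK hr hr2 h hw
    have hmem := conjmem g
    rw [centralizer_H hK hg hr hr2 (by rw [orderOf_conj, hw])] at hmem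
    have hdv := Subgroup.orderOf_dvd_natCard _ hmem
    rw [orderOf_conj, ho, card_H hK] at hdv
    exact hn1 hdv
  · have hdv := Subgroup.orderOf_dvd_natCard _ (Subgroup.mem_centralizer_singleton_iff.2 hwx.symm :
      x ∈ Subgroup.centralizer ({(w : ↥(Gr K m))} : Set ↥(Gr K m)))
    rw [(nonsplit_torus hK hr hr2 h hw).1, ho] at hdv
    exact hn2 hdv

/-- The centraliser of an element of prime order dividing `q² - q + 1` is cyclic. -/
theorem isCyclic_centralizer_six (hK : Fintype.card K = 3 ^ (2 * m + 1)) {x : ↥(Gr K m)} {ℓ : ℕ} (hℓ : ℓ.Prime)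
    (hℓ2 : ℓ ≠ 2) (hℓ3 : ℓ ≠ 3)
    (hd : (((3 ^ (2 * m + 1) : ℕ) : ZMod ℓ)) ^ 2 - ((3 ^ (2 * m + 1) : ℕ) : ZMod ℓ) + 1 = 0)
    (ho : orderOf x = ℓ) : IsCyclic ↥(Subgroup.centralizer ({x} : Set ↥(Gr K m))) := by
  classical
  haveI := (H48.Ree.field_data hK).1
  have := Fact.mk hℓ
  set q := 3 ^ (2 * m + 1) with hq
  set t : ZMod ℓ := ((q : ℕ) : ZMod ℓ)
  have hp : ∀ p : ℕ, p.Prime → ℓ ≠ p → (p : ZMod ℓ) ≠ 0 := fun p hp hne h =>
    hne ((Nat.prime_dvd_prime_iff_eq hℓ hp).1 ((ZMod.natCast_eq_zero_iff _ _).1 h))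
  have h2 : (2 : ZMod ℓ) ≠ 0 := by exact_mod_cast hp 2 Nat.prime_two hℓ2
  have h3 : (3 : ZMod ℓ) ≠ 0 := by exact_mod_cast hp 3 Nat.prime_three hℓ3
  have hne : ∀ d, 1 ≤ d → d ≤ 7 → d ≠ 6 → t ^ d ≠ 1 := fun d => pow_ne_one_of_sixth hd h2 h3
  obtain ⟨hn1, hn2⟩ := not_dvd_pred_succ hℓ hℓ3 (Nat.one_le_pow _ _ (by norm_num)) hd
  obtain ⟨f, hf⟩ := exists_faithful (m := m) hK
  set C := Subgroup.centralizer ({x} : Set ↥(Gr K m))
  refine isCyclic_of_faithful (f.comp C.subtype) (hf.comp Subtype.val_injective) (Module.finrank_fin_fun K).le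
    (y := (⟨x, Subgroup.mem_centralizer_singleton_iff.2 rfl⟩ : ↥C)) hℓ ?_ ?_ ?_ ?_ ?_
  · intro h
    exact hℓ3 ((Nat.prime_dvd_prime_iff_eq Nat.prime_three hℓ).1 ((CharP.cast_eq_zero_iff K 3 ℓ).1 h)).symm
  · rw [← Subgroup.orderOf_coe, ho]
  · exact fun g => Subtype.ext (Subgroup.mem_centralizer_singleton_iff.1 g.2)
  · intro d hd1 hd7 hd6 hdvd
    refine hne d hd1 hd7 hd6 ?_
    have := (ZMod.intCast_zmod_eq_zero_iff_dvd _ ℓ).2 hdvd
    rw [hK] at this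
    push_cast at this
    rw [sub_eq_zero] at this
    simpa [t, hq] using this
  · rw [hK]
    exact Nat.coprime_of_dvd fun r hr hrC hrq =>
      not_dvd_centralizer_six hK hℓ hℓ3 hn1 hn2 ho hr (Or.inr (Or.inl hrq)) hrC

/-- The product of the two factors `q ∓ 3^(m+1) + 1`. -/
theorem sixth_of_dvd {ℓ : ℕ} (h : ℓ ∣ 3 ^ (2 * m + 1) - 3 ^ (m + 1) + 1 ∨ ℓ ∣ 3 ^ (2 * m + 1) + 3 ^ (m + 1) + 1) :
    (((3 ^ (2 * m + 1) : ℕ) : ZMod ℓ)) ^ 2 - ((3 ^ (2 * m + 1) : ℕ) : ZMod ℓ) + 1 = 0 := by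
  have hle : 3 ^ (m + 1) ≤ 3 ^ (2 * m + 1) := Nat.pow_le_pow_right (by norm_num) (by omega)
  have he : ((3 : ZMod ℓ) ^ (m + 1)) ^ 2 = 3 * 3 ^ (2 * m + 1) := by ring
  rcases h with h | h <;> have h' := (ZMod.natCast_eq_zero_iff _ _).2 h <;> push_cast [Nat.cast_sub hle] at h' ⊢
  · linear_combination ((3 : ZMod ℓ) ^ (2 * m + 1) + 3 ^ (m + 1) + 1) * h' + he
  · linear_combination ((3 : ZMod ℓ) ^ (2 * m + 1) - 3 ^ (m + 1) + 1) * h' + he

/-- For a prime of one of the toral orders, the elements of odd order of the centraliser lie in a cyclic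
subgroup. -/
theorem odd_centralizer_cyclic (hK : Fintype.card K = 3 ^ (2 * m + 1)) {ℓ : ℕ} (hℓ : ℓ.Prime) (hℓ2 : ℓ ≠ 2)
    (hℓ3 : ℓ ≠ 3) (hd : ℓ ∣ (3 ^ (2 * m + 1) - 1) / 2 ∨ ℓ ∣ (3 ^ (2 * m + 1) + 1) / 4 ∨
      ℓ ∣ 3 ^ (2 * m + 1) - 3 ^ (m + 1) + 1 ∨ ℓ ∣ 3 ^ (2 * m + 1) + 3 ^ (m + 1) + 1)
    (x : ↥(Gr K m)) (ho : orderOf x = ℓ) :
    ∃ M : Subgroup ↥(Gr K m), IsCyclic ↥M ∧ ∀ a, a * x = x * a → Odd (orderOf a) → a ∈ M := by
  obtain ⟨k, k', -, -, hk, hk', -, -⟩ := q_arith m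
  rcases hd with h | h | h
  · exact ⟨_, (split_torus hK hℓ hℓ2 (h.trans (Nat.div_dvd_of_dvd (Dvd.intro k' hk'.symm))) ho).1,
      fun a ha _ => Subgroup.mem_centralizer_singleton_iff.2 ha⟩
  · obtain ⟨-, -, -, M, hM, hmem⟩ :=
      nonsplit_torus hK hℓ hℓ2 (h.trans (Nat.div_dvd_of_dvd (Dvd.intro k hk.symm))) ho
    exact ⟨M, hM, fun a ha => hmem a (Subgroup.mem_centralizer_singleton_iff.2 ha)⟩
  · exact ⟨_, isCyclic_centralizer_six hK hℓ hℓ2 hℓ3 (sixth_of_dvd h) ho,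
      fun a ha _ => Subgroup.mem_centralizer_singleton_iff.2 ha⟩

/-- The toral orders are prime to six. -/
theorem toral_coprime_six (hm : 1 ≤ m) {d : ℕ} (hd : d ∣ (3 ^ (2 * m + 1) - 1) / 2 ∨ d ∣ (3 ^ (2 * m + 1) + 1) / 4 ∨
    d ∣ 3 ^ (2 * m + 1) - 3 ^ (m + 1) + 1 ∨ d ∣ 3 ^ (2 * m + 1) + 3 ^ (m + 1) + 1) :
    Odd d ∧ ¬ 3 ∣ d := by
  obtain ⟨k, k', hk, hk', hq, hq', hq3, -⟩ := q_arith m
  have he2 : 3 ^ (m + 1) % 2 = 1 := Nat.odd_iff.1 (Odd.pow (by decide))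
  have he3 : 3 ^ (m + 1) % 3 = 0 := by rw [pow_succ, Nat.mul_mod_left]
  have hle : 3 ^ (m + 1) ≤ 3 ^ (2 * m + 1) := Nat.pow_le_pow_right (by norm_num) (by omega)
  have := Nat.odd_iff.1 hk
  have := Nat.odd_iff.1 hk'
  have hn : ∀ n : ℕ, d ∣ n → n % 2 = 1 → n % 3 ≠ 0 → Odd d ∧ ¬ 3 ∣ d := fun n hn h2 h3 =>
    ⟨Odd.of_dvd_nat (Nat.odd_iff.2 h2) hn, fun h => h3 (Nat.mod_eq_zero_of_dvd (h.trans hn))⟩
  generalize 3 ^ (2 * m + 1) = q at *
  generalize 3 ^ (m + 1) = e at *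
  rcases hd with h | h | h | h <;> refine hn _ h ?_ ?_ <;> omega

/-- Cyclic subgroups of one toral order are conjugate. -/
theorem cyclic_toral_conjugate (hm : 1 ≤ m) (hK : Fintype.card K = 3 ^ (2 * m + 1)) (d : ℕ)
    (hd : d ∣ (3 ^ (2 * m + 1) - 1) / 2 ∨ d ∣ (3 ^ (2 * m + 1) + 1) / 4 ∨
      d ∣ 3 ^ (2 * m + 1) - 3 ^ (m + 1) + 1 ∨ d ∣ 3 ^ (2 * m + 1) + 3 ^ (m + 1) + 1)
    (A B : Subgroup ↥(Gr K m)) (hA : IsCyclic ↥A) (hB : IsCyclic ↥B)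
    (hAd : Nat.card ↥A = d) (hBd : Nat.card ↥B = d) :
    ∃ g : ↥(Gr K m), B = A.map (MulAut.conj g).toMonoidHom := by
  obtain ⟨hodd, h3⟩ := toral_coprime_six hm hd
  rcases eq_or_ne d 1 with rfl | hd1
  · refine ⟨1, ?_⟩
    rw [Subgroup.card_eq_one.1 hAd, Subgroup.card_eq_one.1 hBd, Subgroup.map_bot]
  obtain ⟨ℓ, hℓ, hℓd⟩ := Nat.exists_prime_and_dvd hd1
  have hℓ2 : ℓ ≠ 2 := fun e => (Nat.not_even_iff_odd.2 hodd) (even_iff_two_dvd.2 (e ▸ hℓd))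
  exact conj_of_prime hℓ hℓ2 (odd_centralizer_cyclic hK hℓ hℓ2 (fun e => h3 (e ▸ hℓd))
    (hd.imp hℓd.trans (Or.imp hℓd.trans (Or.imp hℓd.trans hℓd.trans)))) hAd hBd hodd hℓd

end Cfsg.Agent.H47.Ree
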