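import Mathlib.GroupTheory.Subgroup.Center
import Mathlib.GroupTheory.OrderOfElement
import Mathlib.GroupTheory.Coset.Card
import Mathlib.Algebra.Group.Commute.Basic
import Mathlib.Tactic.Group

/-!
Counting the union of the conjugates of a subset that meets its conjugates only through a given subgroup, and the
elements of twice an odd order.
-/

set_option autoImplicit false

namespace Cfsg.Agent.H47.Ree

variable {G : Type*} [Group G]

/-- The elements conjugate into a set. -/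
def sweep (S : Set G) : Set G := {z | ∃ g : G, g * z * g⁻¹ ∈ S}

theorem mem_sweep {S : Set G} {z : G} : z ∈ sweep S ↔ ∃ g : G, g * z * g⁻¹ ∈ S := Iff.rfl

/-- The conjugates of a set with stabiliser `N` that meets no other conjugate. -/
theorem card_sweep [Finite G] (N : Subgroup G) (S : Set G) (hN : ∀ n ∈ N, ∀ s ∈ S, n * s * n⁻¹ ∈ S)
    (hTI : ∀ g : G, ∀ s ∈ S, g * s * g⁻¹ ∈ S → g ∈ N) :
    Nat.card ↥(sweep S) * Nat.card ↥N = Nat.card ↥S * Nat.card G := by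
  classical
  have hsec : ∀ z : ↥(sweep S), ∃ g : G, g * (z : G) * g⁻¹ ∈ S := fun z => z.2
  choose c hc using hsec
  have hz : ∀ (g : G) (s : ↥S), g⁻¹ * (s : G) * g ∈ sweep S := fun g s =>
    ⟨g, by rw [show g * (g⁻¹ * (s : G) * g) * g⁻¹ = s by group]; exact s.2⟩
  rw [mul_comm (Nat.card ↥S), ← Nat.card_prod, ← Nat.card_prod]
  refine Nat.card_eq_of_bijective
    (fun p => ((p.2 : G) * c p.1, ⟨(p.2 : G) * (c p.1 * p.1 * (c p.1)⁻¹) * (p.2 : G)⁻¹, hN _ p.2.2 _ (hc p.1)⟩))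
    ⟨?_, ?_⟩
  · rintro ⟨z, n⟩ ⟨z', n'⟩ e
    simp only [Prod.mk.injEq, Subtype.ext_iff] at e
    obtain ⟨e1, e2⟩ := e
    have ez : (z : G) = z' := by
      calc (z : G) = ((n : G) * c z)⁻¹ * ((n : G) * (c z * z * (c z)⁻¹) * (n : G)⁻¹) * ((n : G) * c z) := by group
        _ = ((n' : G) * c z')⁻¹ * ((n' : G) * (c z' * z' * (c z')⁻¹) * (n' : G)⁻¹) * ((n' : G) * c z') := by
          rw [e2, e1]
        _ = z' := by group
    obtain rfl : z = z' := Subtype.ext ez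
    obtain rfl : n = n' := Subtype.ext (mul_right_cancel e1)
    rfl
  · rintro ⟨g, s⟩
    let z : ↥(sweep S) := ⟨g⁻¹ * (s : G) * g, hz g s⟩
    have hn : g * (c z)⁻¹ ∈ N := by
      refine hTI _ _ (hc z) ?_
      rw [show g * (c z)⁻¹ * (c z * (z : G) * (c z)⁻¹) * (g * (c z)⁻¹)⁻¹ = g * (z : G) * g⁻¹ by group]
      show g * (g⁻¹ * (s : G) * g) * g⁻¹ ∈ S
      rw [show g * (g⁻¹ * (s : G) * g) * g⁻¹ = s by group]
      exact s.2
    refine ⟨(z, ⟨_, hn⟩), Prod.ext (inv_mul_cancel_right g (c z)) (Subtype.ext ?_)⟩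
    show g * (c z)⁻¹ * (c z * (g⁻¹ * (s : G) * g) * (c z)⁻¹) * (g * (c z)⁻¹)⁻¹ = s
    group

/-- The elements of order `2 i`, for `i` odd, are the products of commuting elements of orders `2` and `i`. -/
theorem card_orderOf_two_mul {i : ℕ} (hi : Odd i) :
    Nat.card {g : G // orderOf g = 2 * i} =
      Nat.card {p : G × G // orderOf p.1 = 2 ∧ orderOf p.2 = i ∧ p.1 * p.2 = p.2 * p.1} := by
  obtain ⟨j, hj⟩ := hi
  have hfwd : ∀ g : G, orderOf g = 2 * i →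
      orderOf (g ^ i) = 2 ∧ orderOf (g ^ (i + 1)) = i ∧ g ^ i * g ^ (i + 1) = g ^ (i + 1) * g ^ i := by
    intro g hg
    refine ⟨?_, ?_, pow_mul_comm g _ _⟩
    · rw [orderOf_pow_of_dvd (by omega) (hg ▸ dvd_mul_left i 2), hg, Nat.mul_div_cancel _ (by omega)]
    · rw [show i + 1 = 2 * (j + 1) by omega, pow_mul]
      have h2 : orderOf (g ^ 2) = i := by
        rw [orderOf_pow_of_dvd two_ne_zero (hg ▸ dvd_mul_right 2 i), hg, Nat.mul_div_cancel_left _ two_pos]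
      rw [Nat.Coprime.orderOf_pow, h2]
      rw [h2, hj, show 2 * j + 1 = j + (j + 1) by ring, Nat.coprime_add_self_left, Nat.coprime_self_add_right]
      exact Nat.coprime_one_right j
  have hbwd : ∀ t y : G, orderOf t = 2 → orderOf y = i → t * y = y * t → orderOf (t * y) = 2 * i := by
    intro t y ht hy hc
    rw [Commute.orderOf_mul_eq_mul_orderOf_of_coprime hc (by
      rw [ht, hy, hj]; exact Nat.coprime_two_left.2 ⟨j, rfl⟩), ht, hy]
  exact Nat.card_congr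
    { toFun := fun g => ⟨(g.1 ^ i, g.1 ^ (i + 1)), hfwd g.1 g.2⟩
      invFun := fun p => ⟨p.1.1 * p.1.2, hbwd _ _ p.2.1 p.2.2.1 p.2.2.2⟩
      left_inv := fun g => Subtype.ext (by
        show g.1 ^ i * g.1 ^ (i + 1) = g.1
        rw [← pow_add, show i + (i + 1) = 2 * i + 1 by ring, pow_succ, orderOf_dvd_iff_pow_eq_one.1 g.2.dvd, one_mul])
      right_inv := fun p => by
        obtain ⟨⟨t, y⟩, ht, hy, hc⟩ := p
        have ht2 : t ^ 2 = 1 := by rw [← ht, pow_orderOf_eq_one]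
        have hy1 : y ^ i = 1 := by rw [← hy, pow_orderOf_eq_one]
        refine Subtype.ext (Prod.ext ?_ ?_)
        · show (t * y) ^ i = t
          rw [(show Commute t y from hc).mul_pow, hy1, mul_one, hj, pow_succ, pow_mul, ht2, one_pow, one_mul]
        · show (t * y) ^ (i + 1) = y
          rw [(show Commute t y from hc).mul_pow, pow_succ y, hy1, one_mul,
            show i + 1 = 2 * (j + 1) by omega, pow_mul, ht2, one_pow, one_mul] }

/-- Pairs with conjugate first components. -/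
theorem card_pairs_of_conj [Finite G] (P : G → Prop) (Q : G → Prop) (hQ : ∀ g y, Q y → Q (g * y * g⁻¹)) (t : G)
    (hP : ∀ s, P s → ∃ g, g * t * g⁻¹ = s) :
    Nat.card {p : G × G // P p.1 ∧ Q p.2 ∧ p.1 * p.2 = p.2 * p.1} =
      Nat.card {s : G // P s} * Nat.card {y : G // Q y ∧ t * y = y * t} := by
  classical
  have hsec : ∀ s : {s : G // P s}, ∃ g, g * t * g⁻¹ = (s : G) := fun s => hP _ s.2
  choose c hc using hsec
  have hmem : ∀ p : {s : G // P s} × {y : G // Q y ∧ t * y = y * t},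
      (p.1 : G) * (c p.1 * p.2 * (c p.1)⁻¹) = c p.1 * p.2 * (c p.1)⁻¹ * p.1 := by
    intro p
    rw [← hc p.1]
    calc c p.1 * t * (c p.1)⁻¹ * (c p.1 * p.2 * (c p.1)⁻¹) = c p.1 * (t * p.2) * (c p.1)⁻¹ := by group
      _ = c p.1 * p.2 * (c p.1)⁻¹ * (c p.1 * t * (c p.1)⁻¹) := by rw [p.2.2.2]; group
  rw [← Nat.card_prod]
  refine (Nat.card_eq_of_bijective (fun p => ⟨((p.1 : G), c p.1 * p.2 * (c p.1)⁻¹), p.1.2, hQ _ _ p.2.2.1, hmem p⟩)
    ⟨?_, ?_⟩).symm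
  · rintro ⟨s, y⟩ ⟨s', y'⟩ e
    simp only [Subtype.ext_iff, Prod.mk.injEq] at e
    obtain rfl : s = s' := Subtype.ext e.1
    obtain rfl : y = y' := Subtype.ext (mul_left_cancel (mul_right_cancel e.2))
    rfl
  · rintro ⟨⟨s, y⟩, hs, hy, hsy⟩
    refine ⟨(⟨s, hs⟩, ⟨(c ⟨s, hs⟩)⁻¹ * y * c ⟨s, hs⟩, ?_, ?_⟩), Subtype.ext (Prod.ext rfl ?_)⟩
    · simpa using hQ (c ⟨s, hs⟩)⁻¹ y hy
    · refine mul_left_cancel (a := c ⟨s, hs⟩) (mul_right_cancel (b := (c ⟨s, hs⟩)⁻¹) ?_)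
      calc c ⟨s, hs⟩ * (t * ((c ⟨s, hs⟩)⁻¹ * y * c ⟨s, hs⟩)) * (c ⟨s, hs⟩)⁻¹
          = c ⟨s, hs⟩ * t * (c ⟨s, hs⟩)⁻¹ * y := by group
        _ = y * (c ⟨s, hs⟩ * t * (c ⟨s, hs⟩)⁻¹) := by rw [hc]; exact hsy
        _ = _ := by group
    · show c ⟨s, hs⟩ * ((c ⟨s, hs⟩)⁻¹ * y * c ⟨s, hs⟩) * (c ⟨s, hs⟩)⁻¹ = y
      group

end Cfsg.Agent.H47.Ree
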