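import Cfsg.Agent.H47.Ree.TorusNormalizer

/-!
The elements of orders two, three, six and nine of the small Ree group.
-/

set_option autoImplicit false

open Cfsg.Lie Cfsg.Agent.H46

namespace Cfsg.Agent.H47.Ree

open Cfsg.Agent.H48.Ree (W Gr Ur Hr Br)

variable {K : Type*} [Field K] [Fintype K] {m : ℕ}

/-- An element of prime power order is conjugate into any subgroup of index prime to it. -/
theorem exists_conj_mem_pow {G : Type*} [Group G] [Finite G] {M : Subgroup G} {ℓ : ℕ} (hℓ : ℓ.Prime)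
    (hM : ¬ ℓ ∣ M.index) {x : G} {n : ℕ} (hx : orderOf x = ℓ ^ n) : ∃ g : G, g * x * g⁻¹ ∈ M := by
  have := Fact.mk hℓ
  let Q : Sylow ℓ ↥M := default
  have hp : IsPGroup ℓ ↥((Q : Subgroup ↥M).map M.subtype) := Q.isPGroup'.map _
  have hidx : ¬ ℓ ∣ ((Q : Subgroup ↥M).map M.subtype).index := by
    rw [Subgroup.index_map_subtype]
    exact hℓ.not_dvd_mul Q.not_dvd_index hM
  let P₀ : Sylow ℓ G := hp.toSylow hidx
  obtain ⟨P, hP⟩ := (IsPGroup.of_card (n := n) (by rw [Nat.card_zpowers, hx]) :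
    IsPGroup ℓ ↥(Subgroup.zpowers x)).exists_le_sylow
  obtain ⟨g, hg⟩ := MulAction.exists_smul_eq G P P₀
  refine ⟨g, ?_⟩
  have h1 : g * x * g⁻¹ ∈ (P₀ : Subgroup G) := by
    rw [← hg, Sylow.coe_subgroup_smul, Subgroup.mem_pointwise_smul_iff_inv_smul_mem]
    simpa [MulAut.smul_def, mul_assoc] using hP (Subgroup.mem_zpowers x)
  exact Subgroup.map_subtype_le _ h1

/-- The Borel subgroup inside the group. -/
noncomputable def borel (K : Type*) [Field K] (m : ℕ) : Subgroup ↥(Gr K m) := (Br K m).subgroupOf (Gr K m)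

theorem mem_borel {g : ↥(Gr K m)} : g ∈ borel K m ↔ (g : GL chevG2.Idx K) ∈ Br K m := Iff.rfl

theorem card_borel (hK : Fintype.card K = 3 ^ (2 * m + 1)) :
    Nat.card ↥(borel K m) = (3 ^ (2 * m + 1)) ^ 3 * (3 ^ (2 * m + 1) - 1) := by
  rw [borel, Nat.card_congr (Subgroup.subgroupOfEquivOfLe (inf_le_right : Br K m ≤ Gr K m)).toEquiv,
    H48.Ree.card_Br hK, H48.Ree.card_Ur hK, ree_card_diagonal_eq hK]
where
  ree_card_diagonal_eq (hK : Fintype.card K = 3 ^ (2 * m + 1)) : Nat.card ↥(Hr K m) = 3 ^ (2 * m + 1) - 1 := by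
    rw [← card_H hK]
    exact (Nat.card_congr (Subgroup.subgroupOfEquivOfLe (inf_le_right : Hr K m ≤ Gr K m)).toEquiv).symm

theorem conj_borel_U (hK : Fintype.card K = 3 ^ (2 * m + 1)) {g u : ↥(Gr K m)} (hg : g ∈ borel K m)
    (hu : u ∈ (cell hK).U) : g * u * g⁻¹ ∈ (cell hK).U :=
  H48.Ree.conj_U hg hu

/-- An element carrying a nontrivial element of `U` into `U` lies in the Borel subgroup. -/
theorem mem_borel_of_conj (hK : Fintype.card K = 3 ^ (2 * m + 1)) {g u : ↥(Gr K m)} (hu : u ∈ (cell hK).U)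
    (hu1 : u ≠ 1) (h : g * u * g⁻¹ ∈ (cell hK).U) : g ∈ borel K m := by
  by_contra hg
  exact hu1 (Subtype.ext (H48.Ree.conj_inter hK g.2 hg hu (H48.Ree.Ur_le_Br h)))

theorem U_shape (hK : Fintype.card K = 3 ^ (2 * m + 1)) {u : ↥(Gr K m)} (hu : u ∈ (cell hK).U) :
    ∃ t b v, (u : GL chevG2.Idx K) = W (3 ^ m) t b v :=
  H48.Ree.uShape hK _ hu

theorem W_mem_U' (hK : Fintype.card K = 3 ^ (2 * m + 1)) (t b v : K) :
    ∃ u ∈ (cell hK).U, (u : GL chevG2.Idx K) = W (3 ^ m) t b v :=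
  ⟨⟨_, (H48.Ree.W_mem_U (3 ^ m) t b v).2⟩, H48.Ree.W_mem_U _ _ _ _, rfl⟩

theorem U_pow_nine (hK : Fintype.card K = 3 ^ (2 * m + 1)) {u : ↥(Gr K m)} (hu : u ∈ (cell hK).U) : u ^ 9 = 1 := by
  haveI := (H48.Ree.field_data hK).1
  obtain ⟨t, b, v, e⟩ := U_shape hK hu
  refine Subtype.ext ?_
  rw [SubmonoidClass.coe_pow, e, show 9 = 3 * 3 from rfl, pow_mul, H48.Ree.W_cube (H48.Ree.field_data hK).2,
    H48.Ree.W_cube (H48.Ree.field_data hK).2, zero_pow (by omega), neg_zero, H48.Ree.W_zero]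
  rfl

/-- In `U`, the cube is trivial exactly on the elements with vanishing first coordinate. -/
theorem U_cube (hK : Fintype.card K = 3 ^ (2 * m + 1)) {u : ↥(Gr K m)} {t b v : K}
    (e : (u : GL chevG2.Idx K) = W (3 ^ m) t b v) : u ^ 3 = 1 ↔ t = 0 := by
  haveI := (H48.Ree.field_data hK).1
  rw [Subtype.ext_iff, SubmonoidClass.coe_pow, e, H48.Ree.W_cube (H48.Ree.field_data hK).2]
  show W (3 ^ m) _ _ _ = 1 ↔ _
  rw [H48.Ree.W_eq_one_iff]
  simp

/-- The elements of order nine of `U`. -/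
theorem card_U_nine (hK : Fintype.card K = 3 ^ (2 * m + 1)) :
    Nat.card ↥{u : ↥(Gr K m) | u ∈ (cell hK).U ∧ orderOf u = 9} =
      (3 ^ (2 * m + 1) - 1) * (3 ^ (2 * m + 1)) ^ 2 := by
  classical
  haveI := (H48.Ree.field_data hK).1
  have hcard : Nat.card K = 3 ^ (2 * m + 1) := by rw [Nat.card_eq_fintype_card, hK]
  have ht : Nat.card {t : K // t ≠ 0} = 3 ^ (2 * m + 1) - 1 := by
    rw [Nat.card_eq_fintype_card, Fintype.card_subtype_compl, Fintype.card_subtype_eq, hK]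
  rw [← ht, ← hcard, sq, ← Nat.card_prod K K, ← Nat.card_prod]
  have hmem : ∀ p : {t : K // t ≠ 0} × K × K,
      (⟨W (3 ^ m) p.1.1 p.2.1 p.2.2, (H48.Ree.W_mem_U _ _ _ _).2⟩ : ↥(Gr K m)) ∈
        {u : ↥(Gr K m) | u ∈ (cell hK).U ∧ orderOf u = 9} := by
    intro p
    have hu : (⟨W (3 ^ m) p.1.1 p.2.1 p.2.2, (H48.Ree.W_mem_U _ _ _ _).2⟩ : ↥(Gr K m)) ∈ (cell hK).U :=
      H48.Ree.W_mem_U _ _ _ _
    refine ⟨hu, ?_⟩
    haveI : Fact (Nat.Prime 3) := ⟨Nat.prime_three⟩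
    exact orderOf_eq_prime_pow (p := 3) (n := 1) (fun h => p.1.2 ((U_cube hK
      (u := ⟨W (3 ^ m) p.1.1 p.2.1 p.2.2, (H48.Ree.W_mem_U _ _ _ _).2⟩) rfl).1 (by simpa using h)))
      (by simpa using U_pow_nine hK hu)
  refine (Nat.card_eq_of_bijective (fun p => ⟨_, hmem p⟩) ⟨fun p p' e => ?_, ?_⟩).symm
  · obtain ⟨e1, e2, e3⟩ := H48.Ree.W_injective (congrArg (fun u => ((u.1 : ↥(Gr K m)) : GL chevG2.Idx K)) e)
    exact Prod.ext (Subtype.ext e1) (Prod.ext e2 e3)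
  · rintro ⟨u, hu, ho⟩
    obtain ⟨t, b, v, e⟩ := U_shape hK hu
    refine ⟨(⟨t, fun h => ?_⟩, b, v), Subtype.ext (Subtype.ext e.symm)⟩
    have := orderOf_dvd_of_pow_eq_one ((U_cube hK e).2 h)
    rw [ho] at this
    norm_num at this

theorem card_U_three (hK : Fintype.card K = 3 ^ (2 * m + 1)) :
    Nat.card ↥{u : ↥(Gr K m) | u ∈ (cell hK).U ∧ orderOf u = 3} = (3 ^ (2 * m + 1)) ^ 2 - 1 := by
  haveI := (H48.Ree.field_data hK).1
  have h := H48.Ree.card_order_three (H48.Ree.field_data hK).2 (H48.Ree.uShape hK)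
  rw [Nat.card_eq_fintype_card (α := K), hK] at h
  rw [← h]
  exact Nat.card_congr
    { toFun := fun u => ⟨⟨(u.1 : GL chevG2.Idx K), u.2.1⟩, by
        rw [← Subgroup.orderOf_coe]; exact (Subgroup.orderOf_coe u.1).trans u.2.2⟩
      invFun := fun u => ⟨⟨(u.1 : GL chevG2.Idx K), (Subgroup.mem_inf.1 u.1.2).2⟩, u.1.2, by
        rw [← Subgroup.orderOf_coe]; exact (Subgroup.orderOf_coe u.1).trans u.2⟩
      left_inv := fun u => rfl
      right_inv := fun u => rfl }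

theorem index_U (hK : Fintype.card K = 3 ^ (2 * m + 1)) : ¬ 3 ∣ (cell (m := m) hK).U.index := by
  intro h
  have e := (cell (m := m) hK).U.card_mul_index
  rw [card_U hK, card_R hK, mul_assoc] at e
  rw [Nat.eq_of_mul_eq_mul_left (pow_pos (pow_pos (by norm_num) _) 3) e] at h
  have h1 : 1 ≤ 3 ^ (2 * m + 1) := Nat.one_le_pow _ _ (by norm_num)
  have h3 : 3 ^ (2 * m + 1) % 3 = 0 := by rw [pow_succ, Nat.mul_mod_left]
  generalize 3 ^ (2 * m + 1) = q at h h1 h3
  rcases Nat.prime_three.dvd_mul.1 h with h' | h'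
  · omega
  · have : 3 ∣ q ^ 3 := dvd_pow (Nat.dvd_of_mod_eq_zero h3) (by norm_num)
    omega

/-- The elements of one three-power order: their number from the number in `U`. -/
theorem card_three_power (hK : Fintype.card K = 3 ^ (2 * m + 1)) {n : ℕ} (hn : 1 ≤ n) {c : ℕ}
    (hc : Nat.card ↥{u : ↥(Gr K m) | u ∈ (cell hK).U ∧ orderOf u = 3 ^ n} = c) :
    Nat.card {g : ↥(Gr K m) // orderOf g = 3 ^ n} = c * ((3 ^ (2 * m + 1)) ^ 3 + 1) := by
  set S := {u : ↥(Gr K m) | u ∈ (cell hK).U ∧ orderOf u = 3 ^ n}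
  have hsw := card_sweep (borel K m) S (fun b hb s hs => ⟨conj_borel_U hK hb hs.1, by rw [orderOf_conj]; exact hs.2⟩)
    fun g s hs h => mem_borel_of_conj hK hs.1 (fun e => by
      have := hs.2
      rw [e, orderOf_one] at this
      exact (Nat.one_lt_pow (by omega : n ≠ 0) (by norm_num : 1 < 3)).ne this) h.1
  have hset : sweep S = {g | orderOf g = 3 ^ n} := by
    ext g
    refine ⟨fun ⟨h, hh⟩ => by rw [Set.mem_setOf_eq, ← orderOf_conj h g]; exact hh.2, fun hg => ?_⟩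
    obtain ⟨h, hh⟩ := exists_conj_mem_pow Nat.prime_three (index_U hK) hg
    exact ⟨h, hh, by rw [orderOf_conj]; exact hg⟩
  rw [hset, card_borel hK, hc, card_R hK] at hsw
  have h1 : 0 < (3 ^ (2 * m + 1)) ^ 3 * (3 ^ (2 * m + 1) - 1) := by
    have : 3 ≤ 3 ^ (2 * m + 1) := Nat.le_self_pow (by omega) 3
    have : 0 < 3 ^ (2 * m + 1) - 1 := by omega
    positivity
  refine Nat.eq_of_mul_eq_mul_right h1 (hsw.trans ?_)
  ring

theorem card_order_three_nine (hK : Fintype.card K = 3 ^ (2 * m + 1)) :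
    Nat.card {g : ↥(Gr K m) // orderOf g = 3} = ((3 ^ (2 * m + 1)) ^ 2 - 1) * ((3 ^ (2 * m + 1)) ^ 3 + 1) ∧
    Nat.card {g : ↥(Gr K m) // orderOf g = 9} =
      (3 ^ (2 * m + 1)) ^ 2 * (3 ^ (2 * m + 1) - 1) * ((3 ^ (2 * m + 1)) ^ 3 + 1) := by
  have a := card_three_power (m := m) hK (n := 1) le_rfl (card_U_three hK)
  have b := card_three_power (m := m) hK (n := 2) (by norm_num) (card_U_nine hK)
  exact ⟨a, b.trans (by ring)⟩

/-- The number of involutions. -/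
theorem card_involutions (hK : Fintype.card K = 3 ^ (2 * m + 1)) :
    Nat.card {g : ↥(Gr K m) // orderOf g = 2} =
      (3 ^ (2 * m + 1)) ^ 2 * ((3 ^ (2 * m + 1)) ^ 2 - 3 ^ (2 * m + 1) + 1) := by
  have hsw := card_sweep (Subgroup.centralizer ({tR hK} : Set ↥(Gr K m))) {tR hK}
    (by
      rintro n hn s rfl
      rw [Subgroup.mem_centralizer_singleton_iff] at hn
      rw [Set.mem_singleton_iff, hn, mul_inv_cancel_right])
    (by
      rintro g s rfl h
      rw [Set.mem_singleton_iff, mul_inv_eq_iff_eq_mul] at h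
      exact Subgroup.mem_centralizer_singleton_iff.2 h)
  have hset : sweep ({tR hK} : Set ↥(Gr K m)) = {g | orderOf g = 2} := by
    ext g
    refine ⟨fun ⟨h, hh⟩ => ?_, fun hg => ?_⟩
    · rw [Set.mem_setOf_eq, ← orderOf_conj h g, Set.mem_singleton_iff.1 hh, orderOf_tR]
    · obtain ⟨h, hh⟩ := involution_conj hK hg
      exact ⟨h, hh⟩
  rw [hset, Nat.card_coe_set_eq {tR hK}, Set.ncard_singleton, one_mul, card_centralizer_tR hK, card_R hK] at hsw
  have h1 : 3 ≤ 3 ^ (2 * m + 1) := Nat.le_self_pow (by omega) 3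
  generalize 3 ^ (2 * m + 1) = q at hsw h1
  have h2 : q ≤ q ^ 2 := Nat.le_self_pow (by norm_num) q
  have hpos : 0 < q * (q - 1) * (q + 1) := by
    have : 0 < q - 1 := by omega
    positivity
  refine Nat.eq_of_mul_eq_mul_right hpos (hsw.trans ?_)
  zify [show 1 ≤ q by omega, h2]
  ring

/-- In the centraliser of the involution, the three-elements have order at most three. -/
theorem centralizer_tR_three (hK : Fintype.card K = 3 ^ (2 * m + 1)) {y : ↥(Gr K m)} (hy : y * tR hK = tR hK * y)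
    {n : ℕ} (ho : orderOf y = 3 ^ n) :
    ∃ c, c * tR hK = tR hK * c ∧ c * y * c⁻¹ ∈ (cell hK).U ∧ y ^ 3 = 1 := by
  classical
  set C := Subgroup.centralizer ({tR hK} : Set ↥(Gr K m))
  let w : K → ↥C := fun b => ⟨⟨W (3 ^ m) 0 b 0, (H48.Ree.W_mem_U _ _ _ _).2⟩,
    Subgroup.mem_centralizer_singleton_iff.2 ((commute_tR_U hK (W_mem_cellU hK b)).2 ⟨b, rfl⟩)⟩
  haveI := (H48.Ree.field_data hK).1
  set Ut := (cell hK).U.subgroupOf C
  have hcard : Nat.card ↥Ut = 3 ^ (2 * m + 1) := by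
    rw [← hK, ← Nat.card_eq_fintype_card]
    refine (Nat.card_eq_of_bijective (fun b => ⟨w b, W_mem_cellU hK b⟩) ⟨fun a b e => ?_, ?_⟩).symm
    · exact (H48.Ree.W_injective (congrArg (fun z : ↥Ut => (((z : ↥C) : ↥(Gr K m)) : GL chevG2.Idx K)) e)).2.1
    · rintro ⟨⟨u, hu⟩, huU⟩
      obtain ⟨b, hb⟩ := (commute_tR_U hK huU).1 (Subgroup.mem_centralizer_singleton_iff.1 hu)
      exact ⟨b, Subtype.ext (Subtype.ext (Subtype.ext hb.symm))⟩
  have hidx : ¬ 3 ∣ Ut.index := by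
    intro h
    have e := Ut.card_mul_index
    rw [hcard, card_centralizer_tR hK, mul_assoc] at e
    rw [Nat.eq_of_mul_eq_mul_left (pow_pos (by norm_num) _) e] at h
    have h1 : 1 ≤ 3 ^ (2 * m + 1) := Nat.one_le_pow _ _ (by norm_num)
    have h3 : 3 ^ (2 * m + 1) % 3 = 0 := by rw [pow_succ, Nat.mul_mod_left]
    generalize 3 ^ (2 * m + 1) = q at h h1 h3
    rcases Nat.prime_three.dvd_mul.1 h with h' | h' <;> omega
  obtain ⟨c, hc⟩ := exists_conj_mem_pow (M := Ut) Nat.prime_three hidx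
    (x := (⟨y, Subgroup.mem_centralizer_singleton_iff.2 hy⟩ : ↥C)) (n := n) (by rw [← Subgroup.orderOf_coe]; exact ho)
  have hcU : (c : ↥(Gr K m)) * y * (c : ↥(Gr K m))⁻¹ ∈ (cell hK).U := hc
  refine ⟨c, Subgroup.mem_centralizer_singleton_iff.1 c.2, hcU, ?_⟩
  obtain ⟨b, hb⟩ := (commute_tR_U hK hcU).1 (by
    calc (c : ↥(Gr K m)) * y * (c : ↥(Gr K m))⁻¹ * tR hK
        = (c : ↥(Gr K m)) * y * ((c : ↥(Gr K m))⁻¹ * tR hK) := mul_assoc _ _ _
      _ = (c : ↥(Gr K m)) * (y * tR hK) * (c : ↥(Gr K m))⁻¹ := by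
          rw [(show Commute (c : ↥(Gr K m)) (tR hK) from Subgroup.mem_centralizer_singleton_iff.1 c.2).inv_left]
          group
      _ = _ := by rw [hy, ← mul_assoc, Subgroup.mem_centralizer_singleton_iff.1 c.2]; group)
  have h3 := (U_cube hK hb).2 rfl
  rw [conj_pow] at h3
  exact conj_eq_one_iff.1 h3

/-- The elements of order three centralising the involution. -/
theorem card_three_commute (hK : Fintype.card K = 3 ^ (2 * m + 1)) :
    Nat.card {y : ↥(Gr K m) // orderOf y = 3 ∧ tR hK * y = y * tR hK} = (3 ^ (2 * m + 1)) ^ 2 - 1 := by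
  classical
  haveI := (H48.Ree.field_data hK).1
  set S := cell hK
  set t := tR hK
  set C := Subgroup.centralizer ({t} : Set ↥(Gr K m))
  let w : K → ↥C := fun b => ⟨⟨W (3 ^ m) 0 b 0, (H48.Ree.W_mem_U _ _ _ _).2⟩,
    Subgroup.mem_centralizer_singleton_iff.2 ((commute_tR_U hK (W_mem_cellU hK b)).2 ⟨b, rfl⟩)⟩
  have winj : ∀ a b, w a = w b → a = b := fun a b e =>
    (H48.Ree.W_injective (congrArg (fun z : ↥C => ((z : ↥(Gr K m)) : GL chevG2.Idx K)) e)).2.1
  let Sset : Set ↥C := {z | (z : ↥(Gr K m)) ∈ S.U ∧ z ≠ 1}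
  have hS : Nat.card ↥Sset = 3 ^ (2 * m + 1) - 1 := by
    have e : Nat.card {b : K // b ≠ 0} = 3 ^ (2 * m + 1) - 1 := by
      rw [Nat.card_eq_fintype_card, Fintype.card_subtype_compl, Fintype.card_subtype_eq, hK]
    rw [← e]
    refine (Nat.card_eq_of_bijective (fun b => ⟨w b.1, W_mem_cellU hK _, fun e => b.2
      (winj b.1 0 (e.trans (Subtype.ext (Subtype.ext (H48.Ree.W_zero m).symm))))⟩) ⟨fun a b e => ?_, ?_⟩).symm
    · exact Subtype.ext (winj _ _ (congrArg Subtype.val e))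
    · rintro ⟨⟨u, hu⟩, huU, hu1⟩
      obtain ⟨b, hb⟩ := (commute_tR_U hK huU).1 (Subgroup.mem_centralizer_singleton_iff.1 hu)
      exact ⟨⟨b, fun h => hu1 (Subtype.ext (Subtype.ext (by rw [hb, h]; exact H48.Ree.W_zero m)))⟩,
        Subtype.ext (Subtype.ext (Subtype.ext hb.symm))⟩
  set N := (borel K m).subgroupOf C
  have hH : ∀ h ∈ S.H, h * t = t * h := fun h hh => comm_H hK h hh _ (tR_mem hK)
  have hN : Nat.card ↥N = 3 ^ (2 * m + 1) * (3 ^ (2 * m + 1) - 1) := by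
    have e : Nat.card (K × ↥S.H) = 3 ^ (2 * m + 1) * (3 ^ (2 * m + 1) - 1) := by
      rw [Nat.card_prod, card_H hK, Nat.card_eq_fintype_card, hK]
    rw [← e]
    refine (Nat.card_eq_of_bijective (fun p => ⟨⟨(w p.1 : ↥(Gr K m)) * p.2,
      mul_mem (w p.1).2 (Subgroup.mem_centralizer_singleton_iff.2 (hH _ p.2.2))⟩,
      mul_mem (H48.Ree.Ur_le_Br (W_mem_cellU hK p.1)) (H48.Ree.Hr_le_Br p.2.2)⟩) ⟨?_, ?_⟩).symm
    · rintro ⟨b, h, hh⟩ ⟨b', h', hh'⟩ e
      obtain ⟨e1, e2⟩ := S.uniq_borel (W_mem_cellU hK b) (W_mem_cellU hK b') hh hh'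
        (congrArg (fun z : ↥N => ((z : ↥C) : ↥(Gr K m))) e)
      obtain rfl := winj b b' (Subtype.ext e1)
      subst e2; rfl
    · rintro ⟨⟨g, hg⟩, hgB⟩
      obtain ⟨v, hv, k, hk, e⟩ := H48.Ree.mem_Br hK hgB
      have eg : g = ⟨v, hv.2⟩ * ⟨k, hk.2⟩ := Subtype.ext e
      rcases S.commute_torus (comm_H hK) (tR_mem hK) (Subgroup.mem_centralizer_singleton_iff.1 hg) with
        ⟨u, hu, h, hh, e', hc⟩ | ⟨-, u, hu, h, hh, v', hv', e', -, -⟩
      · obtain ⟨b, hb⟩ := (commute_tR_U hK hu).1 hc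
        exact ⟨(b, ⟨h, hh⟩), Subtype.ext (Subtype.ext (e'.trans
          (congrArg (· * h) (Subtype.ext hb : u = (w b : ↥(Gr K m))))).symm)⟩
      · exact absurd (e'.symm.trans eg) (S.ne_cell u hu h hh v' hv' _ hv _ hk)
  have hconjS : ∀ n : ↥C, (n : ↥(Gr K m)) ∈ borel K m → ∀ s ∈ Sset, n * s * n⁻¹ ∈ Sset := fun n hn s hs =>
    ⟨conj_borel_U hK hn hs.1, fun e => hs.2 (conj_eq_one_iff.1 e)⟩
  have hsw := card_sweep N Sset hconjS fun g s hs h =>
    mem_borel_of_conj hK hs.1 (fun e => hs.2 (Subtype.ext e)) h.1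
  have hset : sweep Sset = {z : ↥C | orderOf (z : ↥(Gr K m)) = 3} := by
    ext z
    refine ⟨fun ⟨g, hg⟩ => ?_, fun hz => ?_⟩
    · rw [Set.mem_setOf_eq, ← orderOf_conj (g : ↥(Gr K m)) (z : ↥(Gr K m))]
      haveI : Fact (Nat.Prime 3) := ⟨Nat.prime_three⟩
      obtain ⟨b, hb⟩ := (commute_tR_U hK hg.1).1 (Subgroup.mem_centralizer_singleton_iff.1 (g * z * g⁻¹).2)
      exact orderOf_eq_prime ((U_cube hK hb).2 rfl) (fun e => hg.2 (Subtype.ext e))
    · obtain ⟨c, hct, hcU, -⟩ := centralizer_tR_three hK (Subgroup.mem_centralizer_singleton_iff.1 z.2) (n := 1)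
        (by rw [pow_one]; exact hz)
      refine ⟨⟨c, Subgroup.mem_centralizer_singleton_iff.2 hct⟩, hcU, fun e => ?_⟩
      have := orderOf_conj c (z : ↥(Gr K m))
      rw [show c * (z : ↥(Gr K m)) * c⁻¹ = 1 from congrArg Subtype.val e, orderOf_one, hz] at this
      omega
  rw [hset, hS, hN, card_centralizer_tR hK] at hsw
  have e2 : Nat.card {y : ↥(Gr K m) // orderOf y = 3 ∧ t * y = y * t} =
      Nat.card ↥{z : ↥C | orderOf (z : ↥(Gr K m)) = 3} :=
    Nat.card_congr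
      { toFun := fun y => ⟨⟨y.1, Subgroup.mem_centralizer_singleton_iff.2 y.2.2.symm⟩, y.2.1⟩
        invFun := fun z => ⟨z.1.1, z.2, (Subgroup.mem_centralizer_singleton_iff.1 z.1.2).symm⟩
        left_inv := fun y => rfl
        right_inv := fun z => rfl }
  rw [e2]
  have h1 : 3 ≤ 3 ^ (2 * m + 1) := Nat.le_self_pow (by omega) 3
  generalize 3 ^ (2 * m + 1) = q at hsw h1
  have hpos : 0 < q * (q - 1) := by
    have : 0 < q - 1 := by omega
    positivity
  refine Nat.eq_of_mul_eq_mul_right hpos (hsw.trans ?_)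
  zify [show 1 ≤ q by omega, Nat.one_le_pow 2 q (by omega)]
  ring

/-- The number of elements of order six. -/
theorem card_order_six (hK : Fintype.card K = 3 ^ (2 * m + 1)) :
    Nat.card {g : ↥(Gr K m) // orderOf g = 6} =
      (3 ^ (2 * m + 1)) ^ 2 * (3 ^ (2 * m + 1) - 1) * ((3 ^ (2 * m + 1)) ^ 3 + 1) := by
  rw [show (6 : ℕ) = 2 * 3 from rfl, card_orderOf_two_mul (by decide : Odd 3),
    card_pairs_of_conj (fun g : ↥(Gr K m) => orderOf g = 2) (fun g => orderOf g = 3)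
      (fun g y h => by rw [orderOf_conj]; exact h) (tR hK)
      (fun s hs => by
        obtain ⟨g, hg⟩ := involution_conj hK hs
        exact ⟨g⁻¹, by rw [← hg]; group⟩),
    card_involutions hK, card_three_commute hK]
  have h1 : 1 ≤ 3 ^ (2 * m + 1) := Nat.one_le_pow _ _ (by norm_num)
  generalize 3 ^ (2 * m + 1) = q at h1
  zify [h1, Nat.one_le_pow 2 q h1, Nat.le_self_pow (two_ne_zero) q]
  ring

/-- No element has order four. -/
theorem orderOf_ne_four (hK : Fintype.card K = 3 ^ (2 * m + 1)) (z : ↥(Gr K m)) : orderOf z ≠ 4 := by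
  intro hz
  have h2 : orderOf (z ^ 2) = 2 := by
    rw [orderOf_pow_of_dvd two_ne_zero (by rw [hz]; norm_num), hz]
  obtain ⟨g, hg⟩ := involution_conj hK h2
  obtain ⟨φ, -, -, htL, -, htC, -⟩ := exists_split_centralizer (m := m) hK
  set y := g * z * g⁻¹
  set t := tR hK
  have hy : y * y = t := by rw [← hg, ← pow_two, conj_pow]
  have hyt : y * t = t * y := by rw [← hy]; exact (mul_assoc y y y).symm
  rcases htC y hyt with h | h
  · exact htL (hy ▸ mul_mem h h)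
  · refine htL ?_
    have := mul_mem h h
    rwa [show t * y * (t * y) = t * (y * t) * y by simp only [mul_assoc], hyt, ← mul_assoc t t y, tR_sq, one_mul,
      hy] at this

/-- The elements of order divisible by three. -/
theorem three_dvd_cases (hK : Fintype.card K = 3 ^ (2 * m + 1)) (z : ↥(Gr K m)) (h3 : 3 ∣ orderOf z) :
    orderOf z = 3 ∨ orderOf z = 6 ∨ orderOf z = 9 := by
  have hne : orderOf z ≠ 0 := (orderOf_pos z).ne'
  have hw := exists_pow_prime z h3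
  have hp : ∀ p : ℕ, p.Prime → p ∣ orderOf z → p = 2 ∨ p = 3 := by
    intro p hp hpd
    by_contra hcon
    rw [not_or] at hcon
    have hy := exists_pow_prime z hpd
    have hcomm : z ^ (orderOf z / 3) * z ^ (orderOf z / p) = z ^ (orderOf z / p) * z ^ (orderOf z / 3) :=
      pow_mul_comm z _ _
    refine not_commute_three hK hw hp hy hcon.2 (fun hdv => ?_) hcomm
    obtain ⟨g, hg⟩ := exists_conj_H hK hp hcon.1 hdv hy
    have hmem : g * z ^ (orderOf z / 3) * g⁻¹ ∈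
        Subgroup.centralizer ({g * z ^ (orderOf z / p) * g⁻¹} : Set ↥(Gr K m)) := by
      rw [Subgroup.mem_centralizer_singleton_iff]
      calc g * z ^ (orderOf z / 3) * g⁻¹ * (g * z ^ (orderOf z / p) * g⁻¹)
          = g * (z ^ (orderOf z / 3) * z ^ (orderOf z / p)) * g⁻¹ := by group
        _ = _ := by rw [hcomm]; group
    rw [centralizer_H hK hg hp hcon.1 (by rw [orderOf_conj, hy])] at hmem
    have h := Subgroup.orderOf_dvd_natCard _ hmem
    rw [orderOf_conj, hw, card_H hK] at h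
    have h1 : 3 ^ (2 * m + 1) % 3 = 0 := by rw [pow_succ, Nat.mul_mod_left]
    have h2 : 1 ≤ 3 ^ (2 * m + 1) := Nat.one_le_pow _ _ (by norm_num)
    omega
  obtain ⟨a, n', hn', e⟩ := Nat.exists_eq_pow_mul_and_not_dvd hne 3 (by norm_num)
  have hn0 : n' ≠ 0 := fun h => hne (by rw [e, h, mul_zero])
  have e2 : n' = 2 ^ n'.primeFactorsList.length :=
    Nat.eq_prime_pow_of_unique_prime_dvd hn0 fun {p} hp' hd =>
      (hp p hp' (hd.trans ⟨3 ^ a, by rw [e, mul_comm]⟩)).resolve_right fun h => hn' (h ▸ hd)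
  generalize n'.primeFactorsList.length = b at e2
  subst e2
  have hb : b ≤ 1 := by
    by_contra hb
    refine orderOf_ne_four hK (z ^ (3 ^ a * 2 ^ (b - 2))) ?_
    rw [orderOf_pow_of_dvd (by positivity) ?_, e]
    · conv_lhs => rw [show 2 ^ b = 4 * 2 ^ (b - 2) by
        rw [show (4 : ℕ) = 2 ^ 2 from rfl, ← pow_add]; congr 1; omega]
      rw [show 3 ^ a * (4 * 2 ^ (b - 2)) = 4 * (3 ^ a * 2 ^ (b - 2)) by ring, Nat.mul_div_cancel _ (by positivity)]
    · rw [e]; exact mul_dvd_mul_left _ (pow_dvd_pow 2 (by omega))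
  -- the three-part
  have h9 : ∀ y : ↥(Gr K m), ∀ n, orderOf y = 3 ^ n → n ≤ 2 := by
    intro y n hy
    obtain ⟨g, hg⟩ := exists_conj_mem_pow Nat.prime_three (index_U hK) hy
    have h := orderOf_dvd_of_pow_eq_one (U_pow_nine hK hg)
    rw [orderOf_conj, hy, show 9 = 3 ^ 2 from rfl, Nat.pow_dvd_pow_iff_le_right (by norm_num)] at h
    exact h
  have hy : orderOf (z ^ 2 ^ b) = 3 ^ a := by
    rw [orderOf_pow_of_dvd (by positivity) (e ▸ dvd_mul_left _ _), e, Nat.mul_div_cancel _ (by positivity)]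
  have ha2 := h9 _ a hy
  have ha0 : 1 ≤ a := Nat.one_le_iff_ne_zero.2 fun h => by
    rw [h, pow_zero, one_mul] at e
    rw [e] at h3
    have := Nat.Prime.dvd_of_dvd_pow Nat.prime_three h3
    omega
  interval_cases b <;> interval_cases a <;> first | omega | skip
  -- order 18
  exfalso
  have e18 : orderOf z = 18 := by rw [e]; norm_num
  have ht : orderOf (z ^ 9) = 2 := by rw [orderOf_pow_of_dvd (by norm_num) (by rw [e18]; norm_num), e18]
  obtain ⟨g, hg⟩ := involution_conj hK ht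
  have hy9 : orderOf (g * z ^ 2 * g⁻¹) = 3 ^ 2 := by
    rw [orderOf_conj, orderOf_pow_of_dvd two_ne_zero (by rw [e18]; norm_num), e18]; norm_num
  obtain ⟨c, -, -, h⟩ := centralizer_tR_three hK (y := g * z ^ 2 * g⁻¹) (by
    rw [← hg]
    calc g * z ^ 2 * g⁻¹ * (g * z ^ 9 * g⁻¹) = g * (z ^ 2 * z ^ 9) * g⁻¹ := by group
      _ = _ := by rw [pow_mul_comm]; group) hy9
  have := orderOf_dvd_of_pow_eq_one h
  rw [hy9] at this
  norm_num at this

end Cfsg.Agent.H47.Ree
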