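import Cfsg.Agent.H47.Ree.Cyclic
import Mathlib.FieldTheory.Finite.GaloisField
import Mathlib.FieldTheory.Galois.Basic
import Mathlib.Algebra.Ring.GeomSum

/-!
An element normalising a cyclic group of prime order `ℓ`, `q` of order six modulo `ℓ`, in dimension at most seven,
has its sixth power centralising it.
-/

set_option autoImplicit false

namespace Cfsg.Agent.H47.Ree

variable {K V : Type*} [Field K] [Fintype K] [AddCommGroup V] [Module K V] [FiniteDimensional K V]

theorem pow_six_commute {G : Type*} [Group G] [Finite G] (f : G →* Module.End K V) (hf : Function.Injective f)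
    (hV : Module.finrank K V ≤ 7) {y : G} {ℓ : ℕ} (hℓ : ℓ.Prime) (hℓK : (ℓ : K) ≠ 0) (hy : orderOf y = ℓ)
    (hnorm : ∀ g : G, ∃ j : ℕ, g * y * g⁻¹ = y ^ j)
    (hord : ∀ d, 1 ≤ d → d ≤ 7 → d ≠ 6 → ¬ ((ℓ : ℤ) ∣ (Fintype.card K : ℤ) ^ d - 1)) (g : G) :
    g ^ 6 * y = y * g ^ 6 := by
  classical
  obtain ⟨hW6, hsup, -, hsimple⟩ := split_data f hf hV hℓ hℓK hy hord
  set Y := f y
  set W := LinearMap.range (Y - 1) with hW
  have hinvW : ∀ g, ∀ w ∈ W, f g w ∈ W := by
    rintro g _ ⟨v, rfl⟩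
    obtain ⟨j, hj⟩ := hnorm g
    refine ⟨(∑ i ∈ Finset.range j, Y ^ i) (f g v), ?_⟩
    have e : f g * Y = Y ^ j * f g := by
      rw [← map_pow, ← map_mul, ← map_mul, ← hj, inv_mul_cancel_right]
    rw [← Module.End.mul_apply, mul_geom_sum, LinearMap.sub_apply, LinearMap.sub_apply, map_sub,
      Module.End.one_apply, Module.End.one_apply, show f g (Y v) = (f g * Y) v from rfl, e, Module.End.mul_apply]
  let ρ : G →* Module.End K W :=
    { toFun := fun g => (f g).restrict (hinvW g)
      map_one' := by ext w; simp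
      map_mul' := fun a b => by ext w; simp }
  haveI : Nontrivial ↥W := Module.nontrivial_of_finrank_eq_succ hW6
  obtain ⟨hdom, -, hrank⟩ := adjoin_simple (ρ y) fun W' hinv hne => by
    have h := hsimple (W'.map W.subtype) (Submodule.map_subtype_le _ _)
      (by rintro _ ⟨u, hu, rfl⟩; exact ⟨_, hinv u hu, rfl⟩)
      fun h => hne (Submodule.map_injective_of_injective (f := W.subtype) Subtype.val_injective
        (h.trans (Submodule.map_bot _).symm))
    exact Submodule.map_injective_of_injective (f := W.subtype) Subtype.val_injective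
      (h.trans (Submodule.map_subtype_top W).symm)
  set R := Algebra.adjoin K ({ρ y} : Set (Module.End K W))
  letI : CommRing ↥R := Algebra.adjoinCommRingOfComm K (by rintro a rfl b rfl; rfl)
  haveI := hdom
  haveI : Finite W := Module.finite_of_finite K
  haveI : Finite (Module.End K W) := Finite.of_injective _ (DFunLike.coe_injective (F := W →ₗ[K] W))
  haveI : Fintype ↥R := Fintype.ofFinite _
  letI : Field ↥R := Fintype.fieldOfDomain ↥R
  have key : ∀ a b : G, ρ a * ρ b = ρ (a * b) := fun a b => (map_mul ρ a b).symm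
  -- conjugation on the field
  let c : G → (Module.End K W →ₐ[K] Module.End K W) := fun g =>
    { toFun := fun a => ρ g * a * ρ g⁻¹
      map_one' := by rw [mul_one, key, mul_inv_cancel, map_one]
      map_mul' := fun a b => by
        rw [show ρ g * a * ρ g⁻¹ * (ρ g * b * ρ g⁻¹) = ρ g * a * (ρ g⁻¹ * ρ g) * b * ρ g⁻¹ by simp only [mul_assoc],
          key, inv_mul_cancel, map_one, mul_one]
        simp only [mul_assoc]
      map_zero' := by simp
      map_add' := fun a b => by rw [mul_add, add_mul]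
      commutes' := fun r => by rw [← Algebra.commutes, mul_assoc, key, mul_inv_cancel, map_one, mul_one] }
  have hcR : ∀ g, ∀ a ∈ R, c g a ∈ R := by
    intro g a ha
    induction ha using Algebra.adjoin_induction with
    | mem x hx =>
      obtain ⟨j, hj⟩ := hnorm g
      rw [Set.mem_singleton_iff.1 hx, show c g (ρ y) = ρ g * ρ y * ρ g⁻¹ from rfl, key, key, hj, map_pow]
      exact pow_mem (Algebra.self_mem_adjoin_singleton K (ρ y)) j
    | algebraMap r => rw [AlgHom.commutes]; exact R.algebraMap_mem r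
    | add x y _ _ hx hy => rw [map_add]; exact add_mem hx hy
    | mul x y _ _ hx hy => rw [map_mul]; exact mul_mem hx hy
  let σ : G → (↥R →ₐ[K] ↥R) := fun g => ((c g).comp R.val).codRestrict R fun a => hcR g a a.2
  have hσ : ∀ a b : G, ∀ r : ↥R, σ (a * b) r = σ a (σ b r) := fun a b r => Subtype.ext (by
    show ρ (a * b) * r * ρ (a * b)⁻¹ = ρ a * (ρ b * r * ρ b⁻¹) * ρ a⁻¹
    rw [mul_inv_rev, ← key a b, ← key b⁻¹ a⁻¹]; simp only [mul_assoc])
  have hσ1 : ∀ r : ↥R, σ 1 r = r := fun r => Subtype.ext (by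
    show ρ 1 * r * ρ 1⁻¹ = r
    rw [inv_one, map_one, one_mul, mul_one])
  let e : G → (↥R ≃ₐ[K] ↥R) := fun g => AlgEquiv.ofAlgHom (σ g) (σ g⁻¹)
    (AlgHom.ext fun r => by rw [AlgHom.comp_apply, ← hσ, mul_inv_cancel, hσ1]; rfl)
    (AlgHom.ext fun r => by rw [AlgHom.comp_apply, ← hσ, inv_mul_cancel, hσ1]; rfl)
  have hpow : ∀ n : ℕ, ∀ r, (e g ^ n) r = σ (g ^ n) r := by
    intro n
    induction n with
    | zero => intro r; rw [pow_zero, pow_zero, hσ1]; rfl
    | succ n ih => intro r; rw [pow_succ', pow_succ', hσ, AlgEquiv.mul_apply, ih]; rfl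
  have h6 : e g ^ 6 = 1 := by
    have hc := IsGalois.card_aut_eq_finrank K ↥R
    rw [hrank, hW6] at hc
    rw [← hc]; exact pow_card_eq_one'
  have hfix := hpow 6 ⟨ρ y, Algebra.self_mem_adjoin_singleton K (ρ y)⟩
  rw [h6, AlgEquiv.one_apply] at hfix
  have hfix' : ρ (g ^ 6 * y * (g ^ 6)⁻¹) = ρ y := by
    rw [← key, ← key]; exact (congrArg Subtype.val hfix).symm
  suffices g ^ 6 * y * (g ^ 6)⁻¹ = y from mul_inv_eq_iff_eq_mul.1 this
  refine hf (LinearMap.ext fun v => ?_)
  obtain ⟨w, hw, z, hz, rfl⟩ := Submodule.mem_sup.1 (hsup ▸ Submodule.mem_top : v ∈ W ⊔ LinearMap.ker (Y - 1))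
  have hzY : Y z = z := sub_eq_zero.1 (LinearMap.mem_ker.1 hz)
  obtain ⟨j, hj⟩ := hnorm (g ^ 6)
  have e1 : f (g ^ 6 * y * (g ^ 6)⁻¹) w = Y w := congrArg (fun a : Module.End K W => (a ⟨w, hw⟩ : V)) hfix'
  have e2 : f (g ^ 6 * y * (g ^ 6)⁻¹) z = Y z := by
    rw [hj, map_pow, hzY]
    clear hj
    induction j with
    | zero => rfl
    | succ j ih => rw [pow_succ, Module.End.mul_apply]; show (Y ^ j) (Y z) = z; rw [hzY, ih]
  rw [map_add, map_add, e1, e2]

end Cfsg.Agent.H47.Ree
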