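import Mathlib.LinearAlgebra.Matrix.GeneralLinearGroup.Card
import Mathlib.LinearAlgebra.Matrix.SpecialLinearGroup
import Mathlib.LinearAlgebra.Matrix.Determinant.Basic
import Mathlib.GroupTheory.QuotientGroup.Finite

/-!
The order of `SL₂` over a finite field.
-/

set_option autoImplicit false

namespace Cfsg.Agent.H47.Ree

variable {F : Type*} [Field F] [Fintype F]

theorem card_sl_two : Nat.card (Matrix.SpecialLinearGroup (Fin 2) F) =
    Fintype.card F * (Fintype.card F ^ 2 - 1) := by
  classical
  set d : GL (Fin 2) F →* Fˣ := Matrix.GeneralLinearGroup.det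
  have hsurj : Function.Surjective d := fun c =>
    ⟨Matrix.GeneralLinearGroup.mkOfDetNeZero !![(c : F), 0; 0, 1] (by simp [Matrix.det_fin_two]),
      Units.ext (by simp [d, Matrix.det_fin_two])⟩
  have hker : d.ker = (Matrix.SpecialLinearGroup.toGL :
      Matrix.SpecialLinearGroup (Fin 2) F →* GL (Fin 2) F).range := by
    ext g
    constructor
    · intro hg
      exact ⟨⟨(g : Matrix (Fin 2) (Fin 2) F), congrArg Units.val hg⟩, Units.ext rfl⟩
    · rintro ⟨x, rfl⟩
      exact Units.ext x.2
  have hinj : Function.Injective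
      (Matrix.SpecialLinearGroup.toGL : Matrix.SpecialLinearGroup (Fin 2) F → GL (Fin 2) F) :=
    fun _ _ h => Subtype.ext (congrArg (Units.val : GL (Fin 2) F → _) h)
  have h := Subgroup.card_eq_card_quotient_mul_card_subgroup d.ker
  rw [Nat.card_congr (QuotientGroup.quotientKerEquivOfSurjective d hsurj).toEquiv, hker,
    ← Nat.card_congr (MonoidHom.ofInjective hinj).toEquiv, Matrix.card_GL_field, Fin.prod_univ_two, Fin.val_zero,
    Fin.val_one, pow_zero, pow_one, Nat.card_units, Nat.card_eq_fintype_card (α := F)] at h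
  have hq : 1 < Fintype.card F := Fintype.one_lt_card
  refine Nat.eq_of_mul_eq_mul_left (show 0 < Fintype.card F - 1 by omega) ?_
  rw [← h]
  have e : Fintype.card F ^ 2 - Fintype.card F = (Fintype.card F - 1) * Fintype.card F := by
    rw [Nat.sub_mul, one_mul, sq]
  rw [e]; ring

end Cfsg.Agent.H47.Ree
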