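import Cfsg.Agent.H47.Ree.Cell
import Cfsg.Agent.H46.SL2Hom
import Cfsg.Agent.H47.Ree.SLTwoCard
import Cfsg.Agent.S2429

/-!
The centraliser of an involution of the small Ree group: the product of the involution and the image of SL₂.
-/

set_option autoImplicit false

open Cfsg.Lie Cfsg.Agent.H46 Cfsg.Agent.H65.Twist
open scoped Matrix MatrixGroups

namespace Cfsg.Agent.H47.Ree

open Cfsg.Agent.H48.Ree (W Gr Ur Hr Br)

variable {K : Type*} [Field K] [Fintype K] {m : ℕ}

theorem commute_pairs :
    ∀ a ∈ [8, 3], ∀ b ∈ [10, 1], a < chevG2.nroots ∧ b < chevG2.nroots ∧ b ≠ a ∧ b ≠ chevG2.neg a ∧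
      chevG2.commTerms a b = [] := by decide +kernel

theorem neg_pairs : chevG2.neg 8 = 3 ∧ chevG2.neg 10 = 1 ∧ 8 < chevG2.nroots ∧ 10 < chevG2.nroots := by
  decide +kernel

theorem W_u_eq [CharP K 3] (b : K) :
    W (3 ^ m) (0 : K) b 0 = goodG2.xg 8 (b ^ 3 ^ m) * goodG2.xg 10 b := by
  have h0 : (3 : ℕ) ^ m ≠ 0 := pow_ne_zero _ (by norm_num)
  simp [W, H48.Ree.P, goodG2.xg_zero, zero_pow h0]

/-- The image of `SL₂` centralising the torus involution. -/
theorem exists_slHom (hK : Fintype.card K = 3 ^ (2 * m + 1)) :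
    ∃ φ : Matrix.SpecialLinearGroup (Fin 2) K →* ↥(Gr K m),
      (∀ b : K, ((φ (slX b) : ↥(Gr K m)) : GL chevG2.Idx K) = W (3 ^ m) 0 b 0) ∧ φ slW = (cell hK).n ∧
      ∀ g, φ g * tR hK = tR hK * φ g := by
  haveI := (H48.Ree.field_data hK).1
  obtain ⟨hn8, hn10, h8, h10⟩ := neg_pairs
  obtain ⟨φa, hra, hA⟩ := goodG2.exists_slHom (F := K) h8
  obtain ⟨φb, hrb, hB⟩ := goodG2.exists_slHom (F := K) h10
  rw [hn8] at hra hA
  rw [hn10] at hrb hB
  let f := φa.comp (Matrix.SpecialLinearGroup.map (iterateFrobenius K 3 m))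
  have hcomm : ∀ x y, Commute (φa x) (φb y) := by
    intro x y
    have hle : φb.range ≤ Subgroup.centralizer (φa.range : Set (GL chevG2.Idx K)) := by
      rw [hra, hrb, Subgroup.le_centralizer_iff]
      have key : ∀ a ∈ [8, 3], chevG2.rootSubgroup K a ≤
          Subgroup.centralizer ((chevG2.rootSubgroup K 10 ⊔ chevG2.rootSubgroup K 1 : Subgroup _) :
            Set (GL chevG2.Idx K)) := by
        intro a ha
        rw [Subgroup.le_centralizer_iff]
        refine sup_le ?_ ?_ <;> intro z hz <;> rw [Subgroup.mem_centralizer_iff] <;> intro w hw <;>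
          obtain ⟨s, rfl⟩ := goodG2.mem_rootSubgroup.1 hw <;> obtain ⟨u, rfl⟩ := goodG2.mem_rootSubgroup.1 hz
        · obtain ⟨ha', hb', hne, hn, hc⟩ := commute_pairs a ha 10 (by simp)
          exact H65.xg_commute goodG2 ha' hb' hne hn (fun c hc' => by rw [hc] at hc'; simp at hc') s u
        · obtain ⟨ha', hb', hne, hn, hc⟩ := commute_pairs a ha 1 (by simp)
          exact H65.xg_commute goodG2 ha' hb' hne hn (fun c hc' => by rw [hc] at hc'; simp at hc') s u
      exact sup_le (key 8 (by simp)) (key 3 (by simp))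
    exact Subgroup.mem_centralizer_iff.1 (hle ⟨y, rfl⟩) _ ⟨x, rfl⟩
  let φ₀ : Matrix.SpecialLinearGroup (Fin 2) K →* GL chevG2.Idx K :=
    MonoidHom.mk' (fun g => f g * φb g) fun a b => by
      rw [map_mul, map_mul, mul_assoc (f a) (f b), ← mul_assoc (f b) (φb a) (φb b),
        (show Commute (f b) (φb a) from hcomm _ _).eq, mul_assoc (φb a), ← mul_assoc (f a)]
  have hmapX : ∀ b : K, Matrix.SpecialLinearGroup.map (iterateFrobenius K 3 m) (slX b) = slX (b ^ 3 ^ m) := by
    intro b
    apply Subtype.ext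
    ext i j
    fin_cases i <;> fin_cases j <;>
      simp [coe_slX, iterateFrobenius_def, Matrix.SpecialLinearGroup.map_apply_coe]
  have hX : ∀ b, φ₀ (slX b) = W (3 ^ m) 0 b 0 := by
    intro b
    rw [W_u_eq]
    show φa _ * φb _ = _
    rw [hmapX, goodG2.eq_xg ((hA (slX _) _).1 rfl), goodG2.eq_xg ((hB (slX b) _).1 rfl)]
  have hYm : φ₀ (slY (-1)) = ((reeV K m 0 1 0 : ↥(chevG2.group K)) : GL chevG2.Idx K) := by
    have hmapY : Matrix.SpecialLinearGroup.map (iterateFrobenius K 3 m) (slY (-1)) = (slY (-1 : K)) := by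
      apply Subtype.ext
      ext i j
      fin_cases i <;> fin_cases j <;>
        simp [coe_slY, Matrix.SpecialLinearGroup.map_apply_coe]
    show φa _ * φb _ = _
    rw [hmapY, goodG2.eq_xg ((hA (slY _) _).2 rfl), goodG2.eq_xg ((hB (slY (-1)) _).2 rfl)]
    simp [reeV, ReeBlock.word, reeNeg, reeNegIdx, xE, goodG2.xg_zero]
  have hW : φ₀ slW = (nG K) := by
    have e : (slW : Matrix.SpecialLinearGroup (Fin 2) K) = slX 1 * slY (-1) * slX 1 := by
      apply Subtype.ext
      ext i j
      fin_cases i <;> fin_cases j <;>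
        simp [sl_mul_val, coe_slX, coe_slY, coe_slW, Matrix.mul_apply, Fin.sum_univ_two]
    have hU : ((reeU K m 0 1 0 : ↥(chevG2.group K)) : GL chevG2.Idx K) = W (3 ^ m) 0 1 0 := by
      rw [W_u_eq]
      simp [reeU, ReeBlock.word, reePos, reePosIdx, xE, goodG2.xg_zero]
    rw [e, map_mul, map_mul, hX, hYm, ← hU]
    show _ = ((reeN K : ↥(chevG2.group K)) : GL chevG2.Idx K)
    rw [← Subgroup.coe_mul, ← Subgroup.coe_mul]
    congr 1
    apply Subtype.ext
    have h : (wordEl goodG2 reeTopWord : GL chevG2.Idx K) = wordEl goodG2 reeTopWord' :=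
      wordEl_eq goodG2 (p := 3) reeTop_check
    rw [show ((reeN K : ↥(chevG2.group K)) : GL chevG2.Idx K) = _ from reeN_word, h]
    simp [wordEl, reeTopWord', reeU, reeV, ReeBlock.word, reePos, reeNeg, reePosIdx, reeNegIdx, xE, mul_assoc,
      goodG2.xg_zero]
  have hmem : ∀ g, φ₀ g ∈ Gr K m := by
    intro g
    refine sl_generated ((Gr K m).comap φ₀) (fun b => ?_) ?_ g
    · rw [Subgroup.mem_comap, hX]; exact H48.Ree.W_mem_twisted _ _ _ _
    · rw [Subgroup.mem_comap, hW]; exact H48.Ree.nW_mem hK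
  let φ := φ₀.codRestrict (Gr K m) hmem
  have hφW : φ slW = (cell hK).n := Subtype.ext hW
  refine ⟨φ, hX, hφW, fun g => ?_⟩
  have := sl_generated ((Subgroup.centralizer ({tR hK} : Set ↥(Gr K m))).comap φ) (fun b => ?_) ?_ g
  · exact Subgroup.mem_centralizer_singleton_iff.1 this
  · rw [Subgroup.mem_comap, Subgroup.mem_centralizer_singleton_iff]
    refine (commute_tR_U hK ?_).2 ⟨b, hX b⟩
    rw [show φ (slX b) = ⟨W (3 ^ m) 0 b 0, (H48.Ree.W_mem_U _ _ _ _).2⟩ from Subtype.ext (hX b)]
    exact W_mem_cellU hK b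
  · rw [Subgroup.mem_comap, Subgroup.mem_centralizer_singleton_iff, hφW,
      (cell hK).n_inv' (tR_mem hK), inv_eq_of_mul_eq_one_right (tR_sq hK)]

theorem slX_scale {g : Matrix.SpecialLinearGroup (Fin 2) K} (h10 : g.1 1 0 = 0) (s : K) :
    g * slX s = slX (g.1 0 0 ^ 2 * s) * g := by
  have hd := sl_det g
  rw [h10, mul_zero, sub_zero] at hd
  apply Subtype.ext
  ext i j
  fin_cases i <;> fin_cases j <;>
    simp [sl_mul_val, coe_slX, Matrix.mul_apply, Fin.sum_univ_two, h10]
  linear_combination (-(g.1 0 0 * s)) * hd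

/-- The kernel and the range. -/
theorem slHom_facts (hK : Fintype.card K = 3 ^ (2 * m + 1)) {φ : Matrix.SpecialLinearGroup (Fin 2) K →* ↥(Gr K m)}
    (hX : ∀ b : K, ((φ (slX b) : ↥(Gr K m)) : GL chevG2.Idx K) = W (3 ^ m) 0 b 0) (hW : φ slW = (cell hK).n) :
    (∀ g, φ g = 1 ↔ g.1 = 1 ∨ g.1 = -1) ∧
      2 * Nat.card ↥φ.range = Nat.card (Matrix.SpecialLinearGroup (Fin 2) K) ∧ tR hK ∉ φ.range := by
  classical
  haveI := (H48.Ree.field_data hK).1
  set S := cell hK
  have h2 : (2 : K) ≠ 0 := fun h => one_ne_zero (α := K) (by linear_combination (H48.Ree.three0 (F := K)) - h)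
  have hU : ∀ b, φ (slX b) ∈ S.U := fun b => by
    rw [show φ (slX b) = ⟨W (3 ^ m) 0 b 0, (H48.Ree.W_mem_U _ _ _ _).2⟩ from Subtype.ext (hX b)]
    exact W_mem_cellU hK b
  have hinj : ∀ b, φ (slX b) = 1 → b = 0 := fun b e =>
    (H48.Ree.W_eq_one_iff.1 ((hX b).symm.trans (congrArg Subtype.val e))).2.1
  have hneg : ∀ g : Matrix.SpecialLinearGroup (Fin 2) K, g.1 = -1 → φ g = 1 := by
    intro g hg
    rw [show g = slW * slW from Subtype.ext (by
      rw [hg]; ext i j; fin_cases i <;> fin_cases j <;>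
        simp [sl_mul_val, coe_slW, Matrix.mul_apply, Fin.sum_univ_two]), map_mul, hW, S.n_sq]
  have hker : ∀ g, φ g = 1 ↔ g.1 = 1 ∨ g.1 = -1 := by
    intro g
    refine ⟨fun hg => ?_, fun h => h.elim (fun h => by rw [show g = 1 from Subtype.ext h, map_one]) (hneg g)⟩
    by_cases h10 : g.1 1 0 = 0
    · -- upper triangular
      have hd := sl_det g
      rw [h10, mul_zero, sub_zero] at hd
      have e := congrArg φ (slX_scale h10 1)
      rw [map_mul, map_mul, hg, one_mul, mul_one] at e
      have ha : g.1 0 0 ^ 2 = 1 := by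
        have := (H48.Ree.W_injective ((hX 1).symm.trans ((congrArg Subtype.val e).trans (hX _)))).2.1
        linear_combination -this
      rcases sq_eq_one_iff.1 ha with h | h
      · left
        rw [h, one_mul] at hd
        have e2 : g = slX (g.1 0 1) := Subtype.ext (by
          ext i j; fin_cases i <;> fin_cases j <;> simp [coe_slX, h, h10, hd])
        rw [e2] at hg
        rw [e2, hinj _ hg]
        ext i j; fin_cases i <;> fin_cases j <;> simp [coe_slX]
      · right
        have hd' : g.1 1 1 = -1 := by rw [h] at hd; linear_combination -hd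
        have e2 : g = slW * slW * slX (-(g.1 0 1)) := Subtype.ext (by
          ext i j; fin_cases i <;> fin_cases j <;>
            simp [sl_mul_val, coe_slX, coe_slW, Matrix.mul_apply, Fin.sum_univ_two, h, h10, hd'])
        rw [e2, map_mul, map_mul, hW, S.n_sq, one_mul] at hg
        have h01 : g.1 0 1 = 0 := neg_eq_zero.1 (hinj _ hg)
        ext i j; fin_cases i <;> fin_cases j <;> simp [h, h10, hd', h01]
    · -- the big cell
      exfalso
      set c := g.1 1 0
      set g' : Matrix.SpecialLinearGroup (Fin 2) K := slX (-(g.1 0 0 / c)) * g with hg'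
      set d : Matrix.SpecialLinearGroup (Fin 2) K := slW⁻¹ * g' with hdd
      have hd10 : d.1 1 0 = 0 := by
        rw [hdd, sl_mul_val, hg', sl_mul_val]
        simp [coe_slX, coe_slW, Matrix.mul_apply, Fin.sum_univ_two, Matrix.adjugate_fin_two,
          Matrix.SpecialLinearGroup.coe_inv, Matrix.vecMul, dotProduct]
        field_simp
        ring
      set v : ↥(Gr K m) := φ (slX (-(g.1 0 0 / c))) with hv
      have hnv : φ d = S.n * v := by
        rw [hdd, hg', map_mul, map_mul, hg, mul_one, map_inv, hW, inv_eq_of_mul_eq_one_right S.n_sq, hv]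
      set w := φ (slX 1) with hw
      have hvw : v * w = w * v := by
        rw [hv, hw, ← map_mul, ← map_mul]
        congr 1
        apply Subtype.ext
        ext i j
        fin_cases i <;> fin_cases j <;>
          simp [sl_mul_val, coe_slX, Matrix.mul_apply, Fin.sum_univ_two, add_comm]
      have e := congrArg φ (slX_scale hd10 1)
      rw [map_mul φ d, map_mul φ _ d, hnv, mul_assoc, ← hw, hvw, ← mul_assoc] at e
      set w' := φ (slX (d.1 0 0 ^ 2 * 1)) with hw'
      have e' : 1 * S.n * 1 * (w * v) = w' * S.n * 1 * v := by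
        simpa [mul_assoc] using e
      have h3 := (S.uniq 1 (one_mem _) 1 (one_mem _) (w * v) (mul_mem (hU 1) (hU _)) w' (hU _) 1 (one_mem _) v
        (hU _) e').2.2
      exact one_ne_zero (hinj 1 (mul_eq_right.1 h3))
  refine ⟨hker, ?_, ?_⟩
  · let z : Matrix.SpecialLinearGroup (Fin 2) K := slW * slW
    have hz : z.1 = -1 := by
      ext i j; fin_cases i <;> fin_cases j <;>
        simp [z, sl_mul_val, coe_slW, Matrix.mul_apply, Fin.sum_univ_two]
    have hz1 : z ≠ 1 := fun h => h2 (by
      have := congrArg (fun x : Matrix.SpecialLinearGroup (Fin 2) K => x.1 0 0) h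
      simp only [hz, Matrix.neg_apply, Matrix.one_apply_eq, Matrix.SpecialLinearGroup.coe_one] at this
      linear_combination -this)
    have hk : Nat.card ↥φ.ker = 2 := by
      rw [Nat.card_eq_two_iff]
      refine ⟨1, ⟨z, hneg z hz⟩, fun h => hz1 (congrArg Subtype.val h).symm, ?_⟩
      ext ⟨x, hx⟩
      simp only [Set.mem_insert_iff, Set.mem_singleton_iff, Set.mem_univ, iff_true, Subtype.ext_iff]
      rcases (hker x).1 hx with h | h
      · exact Or.inl (Subtype.ext h)
      · exact Or.inr (Subtype.ext (h.trans hz.symm))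
    rw [Subgroup.card_eq_card_quotient_mul_card_subgroup φ.ker,
      Nat.card_congr (QuotientGroup.quotientKerEquivRange φ).toEquiv, hk, mul_comm]
  · rintro ⟨g, hg⟩
    have hcen : ∀ x : Matrix.SpecialLinearGroup (Fin 2) K, φ x * tR hK = tR hK * φ x := by
      intro x
      refine Subgroup.mem_centralizer_singleton_iff.1 (sl_generated
        ((Subgroup.centralizer ({tR hK} : Set ↥(Gr K m))).comap φ) (fun b => ?_) ?_ x)
      · exact Subgroup.mem_centralizer_singleton_iff.2 ((commute_tR_U hK (hU b)).2 ⟨b, hX b⟩)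
      · rw [Subgroup.mem_comap, Subgroup.mem_centralizer_singleton_iff, hW,
          S.n_inv' (tR_mem hK), inv_eq_of_mul_eq_one_right (tR_sq hK)]
    -- `g` commutes with the unipotents up to sign, hence is scalar
    have hkey : ∀ x : Matrix.SpecialLinearGroup (Fin 2) K, (x * g).1 = (g * x).1 ∨ (x * g).1 = -(g * x).1 := by
      intro x
      have h : φ ((g * x)⁻¹ * (x * g)) = 1 := by
        rw [map_mul, map_inv, map_mul, map_mul, hg, hcen x, inv_mul_cancel]
      have e : x * g = (g * x) * ((g * x)⁻¹ * (x * g)) := (mul_inv_cancel_left _ _).symm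
      rcases (hker _).1 h with h | h
      · left; rw [e, sl_mul_val, h, mul_one]
      · right; rw [e, sl_mul_val, h, mul_neg, mul_one]
    have hdet := sl_det g
    obtain ⟨hc0, hb0⟩ : g.1 1 0 = 0 ∧ g.1 0 1 = 0 := by
      constructor
      · rcases hkey (slX 1) with h | h
        · have := congrFun (congrFun h 0) 0
          simp [sl_mul_val, coe_slX, Matrix.mul_apply, Fin.sum_univ_two] at this
          exact this
        · have e1 := congrFun (congrFun h 1) 0
          simp [sl_mul_val, coe_slX, Matrix.mul_apply, Fin.sum_univ_two] at e1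
          have : (2 : K) * g.1 1 0 = 0 := by linear_combination e1
          exact (mul_eq_zero.1 this).resolve_left h2
      · rcases hkey (slY 1) with h | h
        · have := congrFun (congrFun h 1) 1
          simp [sl_mul_val, coe_slY, Matrix.mul_apply, Fin.sum_univ_two] at this
          exact this
        · have e1 := congrFun (congrFun h 0) 1
          simp [sl_mul_val, coe_slY, Matrix.mul_apply, Fin.sum_univ_two] at e1
          have : (2 : K) * g.1 0 1 = 0 := by linear_combination e1
          exact (mul_eq_zero.1 this).resolve_left h2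
    have hmem : ∀ x : Matrix.SpecialLinearGroup (Fin 2) K, x.1 1 0 = 0 → x.1 0 1 = 0 → x.1 0 0 = x.1 1 1 →
        x.1 = 1 ∨ x.1 = -1 := by
      intro x h1 h2 h3
      have hd := sl_det x
      rw [h1, ← h3, mul_zero, sub_zero] at hd
      rcases sq_eq_one_iff.1 (show x.1 0 0 ^ 2 = 1 by rw [pow_two, hd]) with h | h
      · left; ext i j; fin_cases i <;> fin_cases j <;> simp [h1, h2, ← h3, h]
      · right; ext i j; fin_cases i <;> fin_cases j <;> simp [h1, h2, ← h3, h]
    have hdiag : g.1 0 0 = g.1 1 1 := by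
      rcases hkey (slX 1) with h | h
      · have := congrFun (congrFun h 0) 1
        simp [sl_mul_val, coe_slX, Matrix.mul_apply, Fin.sum_univ_two, hb0] at this
        exact this.symm
      · have e1 := congrFun (congrFun h 0) 0
        simp [sl_mul_val, coe_slX, Matrix.mul_apply, Fin.sum_univ_two, hc0] at e1
        have h00 : g.1 0 0 = 0 := (mul_eq_zero.1 (show (2 : K) * g.1 0 0 = 0 by linear_combination e1)).resolve_left h2
        rw [h00, hc0] at hdet
        simp at hdet
    exact tR_ne_one hK (hg ▸ (hker g).2 (hmem g hc0 hb0 hdiag))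

end Cfsg.Agent.H47.Ree
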