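import Cfsg.Agent.H47.Ree.Classify
import Cfsg.Agent.H47.Ree.PowSix

/-!
The tori of orders `q ∓ 3^(m+1) + 1`, by counting elements.
-/

set_option autoImplicit false

open Cfsg.Lie Cfsg.Agent.H46

namespace Cfsg.Agent.H47.Ree

open Cfsg.Agent.H48.Ree (Gr)

variable {K : Type*} [Field K] [Fintype K] {m : ℕ}

/-- Modulo a prime divisor of `q² - q + 1`, the number `q` has order six. -/
theorem six_hord (hm : 1 ≤ m) (hK : Fintype.card K = 3 ^ (2 * m + 1)) {ℓ : ℕ} (hℓ : ℓ.Prime)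
    (hd : ℓ ∣ qA m * qB m) :
    ((ℓ : K) ≠ 0) ∧ ∀ d, 1 ≤ d → d ≤ 7 → d ≠ 6 → ¬ ((ℓ : ℤ) ∣ (Fintype.card K : ℤ) ^ d - 1) := by
  haveI := (H48.Ree.field_data hK).1
  have := Fact.mk hℓ
  obtain ⟨hℓ2, hℓ3, h6, -, -⟩ := six_prime hm hℓ hd
  have hp : ∀ p : ℕ, p.Prime → ℓ ≠ p → (p : ZMod ℓ) ≠ 0 := fun p hp hne h =>
    hne ((Nat.prime_dvd_prime_iff_eq hℓ hp).1 ((ZMod.natCast_eq_zero_iff _ _).1 h))
  refine ⟨fun h => hℓ3 ((Nat.prime_dvd_prime_iff_eq Nat.prime_three hℓ).1 ((CharP.cast_eq_zero_iff K 3 ℓ).1 h)).symm,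
    fun d hd1 hd7 hd6 hdvd => ?_⟩
  refine pow_ne_one_of_sixth h6 (by exact_mod_cast hp 2 Nat.prime_two hℓ2)
    (by exact_mod_cast hp 3 Nat.prime_three hℓ3) hd1 hd7 hd6 ?_
  have := (ZMod.intCast_zmod_eq_zero_iff_dvd _ ℓ).2 hdvd
  rw [hK] at this
  push_cast at this
  rw [sub_eq_zero] at this
  simpa using this

/-- The centraliser and normaliser of an element of prime order dividing `q² - q + 1`. -/
theorem six_facts (hm : 1 ≤ m) (hK : Fintype.card K = 3 ^ (2 * m + 1)) {x : ↥(Gr K m)} {ℓ : ℕ} (hℓ : ℓ.Prime)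
    (hd : ℓ ∣ qA m * qB m) (ho : orderOf x = ℓ) :
    IsCyclic ↥(Subgroup.centralizer ({x} : Set ↥(Gr K m))) ∧
    Nat.card ↥(Subgroup.centralizer ({x} : Set ↥(Gr K m))) ∣ qA m * qB m ∧
    5 ≤ Nat.card ↥(Subgroup.centralizer ({x} : Set ↥(Gr K m))) ∧
    ℓ ∣ Nat.card ↥(Subgroup.centralizer ({x} : Set ↥(Gr K m))) ∧
    (∀ y ∈ Subgroup.centralizer ({x} : Set ↥(Gr K m)), y ≠ 1 →
      Subgroup.centralizer ({y} : Set ↥(Gr K m)) = Subgroup.centralizer {x}) ∧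
    (∀ s : ℕ, s.Prime → s ∣ Nat.card ↥(Subgroup.centralizer ({x} : Set ↥(Gr K m))) →
      ¬ s ∣ (Subgroup.centralizer ({x} : Set ↥(Gr K m))).index) ∧
    ∃ n, (n = 1 ∨ n = 2 ∨ n = 3 ∨ n = 6) ∧
      Nat.card ↥(Subgroup.normalizer ((Subgroup.centralizer ({x} : Set ↥(Gr K m))) : Set ↥(Gr K m))) =
        n * Nat.card ↥(Subgroup.centralizer ({x} : Set ↥(Gr K m))) ∧
      (sweep {y : ↥(Gr K m) | y ∈ Subgroup.centralizer ({x} : Set ↥(Gr K m)) ∧ y ≠ 1}).ncard *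
          (n * Nat.card ↥(Subgroup.centralizer ({x} : Set ↥(Gr K m)))) =
        (Nat.card ↥(Subgroup.centralizer ({x} : Set ↥(Gr K m))) - 1) * Nat.card ↥(Gr K m) := by
  classical
  set P := qA m * qB m with hP
  set C := Subgroup.centralizer ({x} : Set ↥(Gr K m)) with hC
  obtain ⟨hℓ2, hℓ3, h6, hn1, hn2⟩ := six_prime hm hℓ hd
  haveI hcyc : IsCyclic ↥C := isCyclic_centralizer_six hK hℓ hℓ2 hℓ3 h6 ho
  have hxC : x ∈ C := Subgroup.mem_centralizer_singleton_iff.2 rfl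
  have hCc : ∀ a ∈ C, ∀ b ∈ C, a * b = b * a := fun a ha b hb => by
    letI : CommGroup ↥C := IsCyclic.commGroup
    exact congrArg Subtype.val (mul_comm (⟨a, ha⟩ : ↥C) ⟨b, hb⟩)
  have hdvd : ∀ (y : ↥(Gr K m)) (s : ℕ), s.Prime → s ∣ P → orderOf y = s →
      Nat.card ↥(Subgroup.centralizer ({y} : Set ↥(Gr K m))) ∣ P := by
    intro y s hs hsd hy
    obtain ⟨-, hs3, -, hs1, hs2⟩ := six_prime hm hs hsd
    have hR := Subgroup.card_subgroup_dvd_card (Subgroup.centralizer ({y} : Set ↥(Gr K m)))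
    rw [card_R_factor hm hK] at hR
    refine Nat.Coprime.dvd_of_dvd_mul_left ?_ hR
    refine Nat.coprime_of_dvd fun r hr hr1 hr2 => ?_
    refine not_dvd_centralizer_six hK hs hs3 hs1 hs2 hy hr ?_ hr1
    rcases hr.dvd_mul.1 hr2 with h | h
    · rcases hr.dvd_mul.1 h with h | h
      · exact Or.inl ((Nat.prime_dvd_prime_iff_eq hr Nat.prime_three).1 (hr.dvd_of_dvd_pow (hr.dvd_of_dvd_pow h)))
      · exact Or.inr (Or.inl h)
    · exact Or.inr (Or.inr h)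
  have hcP : Nat.card ↥C ∣ P := hdvd x ℓ hℓ hd ho
  have hℓC : ℓ ∣ Nat.card ↥C := ho ▸ Subgroup.orderOf_dvd_natCard _ hxC
  have h5 : 5 ≤ Nat.card ↥C := by
    refine le_trans ?_ (Nat.le_of_dvd Nat.card_pos hℓC)
    by_contra h
    have := hℓ.two_le
    interval_cases ℓ <;> first | omega | exact absurd hℓ (by decide)
  have hTI : ∀ y ∈ C, y ≠ 1 → Subgroup.centralizer ({y} : Set ↥(Gr K m)) = C := by
    intro y hy hy1
    obtain ⟨r, hr, hrd⟩ := Nat.exists_prime_and_dvd (n := orderOf y) fun e => hy1 (orderOf_eq_one_iff.1 e)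
    have hrP : r ∣ P := hrd.trans ((Subgroup.orderOf_dvd_natCard _ hy).trans hcP)
    obtain ⟨hr2, hr3, h6', -, -⟩ := six_prime hm hr hrP
    have hw := exists_pow_prime y hrd
    haveI := isCyclic_centralizer_six hK hr hr2 hr3 h6' hw
    set w := y ^ (orderOf y / r)
    have hwC : w ∈ C := pow_mem hy _
    have hxw : x ∈ Subgroup.centralizer ({w} : Set ↥(Gr K m)) :=
      Subgroup.mem_centralizer_singleton_iff.2 (hCc x hxC w hwC)
    refine le_antisymm (fun c hc => ?_) fun c hc => Subgroup.mem_centralizer_singleton_iff.2 (hCc c hc y hy)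
    have hcw : c ∈ Subgroup.centralizer ({w} : Set ↥(Gr K m)) := Subgroup.mem_centralizer_singleton_iff.2
      ((show Commute c y from Subgroup.mem_centralizer_singleton_iff.1 hc).pow_right _)
    letI : CommGroup ↥(Subgroup.centralizer ({w} : Set ↥(Gr K m))) := IsCyclic.commGroup
    exact Subgroup.mem_centralizer_singleton_iff.2 (congrArg Subtype.val
      (mul_comm (⟨c, hcw⟩ : ↥(Subgroup.centralizer ({w} : Set ↥(Gr K m)))) ⟨x, hxw⟩))
  refine ⟨hcyc, hcP, h5, hℓC, hTI, fun s hs hsC => ?_, ?_⟩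
  · haveI := Fact.mk hs
    obtain ⟨w, hw⟩ := exists_prime_orderOf_dvd_card' (G := ↥C) s hsC
    rw [← Subgroup.orderOf_coe] at hw
    have hw1 : (w : ↥(Gr K m)) ≠ 1 := fun e => by
      rw [e, orderOf_one] at hw
      exact hs.one_lt.ne hw
    obtain ⟨Q, hQ⟩ := (IsPGroup.of_card (n := 1) (by rw [Nat.card_zpowers, hw, pow_one]) :
      IsPGroup s ↥(Subgroup.zpowers (w : ↥(Gr K m)))).exists_le_sylow
    have hwQ := hQ (Subgroup.mem_zpowers (w : ↥(Gr K m)))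
    haveI : Nontrivial ↥(Q : Subgroup ↥(Gr K m)) :=
      ⟨⟨w, hwQ⟩, 1, fun e => hw1 (congrArg Subtype.val e)⟩
    haveI := Q.isPGroup'.center_nontrivial
    obtain ⟨z, hz⟩ := exists_ne (1 : ↥(Subgroup.center ↥(Q : Subgroup ↥(Gr K m))))
    have hzc : ∀ p ∈ (Q : Subgroup ↥(Gr K m)), p * ((z : ↥(Q : Subgroup ↥(Gr K m))) : ↥(Gr K m)) =
        ((z : ↥(Q : Subgroup ↥(Gr K m))) : ↥(Gr K m)) * p := fun p hp =>
      congrArg Subtype.val (Subgroup.mem_center_iff.1 z.2 ⟨p, hp⟩)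
    have hzC : ((z : ↥(Q : Subgroup ↥(Gr K m))) : ↥(Gr K m)) ∈ C := by
      rw [← hTI _ w.2 hw1, Subgroup.mem_centralizer_singleton_iff]
      exact (hzc _ hwQ).symm
    have hQC : (Q : Subgroup ↥(Gr K m)) ≤ C := fun p hp => by
      rw [← hTI _ hzC fun e => hz (Subtype.ext (Subtype.ext e)), Subgroup.mem_centralizer_singleton_iff]
      exact hzc p hp
    exact fun h => Q.not_dvd_index (h.trans (Subgroup.index_dvd_of_le hQC))
  · haveI := Fact.mk hℓ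
    set N := Subgroup.normalizer (C : Set ↥(Gr K m))
    let xN : ↥N := ⟨x, Subgroup.le_normalizer hxC⟩
    have hxN : orderOf xN = ℓ := by rw [← Subgroup.orderOf_coe]; exact ho
    have hnorm : ∀ g : ↥N, ∃ j : ℕ, g * xN * g⁻¹ = xN ^ j := by
      intro g
      have hmem := (Subgroup.mem_normalizer_iff.1 g.2 x).1 hxC
      have e := eq_of_le_cyclic (Subgroup.zpowers_le.2 hmem) (Subgroup.zpowers_le.2 hxC)
        (by rw [Nat.card_zpowers, Nat.card_zpowers, orderOf_conj])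
      have h1 : (g : ↥(Gr K m)) * x * (g : ↥(Gr K m))⁻¹ ∈ Subgroup.zpowers x :=
        e ▸ Subgroup.mem_zpowers ((g : ↥(Gr K m)) * x * (g : ↥(Gr K m))⁻¹)
      obtain ⟨j, hj⟩ := (mem_powers_iff_mem_zpowers.2 h1 : _ ∈ Submonoid.powers x)
      exact ⟨j, Subtype.ext hj.symm⟩
    haveI hnormal : (Subgroup.zpowers xN).Normal := ⟨fun a ha g => by
      obtain ⟨i, rfl⟩ := (mem_powers_iff_mem_zpowers.2 ha : a ∈ Submonoid.powers xN)
      obtain ⟨j, hj⟩ := hnorm g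
      rw [← conj_pow, hj]
      exact pow_mem (pow_mem (Subgroup.mem_zpowers xN) _) _⟩
    let ψ : ↥N →* MulAut ↥(Subgroup.zpowers xN) := MulAut.conjNormal
    have hψ : ∀ g : ↥N, ψ g = 1 ↔ g * xN = xN * g := by
      intro g
      constructor
      · intro h
        have h1 := congrArg (fun a : MulAut ↥(Subgroup.zpowers xN) =>
          ((a ⟨xN, Subgroup.mem_zpowers xN⟩ : ↥(Subgroup.zpowers xN)) : ↥N)) h
        simp only [ψ, MulAut.conjNormal_apply, MulAut.one_apply] at h1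
        exact mul_inv_eq_iff_eq_mul.1 h1
      · intro h
        refine MulEquiv.ext fun ⟨a, ha⟩ => Subtype.ext ?_
        obtain ⟨i, rfl⟩ := (mem_powers_iff_mem_zpowers.2 ha : a ∈ Submonoid.powers xN)
        show ((ψ g ⟨xN ^ i, ha⟩ : ↥(Subgroup.zpowers xN)) : ↥N) = xN ^ i
        rw [show ((ψ g ⟨xN ^ i, ha⟩ : ↥(Subgroup.zpowers xN)) : ↥N) = g * xN ^ i * g⁻¹ from
          MulAut.conjNormal_apply _ _, ← conj_pow, h, mul_inv_cancel_right]
    have hker : Nat.card ↥ψ.ker = Nat.card ↥C := Nat.card_congr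
      { toFun := fun g => ⟨(g.1 : ↥(Gr K m)),
          Subgroup.mem_centralizer_singleton_iff.2 (congrArg Subtype.val ((hψ g.1).1 g.2))⟩
        invFun := fun c => ⟨⟨c.1, Subgroup.le_normalizer c.2⟩,
          (hψ _).2 (Subtype.ext (Subgroup.mem_centralizer_singleton_iff.1 c.2))⟩
        left_inv := fun g => rfl
        right_inv := fun c => rfl }
    have hcard : Nat.card ↥N = Nat.card ↥ψ.range * Nat.card ↥C := by
      rw [Subgroup.card_eq_card_quotient_mul_card_subgroup ψ.ker, hker,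
        Nat.card_congr (QuotientGroup.quotientKerEquivRange ψ).toEquiv]
    have hn : Nat.card ↥ψ.range ∣ 6 := by
      have hc : Nat.card ↥(Subgroup.zpowers xN) = ℓ := by rw [Nat.card_zpowers, hxN]
      haveI : Fact (Nat.card ↥(Subgroup.zpowers xN)).Prime := ⟨hc ▸ hℓ⟩
      haveI : IsCyclic (MulAut ↥(Subgroup.zpowers xN)) := by
        have e := IsCyclic.mulAutMulEquiv ↥(Subgroup.zpowers xN)
        exact isCyclic_of_surjective _ e.symm.surjective
      obtain ⟨⟨_, g, rfl⟩, hg⟩ := IsCyclic.exists_ofOrder_eq_natCard (α := ↥ψ.range)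
      rw [← hg]
      refine orderOf_dvd_of_pow_eq_one (Subtype.ext ?_)
      obtain ⟨f, hf⟩ := exists_faithful (m := m) hK
      obtain ⟨hℓK, hord⟩ := six_hord hm hK hℓ hd
      show ψ g ^ 6 = 1
      rw [← map_pow, hψ]
      exact pow_six_commute (f.comp N.subtype) (hf.comp Subtype.val_injective) (Module.finrank_fin_fun K).le hℓ hℓK
        hxN hnorm hord g
    refine ⟨Nat.card ↥ψ.range, ?_, hcard, ?_⟩
    · have := Nat.le_of_dvd (by norm_num) hn
      interval_cases Nat.card ↥ψ.range <;> omega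
    · have hS : Nat.card ↥{y : ↥(Gr K m) | y ∈ C ∧ y ≠ 1} = Nat.card ↥C - 1 := by
        have e : {y : ↥(Gr K m) | y ∈ C ∧ y ≠ 1} = (C : Set ↥(Gr K m)) \ {1} := rfl
        rw [e, Nat.card_coe_set_eq, Set.ncard_diff_singleton_of_mem (one_mem C), ← Nat.card_coe_set_eq]
        rfl
      rw [← hcard, ← hS, ← Nat.card_coe_set_eq (sweep _)]
      exact card_sweep_abelian C _ (fun s hs => hTI s hs.1 hs.2) fun n hn s hs =>
        ⟨(Subgroup.mem_normalizer_iff.1 hn s).1 hs.1, fun e => hs.2 (conj_eq_one_iff.1 e)⟩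

theorem three_classes_false {G c₁ c₂ c₃ n₁ n₂ n₃ e₁ e₂ e₃ E : ℕ} (hG : 0 < G)
    (h₁ : e₁ * (n₁ * c₁) = (c₁ - 1) * G) (h₂ : e₂ * (n₂ * c₂) = (c₂ - 1) * G)
    (h₃ : e₃ * (n₃ * c₃) = (c₃ - 1) * G) (l₁ : n₁ ≤ 6) (l₂ : n₂ ≤ 6) (l₃ : n₃ ≤ 6) (g₁ : 5 ≤ c₁) (g₂ : 5 ≤ c₂)
    (g₃ : 5 ≤ c₃) (hE : e₁ + e₂ + e₃ ≤ E) (hEG : 6 * E < 2 * G) : False := by
  have key : ∀ e n c : ℕ, e * (n * c) = (c - 1) * G → n ≤ 6 → 5 ≤ c → 4 * G ≤ 30 * e := by
    intro e n c h hn hc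
    have h1 : (c - 1) * G ≤ e * (6 * c) := h ▸ Nat.mul_le_mul_left _ (Nat.mul_le_mul_right _ hn)
    have h2 : 4 * c * G ≤ 5 * (c - 1) * G := Nat.mul_le_mul_right _ (by omega)
    refine Nat.le_of_mul_le_mul_left (?_ : c * (4 * G) ≤ c * (30 * e)) (by omega)
    calc c * (4 * G) = 4 * c * G := by ring
      _ ≤ 5 * (c - 1) * G := h2
      _ = 5 * ((c - 1) * G) := by ring
      _ ≤ 5 * (e * (6 * c)) := Nat.mul_le_mul_left _ h1
      _ = c * (30 * e) := by ring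
  have := key _ _ _ h₁ l₁ g₁
  have := key _ _ _ h₂ l₂ g₂
  have := key _ _ _ h₃ l₃ g₃
  omega

theorem two_classes {M a b c₁ c₂ n₁ n₂ e₁ e₂ E : ℕ} (hM : 0 < M) (ha : 5 ≤ a) (hb : 5 ≤ b)
    (g₁ : 5 ≤ c₁) (g₂ : 5 ≤ c₂) (hn₁ : n₁ = 1 ∨ n₁ = 2 ∨ n₁ = 3 ∨ n₁ = 6) (hn₂ : n₂ = 1 ∨ n₂ = 2 ∨ n₂ = 3 ∨ n₂ = 6)
    (hc : c₁ * c₂ = a * b) (h₁ : e₁ * (n₁ * c₁) = (c₁ - 1) * (M * (a * b)))
    (h₂ : e₂ * (n₂ * c₂) = (c₂ - 1) * (M * (a * b))) (hE : e₁ + e₂ = E)
    (hEq : 6 * (E : ℤ) = 2 * (M * (a * b) : ℕ) - (M : ℤ) * (a + b : ℕ)) : n₁ = 6 ∧ (c₁ = a ∨ c₁ = b) := by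
  zify [show 1 ≤ c₁ by omega, show 1 ≤ c₂ by omega] at h₁ h₂ hc hM ha hb g₁ g₂ hE
  push_cast at hEq
  have key : (n₁ : ℤ) * n₂ * (2 * (a * b) - (a + b)) =
      6 * (((a : ℤ) * b - c₂) * n₂ + ((a : ℤ) * b - c₁) * n₁) := by
    refine mul_left_cancel₀ (show (M : ℤ) * ((a : ℤ) * b) ≠ 0 by positivity) ?_
    linear_combination (-((n₁ : ℤ) * n₂ * c₁ * c₂)) * hEq + (6 * (n₁ : ℤ) * n₂ * c₁ * c₂) * (-hE) +
      (6 * (n₂ : ℤ) * c₂) * h₁ + (6 * (n₁ : ℤ) * c₁) * h₂ +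
      ((6 * (n₂ : ℤ) + 6 * n₁) * (M * (a * b)) - (n₁ : ℤ) * n₂ * (2 * (M * (a * b)) - M * (a + b))) * hc
  have hp₁ : 5 * (c₁ : ℤ) ≤ c₁ * c₂ := by nlinarith
  have hp₂ : 5 * (c₂ : ℤ) ≤ c₁ * c₂ := by nlinarith
  have hab0 : (25 : ℤ) ≤ a * b := by nlinarith
  rcases hn₁ with rfl | rfl | rfl | rfl <;> rcases hn₂ with rfl | rfl | rfl | rfl <;> push_cast at key
  all_goals try (exfalso; nlinarith)
  refine ⟨rfl, ?_⟩
  have hs : (c₁ : ℤ) + c₂ = a + b := by nlinarith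
  have h0 : ((c₁ : ℤ) - a) * ((c₁ : ℤ) - b) = 0 := by linear_combination (c₁ : ℤ) * hs - hc
  rcases mul_eq_zero.1 h0 with h | h
  · exact Or.inl (by omega)
  · exact Or.inr (by omega)

theorem one_class_false {M a b n e : ℕ} (hM : 0 < M) (ha : 5 ≤ a) (hb : 5 ≤ b)
    (hn : n = 1 ∨ n = 2 ∨ n = 3 ∨ n = 6) (h : e * (n * (a * b)) = (a * b - 1) * (M * (a * b)))
    (hEq : 6 * (e : ℤ) = 2 * (M * (a * b) : ℕ) - (M : ℤ) * (a + b : ℕ)) : False := by
  have h1 : 1 ≤ a * b := Nat.one_le_iff_ne_zero.2 (Nat.mul_ne_zero (by omega) (by omega))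
  zify [h1] at h hM ha hb
  push_cast at hEq
  have key : (n : ℤ) * (2 * (a * b) - (a + b)) = 6 * ((a : ℤ) * b - 1) := by
    refine mul_left_cancel₀ (show (M : ℤ) * ((a : ℤ) * b) ≠ 0 by positivity) ?_
    linear_combination (-((n : ℤ) * a * b)) * hEq + 6 * h
  have hab0 : (25 : ℤ) ≤ a * b := by nlinarith
  have hprod : (16 : ℤ) ≤ ((a : ℤ) - 1) * ((b : ℤ) - 1) := by nlinarith
  rcases hn with rfl | rfl | rfl | rfl <;> push_cast at key <;> nlinarith

theorem exists_missing_prime_or_dvd {P c : ℕ} :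
    (∃ s : ℕ, s.Prime ∧ s ∣ P ∧ ¬ s ∣ c) ∨ ∀ s : ℕ, s.Prime → s ∣ P → s ∣ c := by
  by_cases h : ∃ s : ℕ, s.Prime ∧ s ∣ P ∧ ¬ s ∣ c
  · exact Or.inl h
  · exact Or.inr fun s hs hd => by_contra fun hc => h ⟨s, hs, hd, hc⟩

/-- The torus through an element of prime order dividing `q² - q + 1`. -/
theorem six_torus (hm : 1 ≤ m) (hK : Fintype.card K = 3 ^ (2 * m + 1)) {x : ↥(Gr K m)} {ℓ : ℕ} (hℓ : ℓ.Prime)
    (hd : ℓ ∣ qA m * qB m) (ho : orderOf x = ℓ) :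
    (Nat.card ↥(Subgroup.centralizer ({x} : Set ↥(Gr K m))) = qA m ∨
        Nat.card ↥(Subgroup.centralizer ({x} : Set ↥(Gr K m))) = qB m) ∧
      ℓ ∣ Nat.card ↥(Subgroup.centralizer ({x} : Set ↥(Gr K m))) ∧
      Nat.card ↥(Subgroup.normalizer ((Subgroup.centralizer ({x} : Set ↥(Gr K m))) : Set ↥(Gr K m))) =
        6 * Nat.card ↥(Subgroup.centralizer ({x} : Set ↥(Gr K m))) := by
  classical
  obtain ⟨-, -, ha, hb, hq27⟩ := six_arith hm
  have hR := card_R_factor (K := K) hm hK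
  have hE := card_six_set (K := K) hm hK
  rw [hR] at hE
  set M := (3 ^ (2 * m + 1)) ^ 3 * (3 ^ (2 * m + 1) - 1) * (3 ^ (2 * m + 1) + 1)
  set E := {z : ↥(Gr K m) | orderOf z ∣ qA m * qB m ∧ 1 < orderOf z} with hEdef
  have hM : 0 < M := by
    have : 0 < 3 ^ (2 * m + 1) - 1 := by omega
    positivity
  obtain ⟨-, hcP, h5, hℓc, hTI, hSyl, n, hn, hN, hsw⟩ := six_facts hm hK hℓ hd ho
  set C := Subgroup.centralizer ({x} : Set ↥(Gr K m)) with hC
  -- primes missed by a class give new classes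
  have hnew : ∀ s : ℕ, s.Prime → s ∣ qA m * qB m → ∃ y : ↥(Gr K m), orderOf y = s := by
    intro s hs hsd
    haveI := Fact.mk hs
    exact exists_prime_orderOf_dvd_card' s (hR ▸ hsd.mul_left _)
  have hsub : ∀ (y : ↥(Gr K m)) (s : ℕ), s.Prime → s ∣ qA m * qB m → orderOf y = s →
      sweep {z | z ∈ Subgroup.centralizer ({y} : Set ↥(Gr K m)) ∧ z ≠ 1} ⊆ E := by
    rintro y s hs hsd hy z ⟨g, hg, hg1⟩
    obtain ⟨-, hcP', -, -, -, -, -⟩ := six_facts hm hK hs hsd hy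
    show orderOf z ∣ _ ∧ 1 < orderOf z
    rw [← orderOf_conj g z]
    refine ⟨(Subgroup.orderOf_dvd_natCard _ hg).trans hcP', ?_⟩
    have := orderOf_pos (g * z * g⁻¹)
    have : orderOf (g * z * g⁻¹) ≠ 1 := fun e => hg1 (orderOf_eq_one_iff.1 e)
    omega
  have hdisj : ∀ (y y' : ↥(Gr K m)) (s s' : ℕ), s.Prime → s ∣ qA m * qB m → orderOf y = s →
      s'.Prime → s' ∣ qA m * qB m → orderOf y' = s' →
      ¬ s' ∣ Nat.card ↥(Subgroup.centralizer ({y} : Set ↥(Gr K m))) →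
      Disjoint (sweep {z | z ∈ Subgroup.centralizer ({y} : Set ↥(Gr K m)) ∧ z ≠ 1})
        (sweep {z | z ∈ Subgroup.centralizer ({y'} : Set ↥(Gr K m)) ∧ z ≠ 1}) := by
    intro y y' s s' hs hsd hy hs' hsd' hy' hndvd
    refine Set.disjoint_left.2 fun z ⟨g, hg, hg1⟩ ⟨g', hg', hg'1⟩ => hndvd ?_
    obtain ⟨-, -, -, -, hTI1, -, -⟩ := six_facts hm hK hs hsd hy
    obtain ⟨-, -, -, hdv2, hTI2, -, -⟩ := six_facts hm hK hs' hsd' hy'
    have e1 := hTI1 _ hg hg1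
    have e2 := hTI2 _ hg' hg'1
    rw [← map_centralizer_singleton] at e1 e2
    have c1 : Nat.card ↥((Subgroup.centralizer ({z} : Set ↥(Gr K m))).map (MulAut.conj g).toMonoidHom) =
        Nat.card ↥(Subgroup.centralizer ({z} : Set ↥(Gr K m))) :=
      Subgroup.card_map_of_injective (MulAut.conj g).injective
    have c2 : Nat.card ↥((Subgroup.centralizer ({z} : Set ↥(Gr K m))).map (MulAut.conj g').toMonoidHom) =
        Nat.card ↥(Subgroup.centralizer ({z} : Set ↥(Gr K m))) :=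
      Subgroup.card_map_of_injective (MulAut.conj g').injective
    rw [← e1, c1, ← c2, e2]
    exact hdv2
  have hcover : ∀ (y : ↥(Gr K m)) (s : ℕ), s.Prime → s ∣ qA m * qB m → orderOf y = s →
      ∀ z ∈ E, ∀ r : ℕ, r.Prime → r ∣ orderOf z → r ∣ Nat.card ↥(Subgroup.centralizer ({y} : Set ↥(Gr K m))) →
        z ∈ sweep {w | w ∈ Subgroup.centralizer ({y} : Set ↥(Gr K m)) ∧ w ≠ 1} := by
    intro y s hs hsd hy z hz r hr hrd hrc
    obtain ⟨-, -, -, -, hTI1, hSyl1, -⟩ := six_facts hm hK hs hsd hy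
    obtain ⟨g, hg⟩ := exists_conj_mem hr (hSyl1 r hr hrc) (exists_pow_prime z hrd)
    refine ⟨g, ?_, fun e => ?_⟩
    · rw [← hTI1 _ hg fun e => by
        have := exists_pow_prime z hrd
        rw [← orderOf_conj g, e, orderOf_one] at this
        exact hr.one_lt.ne this]
      exact pow_commute_conj g z _
    · have : 1 < orderOf z := hz.2
      rw [← orderOf_conj g z, e, orderOf_one] at this
      omega
  -- a product of class orders covering all primes is the whole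
  have hfull : ∀ d : ℕ, d ∣ qA m * qB m → (∀ s : ℕ, s.Prime → s ∣ qA m * qB m → ∃ (y : ↥(Gr K m)) (r : ℕ),
      r.Prime ∧ r ∣ qA m * qB m ∧ orderOf y = r ∧ s ∣ Nat.card ↥(Subgroup.centralizer ({y} : Set ↥(Gr K m))) ∧
        Nat.card ↥(Subgroup.centralizer ({y} : Set ↥(Gr K m))) ∣ d) → d = qA m * qB m := by
    rintro d ⟨r, hr⟩ hall
    by_contra hne
    obtain ⟨s, hs, hsr⟩ := Nat.exists_prime_and_dvd (n := r) fun e => hne (by rw [hr, e, mul_one])
    obtain ⟨y, r', hr', hrd', hy, hsy, hyd⟩ := hall s hs (hr ▸ hsr.mul_left d)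
    obtain ⟨-, -, -, -, -, hSyl', -⟩ := six_facts hm hK hr' hrd' hy
    apply hSyl' s hs hsy
    have h1 : Nat.card ↥(Subgroup.centralizer ({y} : Set ↥(Gr K m))) * s ∣
        Nat.card ↥(Subgroup.centralizer ({y} : Set ↥(Gr K m))) *
          (Subgroup.centralizer ({y} : Set ↥(Gr K m))).index := by
      rw [Subgroup.card_mul_index, hR]
      exact ((mul_dvd_mul hyd hsr).trans (dvd_of_eq hr.symm)).mul_left _
    exact Nat.dvd_of_mul_dvd_mul_left Nat.card_pos h1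
  rw [hEdef] at hE
  refine ⟨?_, hℓc, ?_⟩ <;>
  rcases exists_missing_prime_or_dvd (P := qA m * qB m) (c := Nat.card ↥C) with ⟨s, hs, hsd, hsc⟩ | hall
  all_goals first
    | (exfalso
       have hc : Nat.card ↥C = qA m * qB m := hfull _ hcP fun r hr hrd => ⟨x, ℓ, hℓ, hd, ho, hall r hr hrd, dvd_rfl⟩
       have hset : sweep {y : ↥(Gr K m) | y ∈ C ∧ y ≠ 1} = E :=
         Set.Subset.antisymm (hsub x ℓ hℓ hd ho) fun z hz => by
           obtain ⟨r, hr, hrd⟩ := Nat.exists_prime_and_dvd (n := orderOf z) (by have : 1 < orderOf z := hz.2; omega)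
           exact hcover x ℓ hℓ hd ho z hz r hr hrd (hall r hr (hrd.trans hz.1))
       rw [hset, hR, hc] at hsw
       exact one_class_false hM ha hb hn hsw hE)
    | (obtain ⟨y, hy⟩ := hnew s hs hsd
       obtain ⟨-, hcP2, h52, hsc2, hTI2, hSyl2, n2, hn2, hN2, hsw2⟩ := six_facts hm hK hs hsd hy
       set C2 := Subgroup.centralizer ({y} : Set ↥(Gr K m)) with hC2
       have hd12 := hdisj x y ℓ s hℓ hd ho hs hsd hy hsc
       by_cases hmiss : ∃ r : ℕ, r.Prime ∧ r ∣ qA m * qB m ∧ ¬ r ∣ Nat.card ↥C ∧ ¬ r ∣ Nat.card ↥C2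
       · exfalso
         obtain ⟨r, hr, hrd, hr1, hr2⟩ := hmiss
         obtain ⟨z, hz⟩ := hnew r hr hrd
         obtain ⟨-, -, h53, -, -, -, n3, hn3, -, hsw3⟩ := six_facts hm hK hr hrd hz
         have hle : (sweep {w : ↥(Gr K m) | w ∈ C ∧ w ≠ 1}).ncard + (sweep {w : ↥(Gr K m) | w ∈ C2 ∧ w ≠ 1}).ncard +
             (sweep {w | w ∈ Subgroup.centralizer ({z} : Set ↥(Gr K m)) ∧ w ≠ 1}).ncard ≤ E.ncard := by
           rw [← Set.ncard_union_eq hd12, ← Set.ncard_union_eq (Set.disjoint_union_left.2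
             ⟨hdisj x z ℓ r hℓ hd ho hr hrd hz hr1, hdisj y z s r hs hsd hy hr hrd hz hr2⟩)]
           exact Set.ncard_le_ncard (Set.union_subset (Set.union_subset (hsub x ℓ hℓ hd ho) (hsub y s hs hsd hy))
             (hsub z r hr hrd hz))
         rw [hR] at hsw hsw2 hsw3
         refine three_classes_false (Nat.mul_pos hM (Nat.mul_pos (by omega) (by omega))) hsw hsw2 hsw3
           (by omega) (by omega) (by omega) h5 h52 h53 hle ?_
         have : 0 < (M : ℤ) * (qA m + qB m : ℕ) := by positivity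
         rw [hEdef]
         omega
       · have hall : ∀ r : ℕ, r.Prime → r ∣ qA m * qB m → r ∣ Nat.card ↥C ∨ r ∣ Nat.card ↥C2 := fun r hr hrd =>
           or_iff_not_imp_left.2 fun h1 => by_contra fun h2 => hmiss ⟨r, hr, hrd, h1, h2⟩
         have hcop : (Nat.card ↥C).Coprime (Nat.card ↥C2) := Nat.coprime_of_dvd fun r hr h1 h2 => by
           haveI := Fact.mk hr
           obtain ⟨w, hw⟩ := exists_prime_orderOf_dvd_card' (G := ↥C2) r h2
           rw [← Subgroup.orderOf_coe] at hw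
           have hw1 : (w : ↥(Gr K m)) ≠ 1 := fun e => by
             rw [e, orderOf_one] at hw
             exact hr.one_lt.ne hw
           have hmem : (w : ↥(Gr K m)) ∈ E := ⟨hw ▸ h2.trans hcP2, hw ▸ hr.one_lt⟩
           exact Set.disjoint_left.1 hd12 (hcover x ℓ hℓ hd ho _ hmem r hr hw.symm.dvd h1)
             ⟨1, by simp, by simpa using hw1⟩
         have hc : Nat.card ↥C * Nat.card ↥C2 = qA m * qB m :=
           hfull _ (hcop.mul_dvd_of_dvd_of_dvd hcP hcP2) fun r hr hrd => (hall r hr hrd).elim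
             (fun h => ⟨x, ℓ, hℓ, hd, ho, h, dvd_mul_right _ _⟩)
             (fun h => ⟨y, s, hs, hsd, hy, h, dvd_mul_left _ _⟩)
         have hset : (sweep {w : ↥(Gr K m) | w ∈ C ∧ w ≠ 1}).ncard + (sweep {w : ↥(Gr K m) | w ∈ C2 ∧ w ≠ 1}).ncard =
             E.ncard := by
           rw [← Set.ncard_union_eq hd12]
           congr 1
           refine Set.Subset.antisymm (Set.union_subset (hsub x ℓ hℓ hd ho) (hsub y s hs hsd hy)) fun z hz => ?_
           obtain ⟨r, hr, hrd⟩ := Nat.exists_prime_and_dvd (n := orderOf z) (by have : 1 < orderOf z := hz.2; omega)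
           rcases hall r hr (hrd.trans hz.1) with h | h
           · exact Or.inl (hcover x ℓ hℓ hd ho z hz r hr hrd h)
           · exact Or.inr (hcover y s hs hsd hy z hz r hr hrd h)
         rw [hR] at hsw hsw2
         obtain ⟨hn6, hcc⟩ := two_classes hM ha hb h5 h52 hn hn2 hc hsw hsw2 hset hE
         first
           | exact hcc
           | rw [hN, hn6])

end Cfsg.Agent.H47.Ree
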