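import Cfsg.Agent.H47.Ree.Six

/-!
The element orders of the small Ree group.
-/

set_option autoImplicit false

open Cfsg.Lie Cfsg.Agent.H46

namespace Cfsg.Agent.H47.Ree

open Cfsg.Agent.H48.Ree (Gr)

variable {K : Type*} [Field K] [Fintype K] {m : ℕ}

/-- The order of the centraliser of an element of prime order dividing one of the two factors. -/
theorem card_centralizer_six (hm : 1 ≤ m) (hK : Fintype.card K = 3 ^ (2 * m + 1)) {x : ↥(Gr K m)} {ℓ : ℕ}
    (hℓ : ℓ.Prime) (ho : orderOf x = ℓ) {n : ℕ} (hn : n = qA m ∨ n = qB m) (hd : ℓ ∣ n) :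
    IsCyclic ↥(Subgroup.centralizer ({x} : Set ↥(Gr K m))) ∧
      Nat.card ↥(Subgroup.centralizer ({x} : Set ↥(Gr K m))) = n := by
  have hP : ℓ ∣ qA m * qB m := by
    rcases hn with rfl | rfl
    · exact hd.mul_right _
    · exact hd.mul_left _
  obtain ⟨hc, hℓc, -⟩ := six_torus hm hK hℓ hP ho
  refine ⟨(six_facts hm hK hℓ hP ho).1, ?_⟩
  have hne : ∀ u v : ℕ, u.Coprime v → ℓ ∣ u → ℓ ∣ v → False := fun u v h h1 h2 =>
    hℓ.one_lt.ne' (Nat.eq_one_of_dvd_coprimes h h1 h2)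
  rcases hn with rfl | rfl <;> rcases hc with h | h <;> rw [h] at hℓc ⊢
  · exact (hne _ _ (qA_coprime_qB hm) hd hℓc).elim
  · exact (hne _ _ (qA_coprime_qB hm) hℓc hd).elim

/-- An element whose order is one of the two factors. -/
theorem exists_orderOf_six (hm : 1 ≤ m) (hK : Fintype.card K = 3 ^ (2 * m + 1)) {n : ℕ}
    (hn : n = qA m ∨ n = qB m) : ∃ g : ↥(Gr K m), orderOf g = n := by
  obtain ⟨-, -, ha, hb, -⟩ := six_arith hm
  obtain ⟨ℓ, hℓ, hd⟩ := Nat.exists_prime_and_dvd (n := n) (by omega)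
  haveI := Fact.mk hℓ
  obtain ⟨x, hx⟩ := exists_prime_orderOf_dvd_card' (G := ↥(Gr K m)) ℓ (by
    rw [card_R_factor hm hK]
    refine (hd.trans ?_).mul_left _
    rcases hn with rfl | rfl
    exacts [dvd_mul_right _ _, dvd_mul_left _ _])
  obtain ⟨hcyc, hcard⟩ := card_centralizer_six hm hK hℓ hx hn hd
  obtain ⟨g, hg⟩ := IsCyclic.exists_ofOrder_eq_natCard (α := ↥(Subgroup.centralizer ({x} : Set ↥(Gr K m))))
  exact ⟨g, by rw [Subgroup.orderOf_coe, hg, hcard]⟩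

/-- An element of order dividing `q² - q + 1` has order dividing one of the two factors. -/
theorem dvd_factor (hm : 1 ≤ m) (hK : Fintype.card K = 3 ^ (2 * m + 1)) {z : ↥(Gr K m)}
    (hz : orderOf z ∣ qA m * qB m) : orderOf z ∣ qA m ∨ orderOf z ∣ qB m := by
  rcases eq_or_ne (orderOf z) 1 with h | h
  · exact Or.inl (h ▸ one_dvd _)
  obtain ⟨p, hp, hpd⟩ := Nat.exists_prime_and_dvd h
  have hmem : z ∈ Subgroup.centralizer ({z ^ (orderOf z / p)} : Set ↥(Gr K m)) :=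
    Subgroup.mem_centralizer_singleton_iff.2 ((Commute.refl z).pow_right _)
  rcases (six_torus hm hK hp (hpd.trans hz) (exists_pow_prime z hpd)).1 with h | h
  · exact Or.inl (h ▸ Subgroup.orderOf_dvd_natCard _ hmem)
  · exact Or.inr (h ▸ Subgroup.orderOf_dvd_natCard _ hmem)

/-- The element orders. -/
theorem spectrum_iff (hm : 1 ≤ m) (hK : Fintype.card K = 3 ^ (2 * m + 1)) (d : ℕ) :
    (∃ g : ↥(Gr K m), orderOf g = d) ↔
      (d ∣ 6 ∨ d ∣ 9 ∨ d ∣ 3 ^ (2 * m + 1) - 1 ∨ d ∣ (3 ^ (2 * m + 1) + 1) / 2 ∨ d ∣ qA m ∨ d ∣ qB m) := by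
  obtain ⟨-, -, -, -, hq27⟩ := six_arith hm
  obtain ⟨A, -, -, hAexp, ⟨a, -, hao⟩, -, -, -, -, hall⟩ := exists_torus_data hm hK
  constructor
  · rintro ⟨g, rfl⟩
    rcases order_cases hm hK g with h | h | h | h | h | ⟨h, -⟩ | ⟨h, hlt⟩ | ⟨h, -⟩
    · exact Or.inl (h ▸ one_dvd _)
    · exact Or.inl (h ▸ by norm_num)
    · exact Or.inl (h ▸ by norm_num)
    · exact Or.inl (h ▸ dvd_rfl)
    · exact Or.inr (Or.inl (h ▸ dvd_rfl))
    · exact Or.inr (Or.inr (Or.inl h))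
    · obtain ⟨c, hc⟩ := hall g h hlt
      exact Or.inr (Or.inr (Or.inr (Or.inl (orderOf_conj c g ▸ hAexp _ hc))))
    · exact Or.inr (Or.inr (Or.inr (Or.inr (dvd_factor hm hK h))))
  · have down : ∀ (g : ↥(Gr K m)) (n : ℕ), orderOf g = n → d ∣ n → ∃ g : ↥(Gr K m), orderOf g = d := by
      rintro g n rfl ⟨e, he⟩
      refine ⟨g ^ e, ?_⟩
      have hpos := orderOf_pos g
      have he0 : e ≠ 0 := fun h => by rw [h, mul_zero] at he; omega
      rw [orderOf_pow_of_dvd he0 (he ▸ dvd_mul_left e d), he, Nat.mul_div_cancel _ (Nat.pos_of_ne_zero he0)]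
    have hpos : ∀ {P : ↥(Gr K m) → Prop} {n : ℕ}, Nat.card {g // P g} = n → 0 < n → ∃ g, P g := fun {P n} h hn => by
      haveI : Nonempty {g // P g} := (Nat.card_pos_iff.1 (h ▸ hn)).1
      exact ⟨_, (Classical.arbitrary {g // P g}).2⟩
    have hqq : 0 < (3 ^ (2 * m + 1)) ^ 2 * (3 ^ (2 * m + 1) - 1) * ((3 ^ (2 * m + 1)) ^ 3 + 1) := by
      have : 0 < 3 ^ (2 * m + 1) - 1 := by omega
      positivity
    rintro (h | h | h | h | h | h)
    · obtain ⟨g, hg⟩ := hpos (card_order_six hK) hqq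
      exact down g 6 hg h
    · obtain ⟨g, hg⟩ := hpos (card_order_three_nine hK).2 hqq
      exact down g 9 hg h
    · haveI := isCyclic_H (m := m) hK
      obtain ⟨g, hg⟩ := IsCyclic.exists_ofOrder_eq_natCard (α := ↥(cell (m := m) hK).H)
      exact down g _ (by rw [Subgroup.orderOf_coe, hg, card_H hK]) h
    · exact down a _ hao h
    · obtain ⟨g, hg⟩ := exists_orderOf_six (K := K) hm hK (Or.inl rfl)
      exact down g _ hg h
    · obtain ⟨g, hg⟩ := exists_orderOf_six (K := K) hm hK (Or.inr rfl)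
      exact down g _ hg h

end Cfsg.Agent.H47.Ree
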