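import Mathlib.GroupTheory.OrderOfElement
import Mathlib.GroupTheory.SpecificGroups.Cyclic
import Mathlib.Tactic.Group

/-!
A group with a split one-cell Bruhat decomposition `G = UH ∪ UnHU` in which `n` inverts `H`: centralisers and
involutions, by uniqueness of the decomposition alone.
-/

set_option autoImplicit false

namespace Cfsg.Agent.H47.Ree

/-- A split decomposition with one nontrivial cell. -/
structure SplitCell (G : Type*) [Group G] where
  /-- the normal part -/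
  U : Subgroup G
  /-- the torus -/
  H : Subgroup G
  /-- the reflection -/
  n : G
  conjU : ∀ h ∈ H, ∀ u ∈ U, h * u * h⁻¹ ∈ U
  inf_eq : ∀ g ∈ U, g ∈ H → g = 1
  n_inv : ∀ h ∈ H, n * h * n⁻¹ = h⁻¹
  n_sq : n * n = 1
  dec : ∀ g : G, (∃ u ∈ U, ∃ h ∈ H, g = u * h) ∨ ∃ u ∈ U, ∃ h ∈ H, ∃ v ∈ U, g = u * n * h * v
  ne_cell : ∀ u ∈ U, ∀ h ∈ H, ∀ v ∈ U, ∀ u' ∈ U, ∀ h' ∈ H, u * n * h * v ≠ u' * h'
  uniq : ∀ u ∈ U, ∀ h ∈ H, ∀ v ∈ U, ∀ u' ∈ U, ∀ h' ∈ H, ∀ v' ∈ U,
    u * n * h * v = u' * n * h' * v' → u = u' ∧ h = h' ∧ v = v'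

namespace SplitCell

variable {G : Type*} [Group G] (S : SplitCell G)

theorem uniq_borel {u u' h h' : G} (hu : u ∈ S.U) (hu' : u' ∈ S.U) (hh : h ∈ S.H) (hh' : h' ∈ S.H)
    (e : u * h = u' * h') : u = u' ∧ h = h' := by
  have e' : u'⁻¹ * u = h' * h⁻¹ := by rw [eq_mul_inv_iff_mul_eq, mul_assoc, e, inv_mul_cancel_left]
  have := S.inf_eq _ (mul_mem (inv_mem hu') hu) (e' ▸ mul_mem hh' (inv_mem hh))
  rw [inv_mul_eq_one] at this
  subst this
  exact ⟨rfl, mul_left_cancel e⟩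

theorem n_inv' {h : G} (hh : h ∈ S.H) : h * S.n = S.n * h⁻¹ := by
  have := S.n_inv h⁻¹ (inv_mem hh)
  rw [mul_inv_eq_iff_eq_mul, inv_inv] at this
  exact this.symm

/-- The elements commuting with a torus element: their parts do, and those of the cell force `x² = 1`. -/
theorem commute_torus (hcomm : ∀ a ∈ S.H, ∀ b ∈ S.H, a * b = b * a) {x g : G} (hx : x ∈ S.H)
    (hg : g * x = x * g) :
    (∃ u ∈ S.U, ∃ h ∈ S.H, g = u * h ∧ u * x = x * u) ∨
      (x * x = 1 ∧ ∃ u ∈ S.U, ∃ h ∈ S.H, ∃ v ∈ S.U, g = u * S.n * h * v ∧ u * x = x * u ∧ v * x = x * v) := by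
  rcases S.dec g with ⟨u, hu, h, hh, rfl⟩ | ⟨u, hu, h, hh, v, hv, rfl⟩
  · left
    refine ⟨u, hu, h, hh, rfl, ?_⟩
    have e : x * u * x⁻¹ * (x * h * x⁻¹) = u * h := by
      rw [show x * u * x⁻¹ * (x * h * x⁻¹) = x * (u * h) * x⁻¹ by group, ← hg, mul_inv_cancel_right]
    rw [hcomm x hx h hh, mul_inv_cancel_right] at e
    have := (S.uniq_borel (S.conjU x hx u hu) hu hh hh e).1
    rw [mul_inv_eq_iff_eq_mul] at this
    exact this.symm
  · right
    have e : x * u * x⁻¹ * S.n * (x⁻¹ * h * x⁻¹) * (x * v * x⁻¹) = u * S.n * h * v := by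
      have e1 : x * S.n = S.n * x⁻¹ := S.n_inv' hx
      calc x * u * x⁻¹ * S.n * (x⁻¹ * h * x⁻¹) * (x * v * x⁻¹)
          = x * u * x⁻¹ * (S.n * x⁻¹) * h * v * x⁻¹ := by group
        _ = x * (u * S.n * h * v) * x⁻¹ := by rw [← e1]; group
        _ = u * S.n * h * v := by rw [← hg, mul_inv_cancel_right]
    obtain ⟨e1, e2, e3⟩ := S.uniq _ (S.conjU x hx u hu) _ (mul_mem (mul_mem (inv_mem hx) hh) (inv_mem hx)) _
      (S.conjU x hx v hv) u hu h hh v hv e
    rw [mul_inv_eq_iff_eq_mul] at e1 e3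
    refine ⟨?_, u, hu, h, hh, v, hv, rfl, e1.symm, e3.symm⟩
    rw [hcomm _ (inv_mem hx) h hh, mul_assoc, mul_eq_left, ← mul_inv_rev, inv_eq_one] at e2
    exact e2

/-- The centraliser of a nontrivial element of `U` lies in `UH`. -/
theorem commute_unipotent {y g : G} (hy : y ∈ S.U) (hy1 : y ≠ 1) (hg : g * y = y * g) :
    ∃ u ∈ S.U, ∃ h ∈ S.H, g = u * h := by
  rcases S.dec g with h | ⟨u, hu, h, hh, v, hv, rfl⟩
  · exact h
  · exfalso
    have e : y * u * S.n * h * v = u * S.n * h * (v * y) := by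
      rw [show y * u * S.n * h * v = y * (u * S.n * h * v) by group, ← hg]; group
    exact hy1 (mul_eq_right.1 (S.uniq _ (mul_mem hy hu) h hh v hv u hu h hh _ (mul_mem hv hy) e).1)

/-- An involution is conjugate to one of `H` or to one of `nH`. -/
theorem involution_cases (hodd : ∀ u ∈ S.U, Odd (orderOf u)) {y : G} (hy : y * y = 1) (hy1 : y ≠ 1) :
    (∃ g : G, ∃ h ∈ S.H, h * h = 1 ∧ h ≠ 1 ∧ g * y * g⁻¹ = h) ∨
      ∃ g : G, ∃ h ∈ S.H, g * y * g⁻¹ = S.n * h := by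
  rcases S.dec y with ⟨u, hu, h, hh, rfl⟩ | ⟨u, hu, h, hh, v, hv, rfl⟩
  · left
    have e : u * (h * u * h⁻¹) * (h * h) = 1 * 1 := by rw [mul_one, ← hy]; group
    obtain ⟨e1, e2⟩ := S.uniq_borel (mul_mem hu (S.conjU h hh u hu)) (one_mem _) (mul_mem hh hh) (one_mem _) e
    have hinv : h * u * h⁻¹ = u⁻¹ := eq_inv_of_mul_eq_one_right e1
    have h1 : h ≠ 1 := by
      rintro rfl
      have h2 : u ^ 2 = 1 := by simpa [pow_two] using hy
      have h3 := Nat.eq_one_of_dvd_coprimes (Nat.coprime_two_right.2 (hodd u hu)) dvd_rfl (orderOf_dvd_of_pow_eq_one h2)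
      exact hy1 (by simp [orderOf_eq_one_iff.1 h3])
    obtain ⟨k, hk⟩ := hodd u hu
    set w := u ^ (k + 1) with hw
    have hw2 : w * w = u := by
      rw [hw, ← pow_add, show k + 1 + (k + 1) = 2 * k + 1 + 1 by omega, pow_succ, ← hk, pow_orderOf_eq_one,
        one_mul]
    have hwh : h * w * h⁻¹ = w⁻¹ := by rw [hw, ← conj_pow, hinv, inv_pow]
    refine ⟨w⁻¹, h, hh, e2, h1, ?_⟩
    rw [inv_inv, ← hw2]
    calc w⁻¹ * (w * w * h) * w = w * (h * w * h⁻¹) * h := by group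
      _ = h := by rw [hwh, mul_inv_cancel, one_mul]
  · right
    refine ⟨v, h, hh, ?_⟩
    set w := v * u with hwdef
    have hw : v * (u * S.n * h * v) * v⁻¹ = w * S.n * h := by rw [hwdef]; group
    rw [hw]
    have e0 : (w * S.n * h) * (w * S.n * h) = 1 := by
      rw [← hw, show v * (u * S.n * h * v) * v⁻¹ * (v * (u * S.n * h * v) * v⁻¹) =
        v * ((u * S.n * h * v) * (u * S.n * h * v)) * v⁻¹ by group, hy]
      group
    have e : w * S.n * h * w = 1 * S.n * h * 1 := by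
      have hnh : (S.n * h) * (S.n * h) = 1 := by
        calc (S.n * h) * (S.n * h) = S.n * (h * S.n) * h := by group
          _ = S.n * (S.n * h⁻¹) * h := by rw [S.n_inv' hh]
          _ = 1 := by rw [← mul_assoc, S.n_sq, one_mul, inv_mul_cancel]
      rw [one_mul, mul_one]
      refine mul_right_cancel (b := S.n * h) ?_
      rw [hnh, ← e0]
      group
    rw [(S.uniq w (mul_mem hv hu) h hh w (mul_mem hv hu) 1 (one_mem _) h hh 1 (one_mem _) e).1, one_mul]

end SplitCell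

end Cfsg.Agent.H47.Ree
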