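import Cfsg.Agent.H47.Ree.Spectrum

/-!
The cyclic tori of the small Ree group and their normalisers.
-/

set_option autoImplicit false

open Cfsg.Lie Cfsg.Agent.H46

namespace Cfsg.Agent.H47.Ree

open Cfsg.Agent.H48.Ree (Gr)

variable {K : Type*} [Field K] [Fintype K] {m : ℕ}

/-- The part of order `k` of an abelian subgroup of order `r k`. -/
theorem hall_part {G : Type*} [Group G] [Finite G] (C : Subgroup G) (hC : ∀ a ∈ C, ∀ b ∈ C, a * b = b * a)
    {r k : ℕ} (hrk : r.Coprime k) (hcard : Nat.card ↥C = r * k)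
    (hker : Nat.card {c : G // c ∈ C ∧ c ^ r = 1} = r) :
    ∃ A : Subgroup G, A ≤ C ∧ Nat.card ↥A = k ∧ ∀ c ∈ C, c ∈ A ↔ c ^ k = 1 := by
  letI : CommGroup ↥C :=
    { (inferInstance : Group ↥C) with mul_comm := fun a b => Subtype.ext (hC a a.2 b b.2) }
  set φ := (powMonoidHom r : ↥C →* ↥C)
  have h1 : Nat.card ↥φ.ker = r := by
    refine Eq.trans ?_ hker
    exact Nat.card_congr
      { toFun := fun c => ⟨c.1.1, c.1.2, congrArg Subtype.val (c.2 : c.1 ^ r = 1)⟩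
        invFun := fun c => ⟨⟨c.1, c.2.1⟩, (Subtype.ext c.2.2 : (⟨c.1, c.2.1⟩ : ↥C) ^ r = 1)⟩
        left_inv := fun c => rfl
        right_inv := fun c => rfl }
  have h2 : Nat.card ↥φ.range = k := by
    have h := Subgroup.card_eq_card_quotient_mul_card_subgroup φ.ker
    rw [Nat.card_congr (QuotientGroup.quotientKerEquivRange φ).toEquiv, h1, hcard, mul_comm r k] at h
    exact (Nat.eq_of_mul_eq_mul_right (h1 ▸ Nat.card_pos) h).symm
  refine ⟨φ.range.map C.subtype, Subgroup.map_subtype_le _,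
    (Subgroup.card_map_of_injective C.subtype_injective).trans h2, fun c hc => ⟨?_, fun h => ?_⟩⟩
  · rintro ⟨_, ⟨d, rfl⟩, rfl⟩
    have h3 : d ^ (r * k) = 1 := hcard ▸ pow_card_eq_one'
    show ((d ^ r : ↥C) : G) ^ k = 1
    rw [← SubmonoidClass.coe_pow, ← pow_mul, h3]; rfl
  · have hco : r.Coprime (orderOf c) := hrk.coprime_dvd_right (orderOf_dvd_of_pow_eq_one h)
    obtain ⟨j, hj⟩ := exists_pow_eq_self_of_coprime hco
    refine ⟨φ (⟨c, hc⟩ ^ j), ⟨_, rfl⟩, ?_⟩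
    show (((⟨c, hc⟩ : ↥C) ^ j) ^ r : ↥C).1 = c
    rw [SubmonoidClass.coe_pow, SubmonoidClass.coe_pow, ← pow_mul, mul_comm, pow_mul]
    exact hj

/-- The nontrivial subgroups of the part of order `k` all have the normaliser of the whole centraliser. -/
theorem normalizer_part {G : Type*} [Group G] [Finite G] {C A : Subgroup G} [IsCyclic ↥A] {k : ℕ} (hAC : A ≤ C)
    (hA : ∀ c ∈ C, c ∈ A ↔ c ^ k = 1) (hcen : ∀ y ∈ A, y ≠ 1 → Subgroup.centralizer ({y} : Set G) = C) :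
    ∀ A₀ : Subgroup G, A₀ ≤ A → A₀ ≠ ⊥ →
      Subgroup.normalizer (A₀ : Set G) = Subgroup.normalizer (C : Set G) := by
  intro A₀ hle hne
  have hmapC : ∀ g ∈ Subgroup.normalizer (C : Set G), A.map (MulAut.conj g).toMonoidHom = A := fun g hg => by
    refine Subgroup.eq_of_le_of_card_ge ?_ (Subgroup.card_map_of_injective (MulAut.conj g).injective).ge
    rintro _ ⟨a, ha, rfl⟩
    show g * a * g⁻¹ ∈ A
    rw [hA _ ((Subgroup.mem_normalizer_iff.1 hg a).1 (hAC ha)), conj_pow, (hA a (hAC ha)).1 ha, mul_one,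
      mul_inv_cancel]
  refine le_antisymm (fun g hg => ?_) fun g hg => ?_
  · obtain ⟨y, hy, hy1⟩ := (Subgroup.bot_or_exists_ne_one A₀).resolve_left hne
    have h1 := (Subgroup.mem_normalizer_iff.1 hg y).1 hy
    have e := map_centralizer_singleton g y
    rw [hcen y (hle hy) hy1, hcen _ (hle h1) fun e => hy1 (conj_eq_one_iff.1 e)] at e
    refine Subgroup.mem_normalizer_iff.2 fun c => ⟨fun hc => ?_, fun hc => ?_⟩
    · rw [← e]; exact ⟨c, hc, rfl⟩
    · rw [← e] at hc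
      obtain ⟨d, hd, hde⟩ := hc
      exact (MulAut.conj g).injective hde ▸ hd
  · have e : A₀.map (MulAut.conj g).toMonoidHom = A₀ :=
      eq_of_le_cyclic ((Subgroup.map_mono hle).trans (hmapC g hg).le) hle
        (Subgroup.card_map_of_injective (MulAut.conj g).injective)
    refine Subgroup.mem_normalizer_iff.2 fun c => ⟨fun hc => ?_, fun hc => ?_⟩
    · rw [← e]; exact ⟨c, hc, rfl⟩
    · rw [← e] at hc
      obtain ⟨d, hd, hde⟩ := hc
      exact (MulAut.conj g).injective hde ▸ hd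

/-- The four pairs of a toral order and the order of its normaliser. -/
def IsToral (m k n : ℕ) : Prop :=
  (k = (3 ^ (2 * m + 1) - 1) / 2 ∧ n = 2 * (3 ^ (2 * m + 1) - 1)) ∨
    (k = (3 ^ (2 * m + 1) + 1) / 4 ∧ n = 6 * (3 ^ (2 * m + 1) + 1)) ∨
    (k = qA m ∧ n = 6 * qA m) ∨ (k = qB m ∧ n = 6 * qB m)

theorem normalizer_H_eq (hK : Fintype.card K = 3 ^ (2 * m + 1)) {s : ↥(Gr K m)} (hs : s ∈ (cell hK).H)
    (hs2 : s * s ≠ 1) :
    Subgroup.normalizer ((cell (m := m) hK).H : Set ↥(Gr K m)) = normH hK := by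
  set S := cell (m := m) hK
  refine le_antisymm (fun g hg => conj_H_cases hK hs hs2 ((Subgroup.mem_normalizer_iff.1 hg s).1 hs)) fun g hg => ?_
  have hn : S.n ∈ Subgroup.normalizer (S.H : Set ↥(Gr K m)) := by
    have hninv : S.n⁻¹ = S.n := inv_eq_of_mul_eq_one_right S.n_sq
    refine Subgroup.mem_normalizer_iff.2 fun c => ⟨fun hc => S.n_inv c hc ▸ inv_mem hc, fun hc => ?_⟩
    have := S.n_inv _ hc
    rw [show S.n * (S.n * c * S.n⁻¹) * S.n⁻¹ = S.n * S.n * c * (S.n * S.n)⁻¹ by group, S.n_sq, inv_one, one_mul,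
      mul_one] at this
    rw [this]; exact inv_mem hc
  rcases hg with hg | hg
  · exact Subgroup.le_normalizer hg
  · have := mul_mem hn (Subgroup.le_normalizer hg)
    rwa [← mul_assoc, S.n_sq, one_mul] at this

/-- The cyclic torus of each of the four orders through an element of prime order. -/
theorem exists_toral (hm : 1 ≤ m) (hK : Fintype.card K = 3 ^ (2 * m + 1)) {k n : ℕ} (hkn : IsToral m k n)
    {x : ↥(Gr K m)} {ℓ : ℕ} (hℓ : ℓ.Prime) (hd : ℓ ∣ k) (ho : orderOf x = ℓ) :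
    ∃ A : Subgroup ↥(Gr K m), x ∈ A ∧ IsCyclic ↥A ∧ Nat.card ↥A = k ∧
      Subgroup.normalizer (A : Set ↥(Gr K m)) =
        Subgroup.normalizer ((Subgroup.centralizer ({x} : Set ↥(Gr K m))) : Set ↥(Gr K m)) ∧
      Nat.card ↥(Subgroup.normalizer (A : Set ↥(Gr K m))) = n ∧
      ∀ A₀ : Subgroup ↥(Gr K m), A₀ ≤ A → A₀ ≠ ⊥ →
        Subgroup.normalizer (A₀ : Set ↥(Gr K m)) = Subgroup.normalizer (A : Set ↥(Gr K m)) := by
  set C := Subgroup.centralizer ({x} : Set ↥(Gr K m)) with hC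
  have hxC : x ∈ C := Subgroup.mem_centralizer_singleton_iff.2 rfl
  have fin : ∀ A : Subgroup ↥(Gr K m), A ≤ C → IsCyclic ↥A → Nat.card ↥A = k → (∀ c ∈ C, c ∈ A ↔ c ^ k = 1) →
      (∀ y ∈ A, y ≠ 1 → Subgroup.centralizer ({y} : Set ↥(Gr K m)) = C) →
      Nat.card ↥(Subgroup.normalizer (C : Set ↥(Gr K m))) = n →
      ∃ A : Subgroup ↥(Gr K m), x ∈ A ∧ IsCyclic ↥A ∧ Nat.card ↥A = k ∧
      Subgroup.normalizer (A : Set ↥(Gr K m)) = Subgroup.normalizer (C : Set ↥(Gr K m)) ∧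
      Nat.card ↥(Subgroup.normalizer (A : Set ↥(Gr K m))) = n ∧
      ∀ A₀ : Subgroup ↥(Gr K m), A₀ ≤ A → A₀ ≠ ⊥ →
        Subgroup.normalizer (A₀ : Set ↥(Gr K m)) = Subgroup.normalizer (A : Set ↥(Gr K m)) := by
    intro A hAC hAcyc hAk hA hcen hN
    have hxA : x ∈ A := (hA x hxC).2 (orderOf_dvd_iff_pow_eq_one.1 (ho.symm ▸ hd))
    have hne : A ≠ ⊥ := fun e => by
      rw [e, Subgroup.mem_bot] at hxA
      rw [hxA, orderOf_one] at ho
      exact hℓ.one_lt.ne ho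
    have e := normalizer_part hAC hA hcen A le_rfl hne
    exact ⟨A, hxA, hAcyc, hAk, e, e ▸ hN, fun A₀ h h' => (normalizer_part hAC hA hcen A₀ h h').trans e.symm⟩
  obtain ⟨kk, kk', hk, hk', hq, hq', -, -⟩ := q_arith m
  obtain ⟨-, -, -, -, hq27⟩ := six_arith hm
  have hsq_of_odd : ∀ {j : ℕ}, Odd j → ∀ y : ↥(Gr K m), y ^ j = 1 → y ≠ 1 → y * y ≠ 1 := by
    intro j hj y hy hy1 e
    refine hy1 ?_
    obtain ⟨i, rfl⟩ := hj
    rwa [pow_succ, pow_mul, pow_two, e, one_pow, one_mul] at hy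
  rcases hkn with ⟨hk0, rfl⟩ | ⟨hk0, rfl⟩ | hsix
  · obtain rfl : k = kk' := by omega
    have hℓ2 : ℓ ≠ 2 := fun e => (Nat.not_even_iff_odd.2 hk') (even_iff_two_dvd.2 (e ▸ hd))
    have hd' : ℓ ∣ 3 ^ (2 * m + 1) - 1 := hq' ▸ hd.mul_left 2
    obtain ⟨hcyc, hcard⟩ := split_torus hK hℓ hℓ2 hd' ho
    letI : CommGroup ↥C := IsCyclic.commGroup
    have hker : Nat.card {c : ↥(Gr K m) // c ∈ C ∧ c ^ 2 = 1} = 2 := by
      have h := IsCyclic.card_powMonoidHom_ker (G := ↥C) 2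
      rw [hcard, hq', Nat.gcd_mul_right_left] at h
      refine Eq.trans ?_ h
      exact Nat.card_congr
        { toFun := fun c => ⟨⟨c.1, c.2.1⟩, (Subtype.ext c.2.2 : (⟨c.1, c.2.1⟩ : ↥C) ^ 2 = 1)⟩
          invFun := fun c => ⟨c.1.1, c.1.2, congrArg Subtype.val (c.2 : c.1 ^ 2 = 1)⟩
          left_inv := fun c => rfl
          right_inv := fun c => rfl }
    obtain ⟨A, hAC, hAk, hA⟩ := hall_part C
      (fun a ha b hb => congrArg Subtype.val (mul_comm (⟨a, ha⟩ : ↥C) ⟨b, hb⟩))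
      (Nat.coprime_two_left.2 hk') (hcard.trans hq') hker
    obtain ⟨g, hg⟩ := exists_conj_H hK hℓ hℓ2 hd' ho
    have hmapH : C.map (MulAut.conj g).toMonoidHom = (cell hK).H := by
      rw [map_centralizer_singleton, centralizer_H hK hg hℓ hℓ2 (by rw [orderOf_conj, ho])]
    refine fin A hAC ?_ hAk hA (fun y hy hy1 => ?_) ?_
    · exact isCyclic_of_injective (Subgroup.inclusion hAC) (Subgroup.inclusion_injective hAC)
    · have hgy : g * y * g⁻¹ ∈ (cell hK).H := hmapH ▸ ⟨y, hAC hy, rfl⟩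
      have hy2 := hsq_of_odd hk' y ((hA y (hAC hy)).1 hy) hy1
      have e := centralizer_H_elt hK hgy fun e => hy2 (conj_eq_one_iff.1
        (show g * (y * y) * g⁻¹ = 1 by rw [← e]; group))
      rw [← map_centralizer_singleton, ← hmapH] at e
      exact Subgroup.map_injective (MulAut.conj g).injective e
    · have hx2 : x * x ≠ 1 := fun e => by
        have := orderOf_dvd_of_pow_eq_one (x := x) (n := 2) (by rw [pow_two, e])
        rw [ho] at this
        exact hℓ2 ((Nat.prime_dvd_prime_iff_eq hℓ Nat.prime_two).1 this)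
      have hmap : Nat.card ↥((Subgroup.normalizer (C : Set ↥(Gr K m))).map (MulAut.conj g).toMonoidHom) =
          Nat.card ↥(Subgroup.normalizer (C : Set ↥(Gr K m))) :=
        Subgroup.card_map_of_injective (MulAut.conj g).injective
      rw [← hmap, Subgroup.map_normalizer_eq_of_bijective _ (MulAut.conj g).bijective, hmapH,
        normalizer_H_eq hK hg (fun e => hx2 (conj_eq_one_iff.1 (show g * (x * x) * g⁻¹ = 1 by rw [← e]; group))),
        card_normH hK]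
  · obtain rfl : k = kk := by omega
    have hℓ2 : ℓ ≠ 2 := fun e => (Nat.not_even_iff_odd.2 hk) (even_iff_two_dvd.2 (e ▸ hd))
    have hd' : ℓ ∣ 3 ^ (2 * m + 1) + 1 := hq ▸ hd.mul_left 4
    obtain ⟨hcard, hcomm, h4, M, hM, hMm⟩ := nonsplit_torus hK hℓ hℓ2 hd' ho
    have hker : Nat.card {c : ↥(Gr K m) // c ∈ C ∧ c ^ 4 = 1} = 4 := by
      refine (Nat.card_congr (Equiv.subtypeEquivRight fun c => and_congr_right fun hc =>
        ⟨fun h => ?_, fun h => ?_⟩)).trans (card_sq_eq_one C hcomm hk (hcard.trans hq) h4)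
      · rw [← pow_two]
        by_contra h2
        exact h4 c hc (orderOf_eq_prime_pow (p := 2) (n := 1) (by simpa using h2) (by simpa using h)
          (hp := ⟨Nat.prime_two⟩))
      · rw [show 4 = 2 * 2 from rfl, pow_mul, show c ^ 2 = 1 by rw [pow_two, h], one_pow]
    have hco : Nat.Coprime 4 k := (Nat.Coprime.pow_left 2 (Nat.coprime_two_left.2 hk) : Nat.Coprime (2 ^ 2) k)
    obtain ⟨A, hAC, hAk, hA⟩ := hall_part C hcomm hco (hcard.trans hq) hker
    have hAM : A ≤ M := fun c hc =>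
      hMm c (hAC hc) (Odd.of_dvd_nat hk (hAk ▸ Subgroup.orderOf_dvd_natCard _ hc))
    refine fin A hAC ?_ hAk hA (fun y hy hy1 => ?_) (card_normalizer_torus hK hℓ hℓ2 hd' ho)
    · haveI := hM
      exact isCyclic_of_injective (Subgroup.inclusion hAM) (Subgroup.inclusion_injective hAM)
    · exact centralizer_torus_elt hK hℓ hℓ2 hd' ho (Subgroup.mem_centralizer_singleton_iff.1 (hAC hy))
        (hsq_of_odd hk y ((hA y (hAC hy)).1 hy) hy1)
  · obtain ⟨hn, hnk⟩ : (k = qA m ∨ k = qB m) ∧ n = 6 * k := by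
      rcases hsix with ⟨rfl, rfl⟩ | ⟨rfl, rfl⟩
      · exact ⟨Or.inl rfl, rfl⟩
      · exact ⟨Or.inr rfl, rfl⟩
    have hP : ℓ ∣ qA m * qB m := by
      rcases hn with rfl | rfl
      · exact hd.mul_right _
      · exact hd.mul_left _
    obtain ⟨hcyc, hcard⟩ := card_centralizer_six hm hK hℓ ho hn hd
    refine fin C le_rfl hcyc hcard (fun c hc => ⟨fun _ => ?_, fun _ => hc⟩)
      (six_facts hm hK hℓ hP ho).2.2.2.2.1 ?_
    · exact hcard ▸ congrArg Subtype.val (pow_card_eq_one' (x := (⟨c, hc⟩ : ↥C)))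
    · rw [(six_torus hm hK hℓ hP ho).2.2, hcard, hnk]

theorem isToral_pos (hm : 1 ≤ m) {k n : ℕ} (hkn : IsToral m k n) : 1 < k ∧ Odd k := by
  obtain ⟨-, -, ha, hb, hq27⟩ := six_arith hm
  obtain ⟨kk, kk', hk, hk', hq, hq', -, -⟩ := q_arith m
  rcases hkn with ⟨rfl, -⟩ | ⟨rfl, -⟩ | ⟨rfl, -⟩ | ⟨rfl, -⟩
  · exact ⟨by omega, by rw [show (3 ^ (2 * m + 1) - 1) / 2 = kk' by omega]; exact hk'⟩
  · exact ⟨by omega, by rw [show (3 ^ (2 * m + 1) + 1) / 4 = kk by omega]; exact hk⟩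
  · exact ⟨by omega, (toral_coprime_six hm (d := qA m) (Or.inr (Or.inr (Or.inl dvd_rfl)))).1⟩
  · exact ⟨by omega, (toral_coprime_six hm (d := qB m) (Or.inr (Or.inr (Or.inr dvd_rfl)))).1⟩

theorem toral_dvd_card (hm : 1 ≤ m) (hK : Fintype.card K = 3 ^ (2 * m + 1)) {k n : ℕ} (hkn : IsToral m k n) :
    k ∣ Nat.card ↥(Gr K m) := by
  obtain ⟨kk, kk', -, -, hq, hq', -, -⟩ := q_arith m
  rw [card_R_factor hm hK]
  rcases hkn with ⟨rfl, -⟩ | ⟨rfl, -⟩ | ⟨rfl, -⟩ | ⟨rfl, -⟩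
  · exact ((Nat.div_dvd_of_dvd (Dvd.intro kk' hq'.symm)).mul_left _).mul_right _ |>.mul_right _
  · exact ((Nat.div_dvd_of_dvd (Dvd.intro kk hq.symm)).mul_left _).mul_right _
  · exact (dvd_mul_right _ _).mul_left _
  · exact (dvd_mul_left _ _).mul_left _

/-- The cyclic tori of the four orders. -/
theorem exists_toral_subgroup (hm : 1 ≤ m) (hK : Fintype.card K = 3 ^ (2 * m + 1)) {k n : ℕ} (hkn : IsToral m k n) :
    ∃ A : Subgroup ↥(Gr K m), IsCyclic ↥A ∧ Nat.card ↥A = k ∧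
      Nat.card ↥(Subgroup.normalizer (A : Set ↥(Gr K m))) = n ∧
      ∀ A₀ : Subgroup ↥(Gr K m), A₀ ≤ A → A₀ ≠ ⊥ →
        Subgroup.normalizer (A₀ : Set ↥(Gr K m)) = Subgroup.normalizer (A : Set ↥(Gr K m)) := by
  obtain ⟨ℓ, hℓ, hd⟩ := Nat.exists_prime_and_dvd (n := k) (isToral_pos hm hkn).1.ne'
  haveI := Fact.mk hℓ
  obtain ⟨x, hx⟩ := exists_prime_orderOf_dvd_card' ℓ (hd.trans (toral_dvd_card (K := K) hm hK hkn))
  obtain ⟨A, -, h1, h2, -, h3, h4⟩ := exists_toral hm hK hkn hℓ hd hx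
  exact ⟨A, h1, h2, h3, h4⟩

end Cfsg.Agent.H47.Ree
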