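import Cfsg.Agent.H47.Ree.TorusStatements
import Cfsg.Agent.H47.Ree.Counting
import Mathlib.FieldTheory.Finite.Basic

/-!
The normalisers of the tori of orders `q - 1` and `q + 1`, and the Klein four-groups.
-/

set_option autoImplicit false

open Cfsg.Lie Cfsg.Agent.H46
open scoped Matrix MatrixGroups

namespace Cfsg.Agent.H47.Ree

open Cfsg.Agent.H48.Ree (Gr)

variable {K : Type*} [Field K] [Fintype K] {m : ℕ}

/-- A prime divisor of the order of an element gives a power of that order. -/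
theorem exists_pow_prime {G : Type*} [Group G] [Finite G] (z : G) {p : ℕ} (hpd : p ∣ orderOf z) :
    orderOf (z ^ (orderOf z / p)) = p :=
  orderOf_pow_orderOf_div (orderOf_pos z).ne' hpd

/-- An odd prime divides the order of an element unless it is a two-element. -/
theorem exists_odd_prime {G : Type*} [Group G] [Finite G] {z : G} (h2 : z * z ≠ 1) (h4 : 4 ∣ orderOf z → False) :
    ∃ p : ℕ, p.Prime ∧ p ≠ 2 ∧ p ∣ orderOf z := by
  by_contra hcon
  simp only [not_exists, not_and] at hcon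
  have h1 : ∀ n : ℕ, n ∣ orderOf z → ¬ 4 ∣ n → (∀ p : ℕ, p.Prime → p ∣ n → p = 2) → n ∣ 2 := by
    intro n _ hn4 hp
    rcases eq_or_ne n 0 with rfl | hn0
    · exact absurd (dvd_zero 4) hn4
    · have e : n = 2 ^ n.primeFactorsList.length :=
        Nat.eq_prime_pow_of_unique_prime_dvd hn0 fun {p} hp' hd => hp p hp' hd
      generalize n.primeFactorsList.length = j at e
      rcases j with _ | _ | j
      · simp [e]
      · simp [e]
      · exact absurd ⟨2 ^ j, by rw [e]; ring⟩ hn4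
  have := h1 _ dvd_rfl h4 fun p hp hd => by
    by_contra hne
    exact hcon p hp hne hd
  exact h2 (by rw [← pow_two]; exact orderOf_dvd_iff_pow_eq_one.1 this)

/-- Two elements with commutative centralisers of one finite order, one centralising the other. -/
theorem centralizer_eq_of_commute {G : Type*} [Group G] [Finite G] {x y : G}
    (hc : ∀ a, a * x = x * a → ∀ b, b * x = x * b → a * b = b * a) (hxy : y * x = x * y)
    (hcard : Nat.card ↥(Subgroup.centralizer ({y} : Set G)) ≤ Nat.card ↥(Subgroup.centralizer ({x} : Set G))) :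
    Subgroup.centralizer ({y} : Set G) = Subgroup.centralizer {x} := by
  refine (Subgroup.eq_of_le_of_card_ge (fun c hcx => ?_) hcard).symm
  rw [Subgroup.mem_centralizer_singleton_iff] at hcx ⊢
  exact hc c hcx y hxy

/-- For an element of the torus of order `q + 1` that does not square to `1`, the centraliser is that torus. -/
theorem centralizer_torus_elt (hK : Fintype.card K = 3 ^ (2 * m + 1)) {x a : ↥(Gr K m)} {ℓ : ℕ} (hℓ : ℓ.Prime)
    (hℓ2 : ℓ ≠ 2) (hd : ℓ ∣ 3 ^ (2 * m + 1) + 1) (ho : orderOf x = ℓ) (ha : a * x = x * a) (ha2 : a * a ≠ 1) :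
    Subgroup.centralizer ({a} : Set ↥(Gr K m)) = Subgroup.centralizer {x} := by
  obtain ⟨hcard, hcomm, h4, -⟩ := nonsplit_torus hK hℓ hℓ2 hd ho
  have hmem : ∀ c, c * x = x * c → c ∈ Subgroup.centralizer ({x} : Set ↥(Gr K m)) := fun c hc =>
    Subgroup.mem_centralizer_singleton_iff.2 hc
  obtain ⟨p, hp, hp2, hpd⟩ := exists_odd_prime ha2 fun h => h4 _ (pow_mem (hmem a ha) _) (exists_pow_prime a h)
  have ho' := exists_pow_prime a hpd
  have hdv : p ∣ 3 ^ (2 * m + 1) + 1 := by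
    rw [← hcard]; exact hpd.trans (Subgroup.orderOf_dvd_natCard _ (hmem a ha))
  have hw : a ^ (orderOf a / p) * x = x * a ^ (orderOf a / p) := (show Commute a x from ha).pow_left _
  have e := centralizer_eq_of_commute (fun c hc b hb => hcomm c (hmem c hc) b (hmem b hb)) hw
    (by rw [(nonsplit_torus hK hp hp2 hdv ho').1, hcard])
  refine le_antisymm (fun c hc => ?_) fun c hc => ?_
  · rw [← e, Subgroup.mem_centralizer_singleton_iff]
    exact (show Commute c a from Subgroup.mem_centralizer_singleton_iff.1 hc).pow_right _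
  · exact Subgroup.mem_centralizer_singleton_iff.2 (hcomm c hc a (hmem a ha))

/-- The centraliser data inside `SL₂` of an element of odd order of the image. -/
theorem exists_torus_lift (hK : Fintype.card K = 3 ^ (2 * m + 1)) {φ : Matrix.SpecialLinearGroup (Fin 2) K →* ↥(Gr K m)}
    (hker : ∀ g, φ g = 1 ↔ g.1 = 1 ∨ g.1 = -1) {g₀ : Matrix.SpecialLinearGroup (Fin 2) K} {ℓ : ℕ} (hℓ : ℓ.Prime)
    (hℓ2 : ℓ ≠ 2) (hd : ℓ ∣ 3 ^ (2 * m + 1) + 1) (ho : orderOf (φ g₀) = ℓ) :
    ∃ T : Subgroup (Matrix.SpecialLinearGroup (Fin 2) K), Nat.card ↥T = 3 ^ (2 * m + 1) + 1 ∧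
      Nat.card ↥(Subgroup.normalizer (T : Set (Matrix.SpecialLinearGroup (Fin 2) K))) = 2 * (3 ^ (2 * m + 1) + 1) ∧
      ∀ c, φ c * φ g₀ = φ g₀ * φ c ↔ c ∈ T := by
  classical
  haveI := (H48.Ree.field_data hK).1
  haveI := Fact.mk hℓ
  have hodd : Odd (Fintype.card K) := by rw [hK]; exact Odd.pow (by decide)
  obtain ⟨T', -, hT', -, hcen, -, hnorm, -, -⟩ := Cfsg.Agent.S2429.result (F := K) hodd
  rw [hK] at hT' hnorm
  have hneg : ∀ z c : Matrix.SpecialLinearGroup (Fin 2) K, z.1 = -1 → z * c = c * z := fun z c hz =>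
    Subtype.ext (show z.1 * c.1 = c.1 * z.1 by rw [hz]; simp)
  have hsq : ∀ z : Matrix.SpecialLinearGroup (Fin 2) K, φ z = 1 → z * z = 1 := fun z hz => Subtype.ext (by
    show z.1 * z.1 = 1
    rcases (hker z).1 hz with h | h <;> simp [h])
  have hcentral : ∀ z c, φ z = 1 → z * c = c * z := fun z c hz => by
    rcases (hker z).1 hz with h | h
    · rw [show z = 1 from Subtype.ext h, one_mul, mul_one]
    · exact hneg z c h
  -- a lift of order `ℓ`
  set g := g₀ ^ (ℓ + 1)
  have hge : φ g = φ g₀ := by rw [map_pow, pow_succ, ← ho, pow_orderOf_eq_one, one_mul]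
  have hgo : orderOf g = ℓ := by
    refine orderOf_eq_prime ?_ fun h => ?_
    · obtain ⟨i, hi⟩ := hℓ.odd_of_ne_two hℓ2
      have h1 : φ (g₀ ^ ℓ) = 1 := by rw [map_pow, ← ho, pow_orderOf_eq_one]
      rw [← pow_mul, mul_comm, pow_mul, show ℓ + 1 = 2 * (i + 1) by omega, pow_mul, pow_two, hsq _ h1, one_pow]
    · rw [h, map_one] at hge
      rw [← hge, orderOf_one] at ho
      exact hℓ.one_lt.ne ho
  have hidx : ¬ ℓ ∣ T'.index := by
    intro h
    have e := T'.card_mul_index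
    rw [hT', card_sl_two, hK] at e
    have h1 : 1 ≤ 3 ^ (2 * m + 1) := Nat.one_le_pow _ _ (by norm_num)
    generalize 3 ^ (2 * m + 1) = q at h e hd h1
    have hi : T'.index = q * (q - 1) := Nat.eq_of_mul_eq_mul_left (show 0 < q + 1 by omega) (e.trans (by
      zify [h1, Nat.one_le_pow 2 q h1]; ring))
    rw [hi] at h
    rcases hℓ.dvd_mul.1 h with h' | h'
    · exact hℓ.one_lt.ne' (Nat.dvd_one.1 ((Nat.dvd_add_right h').1 hd))
    · have := Nat.dvd_sub hd h'
      rw [show q + 1 - (q - 1) = 2 by omega] at this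
      exact hℓ2 ((Nat.prime_dvd_prime_iff_eq hℓ Nat.prime_two).1 this)
  obtain ⟨h, hh⟩ := exists_conj_mem hℓ hidx hgo
  have hne : ∀ z : Matrix.SpecialLinearGroup (Fin 2) K, z * z = 1 → h * g * h⁻¹ ≠ z := fun z hz e => by
    have := orderOf_dvd_of_pow_eq_one (x := h * g * h⁻¹) (n := 2) (by rw [e, pow_two, hz])
    rw [orderOf_conj, hgo] at this
    exact hℓ2 ((Nat.prime_dvd_prime_iff_eq hℓ Nat.prime_two).1 this)
  have hC : Subgroup.centralizer ({h * g * h⁻¹} : Set (Matrix.SpecialLinearGroup (Fin 2) K)) = T' :=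
    hcen _ hh (fun e => hne _ (one_mul 1) (Subtype.ext e))
      (fun e => hne _ (Subtype.ext (show (h * g * h⁻¹).1 * (h * g * h⁻¹).1 = 1 by simp [e])) rfl)
  have hmap : T'.map (MulAut.conj h⁻¹).toMonoidHom = Subgroup.centralizer ({g} : Set _) := by
    rw [← hC, map_centralizer_singleton]; congr 1; simp [mul_assoc]
  refine ⟨Subgroup.centralizer ({g} : Set _), ?_, ?_, fun c => ⟨fun hc => ?_, fun hc => ?_⟩⟩
  · rw [← hmap, Subgroup.card_map_of_injective (MulAut.conj h⁻¹).injective, hT']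
  · rw [← hmap, ← Subgroup.map_normalizer_eq_of_bijective _ (MulAut.conj h⁻¹).bijective,
      Subgroup.card_map_of_injective (MulAut.conj h⁻¹).injective, hnorm]
  · rw [← hge] at hc
    rw [Subgroup.mem_centralizer_singleton_iff]
    set z := (g * c)⁻¹ * (c * g) with hzdef
    have hz : φ z = 1 := by rw [hzdef, map_mul, map_inv, map_mul, map_mul, hc, inv_mul_cancel]
    have e : c * g = g * c * z := (mul_inv_cancel_left _ _).symm
    have e3 : c * g * c⁻¹ = g * z := by rw [e, mul_assoc g c z, ← hcentral z c hz]; group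
    have e4 : (c * g * c⁻¹) ^ ℓ = 1 := by rw [conj_pow, ← hgo, pow_orderOf_eq_one, mul_one, mul_inv_cancel]
    obtain ⟨i, hi⟩ := hℓ.odd_of_ne_two hℓ2
    rw [e3, (show Commute g z from (hcentral z g hz).symm).mul_pow, ← hgo, pow_orderOf_eq_one, one_mul, hgo, hi,
      pow_succ, pow_mul, pow_two, hsq z hz, one_pow, one_mul] at e4
    rw [e, e4, mul_one]
  · rw [Subgroup.mem_centralizer_singleton_iff] at hc
    rw [← hge, ← map_mul, hc, map_mul]

/-- The part of the normaliser of the torus of order `q + 1` that centralises one of its involutions. -/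
theorem card_normalizer_inf (hK : Fintype.card K = 3 ^ (2 * m + 1)) {x : ↥(Gr K m)} {ℓ : ℕ} (hℓ : ℓ.Prime)
    (hℓ2 : ℓ ≠ 2) (hd : ℓ ∣ 3 ^ (2 * m + 1) + 1) (ho : orderOf x = ℓ) (hxt : x * tR hK = tR hK * x) :
    Nat.card ↥(Subgroup.centralizer ({tR hK} : Set ↥(Gr K m)) ⊓
      Subgroup.normalizer ((Subgroup.centralizer ({x} : Set ↥(Gr K m))) : Set ↥(Gr K m))) =
        2 * (3 ^ (2 * m + 1) + 1) := by
  classical
  obtain ⟨φ, hker, -, htL, hc, htC, hoddL⟩ := exists_split_centralizer (m := m) hK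
  obtain ⟨g₀, rfl⟩ := hoddL x hxt (ho ▸ hℓ.odd_of_ne_two hℓ2)
  obtain ⟨T, hT, hN, hmemT⟩ := exists_torus_lift hK hker hℓ hℓ2 hd ho
  obtain ⟨-, hcomm, -, -⟩ := nonsplit_torus hK hℓ hℓ2 hd ho
  set t := tR hK
  set A := Subgroup.centralizer ({φ g₀} : Set ↥(Gr K m))
  set M := Subgroup.centralizer ({t} : Set ↥(Gr K m)) ⊓ Subgroup.normalizer (A : Set ↥(Gr K m))
  have htA : t ∈ A := Subgroup.mem_centralizer_singleton_iff.2 hxt.symm
  have htM : t ∈ M := ⟨Subgroup.mem_centralizer_singleton_iff.2 rfl, Subgroup.le_normalizer htA⟩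
  set N := (Subgroup.normalizer (T : Set (Matrix.SpecialLinearGroup (Fin 2) K))).map φ
  have hNM : N ≤ M := by
    rintro _ ⟨g, hg, rfl⟩
    refine ⟨Subgroup.mem_centralizer_singleton_iff.2 (hc g), Subgroup.mem_normalizer_iff.2 fun a => ?_⟩
    have hy : g * g₀ * g⁻¹ ∈ T :=
      (Subgroup.mem_normalizer_iff.1 hg g₀).1 ((hmemT g₀).1 rfl)
    have hyA : φ (g * g₀ * g⁻¹) * φ g₀ = φ g₀ * φ (g * g₀ * g⁻¹) := (hmemT _).2 hy
    have hsq : φ (g * g₀ * g⁻¹) * φ (g * g₀ * g⁻¹) ≠ 1 := by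
      intro e
      have := orderOf_dvd_of_pow_eq_one (x := φ (g * g₀ * g⁻¹)) (n := 2) (by rw [pow_two, e])
      rw [map_mul, map_mul, map_inv, orderOf_conj, ho] at this
      exact hℓ2 ((Nat.prime_dvd_prime_iff_eq hℓ Nat.prime_two).1 this)
    have e := centralizer_torus_elt hK hℓ hℓ2 hd ho hyA hsq
    rw [map_mul, map_mul, map_inv, ← map_centralizer_singleton] at e
    change a ∈ A ↔ φ g * a * (φ g)⁻¹ ∈ A
    conv_rhs => rw [← (show _ = A from e)]
    exact ⟨fun ha => ⟨a, ha, rfl⟩, fun ⟨b, hb, hbe⟩ => (MulAut.conj (φ g)).injective hbe ▸ hb⟩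
  have hin : ∀ a ∈ M, a ∈ φ.range → a ∈ N := by
    rintro _ ⟨-, hnorm⟩ ⟨g, rfl⟩
    refine ⟨g, ?_, rfl⟩
    have key : ∀ c ∈ T, g * c * g⁻¹ ∈ T := fun c hcT => by
      refine (hmemT _).1 ?_
      rw [map_mul, map_mul, map_inv]
      exact Subgroup.mem_centralizer_singleton_iff.1
        ((Subgroup.mem_normalizer_iff.1 hnorm (φ c)).1 (Subgroup.mem_centralizer_singleton_iff.2 ((hmemT c).2 hcT)))
    refine Subgroup.mem_normalizer_iff.2 fun c => ⟨key c, fun hcT => ?_⟩
    have h1 : T.map (MulAut.conj g).toMonoidHom = T := Subgroup.eq_of_le_of_card_ge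
      (Subgroup.map_le_iff_le_comap.2 key) (Subgroup.card_map_of_injective (MulAut.conj g).injective).ge
    rw [← h1] at hcT
    obtain ⟨b, hb, hbe⟩ := hcT
    exact (MulAut.conj g).injective hbe ▸ hb
  have hNrange : ∀ a ∈ N, a ∈ φ.range := fun a ⟨g, _, hg⟩ => ⟨g, hg⟩
  have hNcard : 2 * Nat.card ↥N = 2 * (3 ^ (2 * m + 1) + 1) := by
    rw [← hN]
    set f := φ.comp (Subgroup.normalizer (T : Set (Matrix.SpecialLinearGroup (Fin 2) K))).subtype
    haveI := (H48.Ree.field_data hK).1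
    let z : Matrix.SpecialLinearGroup (Fin 2) K := slW * slW
    have hz : z.1 = -1 := by
      ext i j; fin_cases i <;> fin_cases j <;>
        simp [z, sl_mul_val, coe_slW, Matrix.mul_apply, Fin.sum_univ_two]
    have hz1 : z ≠ 1 := fun h => by
      have := congrArg (fun y : Matrix.SpecialLinearGroup (Fin 2) K => y.1 0 0) h
      simp only [hz, Matrix.neg_apply, Matrix.one_apply_eq, Matrix.SpecialLinearGroup.coe_one] at this
      exact one_ne_zero (α := K) (by linear_combination (H48.Ree.three0 (F := K)) + this)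
    have hzN : z ∈ Subgroup.normalizer (T : Set (Matrix.SpecialLinearGroup (Fin 2) K)) := by
      refine Subgroup.mem_normalizer_iff.2 fun c => ?_
      rw [show z * c = c * z from Subtype.ext (show z.1 * c.1 = c.1 * z.1 by rw [hz]; simp), mul_inv_cancel_right]
    have hk : Nat.card ↥f.ker = 2 := by
      rw [Nat.card_eq_two_iff]
      refine ⟨1, ⟨⟨z, hzN⟩, (hker z).2 (Or.inr hz)⟩,
        fun h => hz1 (congrArg (fun w : ↥f.ker => w.1.1) h).symm, ?_⟩
      ext ⟨⟨c, hcN⟩, hc'⟩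
      simp only [Set.mem_insert_iff, Set.mem_singleton_iff, Set.mem_univ, iff_true, Subtype.ext_iff]
      rcases (hker c).1 hc' with h | h
      · exact Or.inl (Subtype.ext h)
      · exact Or.inr (Subtype.ext (h.trans hz.symm))
    have h := Subgroup.card_eq_card_quotient_mul_card_subgroup f.ker
    rw [Nat.card_congr (QuotientGroup.quotientKerEquivRange f).toEquiv, hk] at h
    rw [h, mul_comm, show N = f.range by rw [MonoidHom.range_comp, Subgroup.range_subtype]]
  rw [← hNcard, two_mul, ← Nat.card_sum]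
  refine (Nat.card_eq_of_bijective (Sum.elim (fun a => ⟨a.1, hNM a.2⟩) fun a => ⟨t * a.1, mul_mem htM (hNM a.2)⟩)
    ⟨?_, ?_⟩).symm
  · rintro (⟨a, ha⟩ | ⟨a, ha⟩) (⟨b, hb⟩ | ⟨b, hb⟩) e
    · obtain rfl : a = b := congrArg Subtype.val e; rfl
    · exfalso
      have e' : a = t * b := congrArg Subtype.val e
      exact htL (hNrange t (by rw [← mul_inv_cancel_right t b, ← e']; exact mul_mem ha (inv_mem hb)))
    · exfalso
      have e' : t * a = b := congrArg Subtype.val e
      exact htL (hNrange t (by rw [← mul_inv_cancel_right t a, e']; exact mul_mem hb (inv_mem ha)))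
    · obtain rfl : a = b := mul_left_cancel (congrArg Subtype.val e); rfl
  · rintro ⟨a, ha⟩
    rcases htC a (Subgroup.mem_centralizer_singleton_iff.1 ha.1) with h | h
    · exact ⟨Sum.inl ⟨a, hin a ha h⟩, rfl⟩
    · refine ⟨Sum.inr ⟨t * a, hin _ (mul_mem htM ha) h⟩, Subtype.ext ?_⟩
      show t * (t * a) = a
      rw [← mul_assoc, tR_sq, one_mul]

/-- The involutions of the torus of order `q + 1`, with the identity, number four. -/
theorem card_sq_eq_one {G : Type*} [Group G] [Finite G] (A : Subgroup G) (hA : ∀ a ∈ A, ∀ b ∈ A, a * b = b * a)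
    {k : ℕ} (hk : Odd k) (hcard : Nat.card ↥A = 4 * k) (h4 : ∀ a ∈ A, orderOf a ≠ 4) :
    Nat.card {a : G // a ∈ A ∧ a * a = 1} = 4 := by
  haveI : Fact (Nat.Prime 2) := ⟨Nat.prime_two⟩
  letI : CommGroup ↥A :=
    { (inferInstance : Group ↥A) with mul_comm := fun a b => Subtype.ext (hA a a.2 b b.2) }
  set Q := (powMonoidHom 2 : ↥A →* ↥A).ker
  have e : {a : G // a ∈ A ∧ a * a = 1} ≃ ↥Q :=
    { toFun := fun a => ⟨⟨a.1, a.2.1⟩, by
        rw [MonoidHom.mem_ker, powMonoidHom_apply, pow_two]; exact Subtype.ext a.2.2⟩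
      invFun := fun a => ⟨a.1.1, a.1.2, by
        have := a.2
        rw [MonoidHom.mem_ker, powMonoidHom_apply, pow_two] at this
        exact congrArg Subtype.val this⟩
      left_inv := fun a => rfl
      right_inv := fun a => rfl }
  rw [Nat.card_congr e]
  let P : Sylow 2 ↥A := default
  have hP : Nat.card ↥(P : Subgroup ↥A) = 4 := by
    rw [P.card_eq_multiplicity, hcard]
    have h2 : (4 * k).factorization 2 = 2 := by
      rw [show 4 = 2 ^ 2 from rfl, Nat.factorization_mul (by norm_num) hk.pos.ne', Nat.factorization_pow]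
      simp [Nat.prime_two.factorization_self,
        Nat.factorization_eq_zero_of_not_dvd (fun h => (Nat.not_even_iff_odd.2 hk) (even_iff_two_dvd.2 h))]
    rw [h2]; norm_num
  have hQP : Q ≤ P := by
    haveI : (P : Subgroup ↥A).Normal := inferInstance
    intro a ha
    obtain ⟨R, hR⟩ := (show IsPGroup 2 ↥Q from fun b => ⟨1, Subtype.ext b.2⟩).exists_le_sylow
    haveI := Sylow.unique_of_normal P inferInstance
    rw [Subsingleton.elim P R]
    exact hR ha
  refine (congrArg (fun S : Subgroup ↥A => Nat.card ↥S) (le_antisymm hQP fun a ha => ?_)).trans hP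
  rw [MonoidHom.mem_ker, powMonoidHom_apply]
  have h1 : orderOf a ∣ 4 := hP ▸ Subgroup.orderOf_dvd_natCard _ ha
  have h2 : orderOf a ≠ 4 := fun h => h4 a a.2 (by rw [Subgroup.orderOf_coe, h])
  refine orderOf_dvd_iff_pow_eq_one.1 ?_
  have := Nat.le_of_dvd (by norm_num) h1
  interval_cases orderOf a <;> omega

/-- The normaliser of the torus of order `q + 1`. -/
theorem card_normalizer_torus (hK : Fintype.card K = 3 ^ (2 * m + 1)) {x : ↥(Gr K m)} {ℓ : ℕ} (hℓ : ℓ.Prime)
    (hℓ2 : ℓ ≠ 2) (hd : ℓ ∣ 3 ^ (2 * m + 1) + 1) (ho : orderOf x = ℓ) :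
    Nat.card ↥(Subgroup.normalizer ((Subgroup.centralizer ({x} : Set ↥(Gr K m))) : Set ↥(Gr K m))) =
      6 * (3 ^ (2 * m + 1) + 1) := by
  classical
  obtain ⟨hcard, hcomm, h4, -⟩ := nonsplit_torus hK hℓ hℓ2 hd ho
  obtain ⟨k, -, hk, -, hq, -, -, -⟩ := q_arith m
  obtain ⟨T, hTc, -, -, -, hTC, hconj⟩ := exists_torus (m := m) hK
  set A := Subgroup.centralizer ({x} : Set ↥(Gr K m)) with hA
  set N := Subgroup.normalizer (A : Set ↥(Gr K m))
  set t := tR hK
  -- moving an involution of the torus to `t`, and the torus onto that of `T`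
  have move : ∀ a ∈ A, orderOf a = 2 → ∃ g, g * a * g⁻¹ = t ∧ g * x * g⁻¹ ∈ T ∧ g * x * g⁻¹ * t = t * (g * x * g⁻¹) := by
    intro a ha ha2
    obtain ⟨g, hg⟩ := involution_conj hK ha2
    have hxt : g * x * g⁻¹ * t = t * (g * x * g⁻¹) := by
      rw [Subgroup.mem_centralizer_singleton_iff] at ha
      rw [show t = g * a * g⁻¹ from hg.symm]
      calc g * x * g⁻¹ * (g * a * g⁻¹) = g * (x * a) * g⁻¹ := by group
        _ = g * a * g⁻¹ * (g * x * g⁻¹) := by rw [← ha]; group
    obtain ⟨h, hht, hhT⟩ := hconj _ hxt ℓ hℓ hℓ2 (by rw [orderOf_conj, ho]) hd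
    refine ⟨h * g, ?_, ?_, ?_⟩
    · rw [show h * g * a * (h * g)⁻¹ = h * (g * a * g⁻¹) * h⁻¹ by group, hg, hht, mul_inv_cancel_right]
    · rw [show h * g * x * (h * g)⁻¹ = h * (g * x * g⁻¹) * h⁻¹ by group]; exact hhT
    · rw [show h * g * x * (h * g)⁻¹ = h * (g * x * g⁻¹) * h⁻¹ by group]
      have hinv : h⁻¹ * t = t * h⁻¹ := (show Commute h t from hht).inv_left
      calc h * (g * x * g⁻¹) * h⁻¹ * t = h * (g * x * g⁻¹) * (t * h⁻¹) := by rw [← hinv]; group
        _ = h * (g * x * g⁻¹ * t) * h⁻¹ := by group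
        _ = t * (h * (g * x * g⁻¹) * h⁻¹) := by rw [hxt, ← mul_assoc h t, hht]; group
  -- the involutions of the torus are permuted transitively
  obtain ⟨a₀, ha₀, ha₀2⟩ : ∃ a ∈ A, orderOf a = 2 := by
    haveI : Fact (Nat.Prime 2) := ⟨Nat.prime_two⟩
    obtain ⟨a, ha⟩ := exists_prime_orderOf_dvd_card' (G := ↥A) 2 (by rw [hcard]; omega)
    exact ⟨a, a.2, by rw [Subgroup.orderOf_coe, ha]⟩
  let a' : ↥N := ⟨a₀, Subgroup.le_normalizer ha₀⟩
  have hTI : ∀ g : ↥N, ∀ s ∈ ({a'} : Set ↥N), g * s * g⁻¹ ∈ ({a'} : Set ↥N) → g ∈ Subgroup.centralizer {a'} := by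
    rintro g s rfl h
    rw [Set.mem_singleton_iff, mul_inv_eq_iff_eq_mul] at h
    exact Subgroup.mem_centralizer_singleton_iff.2 h
  have hsw := card_sweep (Subgroup.centralizer ({a'} : Set ↥N)) {a'} (by
    rintro n hn s rfl
    rw [Subgroup.mem_centralizer_singleton_iff] at hn
    rw [Set.mem_singleton_iff, hn, mul_inv_cancel_right]) hTI
  rw [Nat.card_coe_set_eq {a'}, Set.ncard_singleton, one_mul] at hsw
  -- the orbit
  have horbit : Nat.card ↥(sweep ({a'} : Set ↥N)) = 3 := by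
    have hset : Nat.card {a : ↥(Gr K m) // a ∈ A ∧ a * a = 1} = 4 := card_sq_eq_one A hcomm hk (hcard.trans hq) h4
    let e : Option ↥(sweep ({a'} : Set ↥N)) → {a : ↥(Gr K m) // a ∈ A ∧ a * a = 1} := fun o =>
      o.elim ⟨1, one_mem A, one_mul 1⟩ fun z => ⟨(z.1 : ↥(Gr K m)), by
        obtain ⟨g, hg⟩ := z.2
        rw [Set.mem_singleton_iff, Subtype.ext_iff] at hg
        refine ⟨(Subgroup.mem_normalizer_iff.1 g.2 _).2 ?_, ?_⟩
        · change (g : ↥(Gr K m)) * z.1 * (g : ↥(Gr K m))⁻¹ ∈ A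
          have hg' : (g : ↥(Gr K m)) * z.1 * (g : ↥(Gr K m))⁻¹ = a₀ := hg
          rw [hg']; exact ha₀
        · have hg' : (g : ↥(Gr K m)) * z.1 * (g : ↥(Gr K m))⁻¹ = a₀ := hg
          have h1 := orderOf_conj (g : ↥(Gr K m)) (z.1 : ↥(Gr K m))
          rw [hg', ha₀2] at h1
          rw [← pow_two, h1]; exact pow_orderOf_eq_one _⟩
    have he : Function.Bijective e := by
      have hne : ∀ z : ↥(sweep ({a'} : Set ↥N)), ((z.1 : ↥N) : ↥(Gr K m)) ≠ 1 := by
        rintro ⟨z, g, hg⟩ hz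
        rw [show z = 1 from Subtype.ext hz, mul_one, mul_inv_cancel, Set.mem_singleton_iff] at hg
        have h5 : a₀ = 1 := (congrArg Subtype.val hg).symm
        rw [h5, orderOf_one] at ha₀2
        omega
      refine ⟨?_, fun ⟨b, hb, hb2⟩ => ?_⟩
      · rintro (_ | z) (_ | z') he
        · rfl
        · exact absurd (congrArg Subtype.val he).symm (hne z')
        · exact absurd (congrArg Subtype.val he) (hne z)
        · exact congrArg some (Subtype.ext (Subtype.ext (congrArg Subtype.val he :)))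
      · by_cases hb1 : b = 1
        · exact ⟨none, Subtype.ext hb1.symm⟩
        have hbo : orderOf b = 2 := orderOf_eq_prime (by rw [pow_two, hb2]) hb1
        obtain ⟨g, hga, hgT, hgt⟩ := move a₀ ha₀ ha₀2
        obtain ⟨g', hgb, hgT', hgt'⟩ := move b hb hbo
        have hTcomm : ∀ u ∈ T, ∀ v ∈ T, u * v = v * u := fun u hu v hv => by
          letI : CommGroup ↥T := IsCyclic.commGroup
          exact congrArg Subtype.val (mul_comm (⟨u, hu⟩ : ↥T) ⟨v, hv⟩)
        obtain ⟨hc1, hcomm1, -, -⟩ := nonsplit_torus hK hℓ hℓ2 hd (x := g * x * g⁻¹) (by rw [orderOf_conj, ho])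
        have hC : Subgroup.centralizer ({g' * x * g'⁻¹} : Set ↥(Gr K m)) = Subgroup.centralizer {g * x * g⁻¹} :=
          centralizer_eq_of_commute
            (fun c hc d hd => hcomm1 c (Subgroup.mem_centralizer_singleton_iff.2 hc) d
              (Subgroup.mem_centralizer_singleton_iff.2 hd))
            (hTcomm _ hgT' _ hgT)
            (by rw [hc1, (nonsplit_torus hK hℓ hℓ2 hd (by rw [orderOf_conj, ho])).1])
        set u := g⁻¹ * g' with hu
        have huN : u ∈ N := by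
          refine Subgroup.mem_normalizer_iff.2 fun c => ?_
          rw [← map_centralizer_singleton g' x, ← map_centralizer_singleton g x] at hC
          constructor
          · intro hc
            obtain ⟨d, hd', hde⟩ := (hC ▸ ⟨c, hc, rfl⟩ : g' * c * g'⁻¹ ∈ A.map (MulAut.conj g).toMonoidHom)
            have : u * c * u⁻¹ = d := by
              simp only [MulEquiv.coe_toMonoidHom, MulAut.conj_apply] at hde
              rw [hu, show g⁻¹ * g' * c * (g⁻¹ * g')⁻¹ = g⁻¹ * (g' * c * g'⁻¹) * g by group, ← hde]; group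
            rw [this]; exact hd'
          · intro hc
            obtain ⟨d, hd', hde⟩ := (hC.symm ▸ ⟨u * c * u⁻¹, hc, rfl⟩ :
              g * (u * c * u⁻¹) * g⁻¹ ∈ A.map (MulAut.conj g').toMonoidHom)
            simp only [MulEquiv.coe_toMonoidHom, MulAut.conj_apply] at hde
            have : c = d := by
              rw [hu, show g * (g⁻¹ * g' * c * (g⁻¹ * g')⁻¹) * g⁻¹ = g' * c * g'⁻¹ by group] at hde
              exact (mul_left_cancel (mul_right_cancel hde)).symm
            rw [this]; exact hd'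
        refine ⟨some ⟨⟨b, Subgroup.le_normalizer hb⟩, ⟨u, huN⟩, ?_⟩, rfl⟩
        rw [Set.mem_singleton_iff]
        refine Subtype.ext ?_
        show u * b * u⁻¹ = a₀
        rw [hu, show g⁻¹ * g' * b * (g⁻¹ * g')⁻¹ = g⁻¹ * (g' * b * g'⁻¹) * g by group, hgb, ← hga]; group
    have h5 := Nat.card_eq_of_bijective e he
    rw [hset, Finite.card_option] at h5
    omega
  -- the stabiliser
  obtain ⟨g, hga, hgT, hgt⟩ := move a₀ ha₀ ha₀2
  have hstab : Nat.card ↥(Subgroup.centralizer ({a'} : Set ↥N)) = 2 * (3 ^ (2 * m + 1) + 1) := by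
    rw [← card_normalizer_inf hK hℓ hℓ2 hd (x := g * x * g⁻¹) (by rw [orderOf_conj, ho]) hgt]
    rw [← map_centralizer_singleton g x, ← Subgroup.map_normalizer_eq_of_bijective _ (MulAut.conj g).bijective,
      ← show Subgroup.centralizer ({g * a₀ * g⁻¹} : Set ↥(Gr K m)) = Subgroup.centralizer {t} by rw [hga],
      ← map_centralizer_singleton g a₀, ← Subgroup.map_inf _ _ _ (MulAut.conj g).injective,
      Subgroup.card_map_of_injective (MulAut.conj g).injective]
    exact Nat.card_congr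
      { toFun := fun z => ⟨(z.1 : ↥(Gr K m)), Subgroup.mem_centralizer_singleton_iff.2
          (congrArg Subtype.val (Subgroup.mem_centralizer_singleton_iff.1 z.2)), z.1.2⟩
        invFun := fun z => ⟨⟨z.1, z.2.2⟩, Subgroup.mem_centralizer_singleton_iff.2
          (Subtype.ext (Subgroup.mem_centralizer_singleton_iff.1 z.2.1))⟩
        left_inv := fun z => rfl
        right_inv := fun z => rfl }
  rw [horbit, hstab] at hsw
  omega

/-- A Klein four-group lies in a torus of order `q + 1`, as does the odd part of its centraliser. -/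
theorem klein_torus (hK : Fintype.card K = 3 ^ (2 * m + 1)) {a : ↥(Gr K m)} (ha : orderOf a = 2)
    (hat : a * tR hK = tR hK * a) (hne : a ≠ tR hK) {ℓ : ℕ} (hℓ : ℓ.Prime) (hℓ2 : ℓ ≠ 2)
    (hd : ℓ ∣ 3 ^ (2 * m + 1) + 1) :
    ∃ x, orderOf x = ℓ ∧ x * tR hK = tR hK * x ∧ x * a = a * x ∧
      ∀ c, c * tR hK = tR hK * c → c * a = a * c → Odd (orderOf c) → c * x = x * c := by
  classical
  haveI := (H48.Ree.field_data hK).1
  haveI := Fact.mk hℓ
  obtain ⟨φ, hker, -, htL, hc, htC, hoddL⟩ := exists_split_centralizer (m := m) hK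
  set t := tR hK
  have hodd : Odd (Fintype.card K) := by rw [hK]; exact Odd.pow (by decide)
  obtain ⟨T', hcyc, hT', -, hcen, hell, -, -, -⟩ := Cfsg.Agent.S2429.result (F := K) hodd
  rw [hK] at hT'
  have ha2 : a * a = 1 := by rw [← pow_two, ← ha]; exact pow_orderOf_eq_one a
  have ha1 : a ≠ 1 := fun e => by rw [e, orderOf_one] at ha; omega
  obtain ⟨a', ha', ha'1, ha'2, hat'⟩ : ∃ a', a' ∈ φ.range ∧ a' ≠ 1 ∧ a' * a' = 1 ∧
      ∀ c, c * t = t * c → (c * a' = a' * c ↔ c * a = a * c) := by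
    rcases htC a hat with h | h
    · exact ⟨a, h, ha1, ha2, fun c _ => Iff.rfl⟩
    · refine ⟨t * a, h, fun e => hne ?_, ?_, fun c hct => ?_⟩
      · exact mul_left_cancel (a := t) (e.trans (tR_sq hK).symm)
      · rw [mul_assoc, ← mul_assoc a, hat, mul_assoc t a, ha2, mul_one, tR_sq]
      · rw [← mul_assoc, hct, mul_assoc, mul_assoc t a]
        exact ⟨mul_left_cancel, fun e => by rw [e]⟩
  obtain ⟨a₀, rfl⟩ := ha'
  have hsq : ∀ z : Matrix.SpecialLinearGroup (Fin 2) K, φ z = 1 → z * z = 1 := fun z hz => Subtype.ext (by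
    show z.1 * z.1 = 1
    rcases (hker z).1 hz with h | h <;> simp [h])
  have ha₀ : (a₀ * a₀).1 = -1 := by
    refine ((hker _).1 (by rw [map_mul, ha'2])).resolve_left fun h => ha'1 ?_
    have hd' : a₀.1 0 0 * a₀.1 1 1 - a₀.1 0 1 * a₀.1 1 0 = 1 := sl_det a₀
    have e00 := congrFun (congrFun h 0) 0
    have e01 := congrFun (congrFun h 0) 1
    have e10 := congrFun (congrFun h 1) 0
    have e11 := congrFun (congrFun h 1) 1
    simp [sl_mul_val, Matrix.mul_apply, Fin.sum_univ_two] at e00 e01 e10 e11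
    have h2 : (2 : K) ≠ 0 := fun h2 => one_ne_zero (α := K) (by linear_combination (H48.Ree.three0 (F := K)) - h2)
    have htr : a₀.1 0 0 + a₀.1 1 1 ≠ 0 := fun h0 =>
      h2 (by linear_combination -(1 : K) * hd' - e00 + a₀.1 0 0 * h0)
    have hb : a₀.1 0 1 = 0 := (mul_eq_zero.1 (show a₀.1 0 1 * (a₀.1 0 0 + a₀.1 1 1) = 0 by
      linear_combination e01)).resolve_right htr
    have hc' : a₀.1 1 0 = 0 := (mul_eq_zero.1 (show a₀.1 1 0 * (a₀.1 0 0 + a₀.1 1 1) = 0 by
      linear_combination e10)).resolve_right htr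
    rw [hb, zero_mul, add_zero] at e00
    rw [hb, zero_mul, sub_zero] at hd'
    have hd1 : a₀.1 1 1 = a₀.1 0 0 := by linear_combination a₀.1 0 0 * hd' - a₀.1 1 1 * e00
    refine (hker a₀).2 ?_
    rcases mul_self_eq_one_iff.1 e00 with h1 | h1
    · left; ext i j; fin_cases i <;> fin_cases j <;> simp [hb, hc', hd1, h1]
    · right; ext i j; fin_cases i <;> fin_cases j <;> simp [hb, hc', hd1, h1]
  -- it has no eigenvector
  obtain ⟨h, hh⟩ := hell a₀ fun c v hv e => by
    have h3 : Fintype.card K % 4 = 3 := by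
      rw [hK, pow_succ, pow_mul, Nat.mul_mod, Nat.pow_mod]; simp
    refine FiniteField.isSquare_neg_one_iff.1 ?_ h3
    refine ⟨c, ?_⟩
    have e2 : (a₀ * a₀).1.mulVec v = (c * c) • v := by
      rw [show (a₀ * a₀).1 = a₀.1 * a₀.1 from rfl, ← Matrix.mulVec_mulVec, e, Matrix.mulVec_smul, e, smul_smul]
    rw [ha₀, Matrix.neg_mulVec, Matrix.one_mulVec] at e2
    have : ((c * c) + 1) • v = 0 := by rw [add_smul, one_smul, ← e2, neg_add_cancel]
    exact (eq_neg_of_add_eq_zero_left ((smul_eq_zero.1 this).resolve_right hv)).symm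
  have hh0 : ∀ z : Matrix.SpecialLinearGroup (Fin 2) K, φ z = 1 → h * a₀ * h⁻¹ ≠ z := fun z hz e => by
    have h1 : (h * a₀ * h⁻¹) * (h * a₀ * h⁻¹) = h * (a₀ * a₀) * h⁻¹ := by group
    rw [e, hsq z hz] at h1
    have h2 : a₀ * a₀ = 1 := by
      calc a₀ * a₀ = h⁻¹ * (h * (a₀ * a₀) * h⁻¹) * h := by group
        _ = 1 := by rw [← h1]; group
    rw [h2] at ha₀
    have h3 := congrFun (congrFun ha₀ 0) 0
    simp only [Matrix.neg_apply, Matrix.one_apply_eq, Matrix.SpecialLinearGroup.coe_one] at h3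
    exact one_ne_zero (α := K) (by linear_combination (H48.Ree.three0 (F := K)) - h3)
  have hC := hcen _ hh (fun e => hh0 1 (map_one φ) (Subtype.ext e)) (fun e => hh0 _ ((hker _).2 (Or.inr e)) rfl)
  obtain ⟨x₀, hx₀⟩ := exists_prime_orderOf_dvd_card' (G := ↥T') ℓ (hT' ▸ hd)
  rw [← Subgroup.orderOf_coe] at hx₀
  have hTc : ∀ u ∈ T', ∀ v ∈ T', u * v = v * u := fun u hu v hv => by
    letI : CommGroup ↥T' := IsCyclic.commGroup
    exact congrArg Subtype.val (mul_comm (⟨u, hu⟩ : ↥T') ⟨v, hv⟩)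
  set x := φ (h⁻¹ * x₀ * h) with hx
  have hxo : orderOf x = ℓ := by
    refine orderOf_eq_prime (by rw [hx, ← map_pow, show h⁻¹ * (x₀ : _) * h = h⁻¹ * x₀ * (h⁻¹)⁻¹ by group,
      conj_pow, ← hx₀, pow_orderOf_eq_one, mul_one, mul_inv_cancel, map_one]) fun e => ?_
    have h1 := hsq _ e
    have h2 : (x₀ : Matrix.SpecialLinearGroup (Fin 2) K) * x₀ = 1 := by
      calc (x₀ : Matrix.SpecialLinearGroup (Fin 2) K) * x₀ = h * (h⁻¹ * x₀ * h * (h⁻¹ * x₀ * h)) * h⁻¹ := by group
        _ = 1 := by rw [h1]; group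
    have h3 := orderOf_dvd_of_pow_eq_one (x := (x₀ : Matrix.SpecialLinearGroup (Fin 2) K)) (n := 2) (by rw [pow_two, h2])
    rw [hx₀] at h3
    exact hℓ2 ((Nat.prime_dvd_prime_iff_eq hℓ Nat.prime_two).1 h3)
  refine ⟨x, hxo, hc _, (hat' x (hc _)).1 ?_, fun c hct hca hco => ?_⟩
  · rw [hx, ← map_mul, ← map_mul]
    congr 1
    calc h⁻¹ * (x₀ : _) * h * a₀ = h⁻¹ * ((x₀ : _) * (h * a₀ * h⁻¹)) * h := by group
      _ = _ := by rw [hTc _ x₀.2 _ hh]; group
  · obtain ⟨c₀, rfl⟩ := hoddL c hct hco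
    have e := (hat' _ hct).2 hca
    set z := (a₀ * c₀)⁻¹ * (c₀ * a₀) with hzdef
    have hz : φ z = 1 := by rw [hzdef, map_mul, map_inv, map_mul, map_mul, e, inv_mul_cancel]
    have e1 : c₀ * a₀ = a₀ * c₀ * z := (mul_inv_cancel_left _ _).symm
    have hzc : ∀ w, z * w = w * z := fun w => by
      rcases (hker z).1 hz with h' | h'
      · rw [show z = 1 from Subtype.ext h', one_mul, mul_one]
      · exact Subtype.ext (show z.1 * w.1 = w.1 * z.1 by rw [h']; simp)
    have e2 : c₀ * c₀ * a₀ = a₀ * (c₀ * c₀) := by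
      calc c₀ * c₀ * a₀ = c₀ * a₀ * c₀ * z := by
            rw [mul_assoc c₀ c₀ a₀]; conv_lhs => rw [e1]
            group
        _ = a₀ * c₀ * (z * c₀) * z := by rw [e1]; group
        _ = a₀ * (c₀ * c₀) * (z * z) := by rw [hzc]; group
        _ = _ := by rw [hsq z hz, mul_one]
    have hmem : h * (c₀ * c₀) * h⁻¹ ∈ T' := by
      rw [← hC, Subgroup.mem_centralizer_singleton_iff]
      calc h * (c₀ * c₀) * h⁻¹ * (h * a₀ * h⁻¹) = h * (c₀ * c₀ * a₀) * h⁻¹ := by group
        _ = _ := by rw [e2]; group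
    have e3 : φ (c₀ * c₀) * x = x * φ (c₀ * c₀) := by
      rw [hx, ← map_mul φ (c₀ * c₀), ← map_mul φ _ (c₀ * c₀)]
      congr 1
      calc c₀ * c₀ * (h⁻¹ * (x₀ : _) * h) = h⁻¹ * (h * (c₀ * c₀) * h⁻¹ * (x₀ : _)) * h := by group
        _ = _ := by rw [hTc _ hmem _ x₀.2]; group
    obtain ⟨j, hj⟩ := hco
    have e4 : φ c₀ = φ (c₀ * c₀) ^ (j + 1) := by
      rw [map_mul, ← pow_two, ← pow_mul, show 2 * (j + 1) = orderOf (φ c₀) + 1 by omega, pow_succ,
        pow_orderOf_eq_one, one_mul]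
    rw [e4]
    exact (show Commute (φ (c₀ * c₀)) x from e3).pow_left _

/-- The elements normalising the torus `H`. -/
theorem centralizer_H_elt (hK : Fintype.card K = 3 ^ (2 * m + 1)) {s : ↥(Gr K m)} (hs : s ∈ (cell hK).H)
    (hs2 : s * s ≠ 1) : Subgroup.centralizer ({s} : Set ↥(Gr K m)) = (cell hK).H := by
  obtain ⟨-, k', -, hk', -, hq', -, -⟩ := q_arith m
  have hdv := Subgroup.orderOf_dvd_natCard _ hs
  rw [card_H hK, hq'] at hdv
  obtain ⟨p, hp, hp2, hpd⟩ := exists_odd_prime hs2 fun h => by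
    have := h.trans hdv
    rw [Nat.odd_iff] at hk'
    omega
  have e := centralizer_H hK (pow_mem hs (orderOf s / p)) hp hp2 (exists_pow_prime s hpd)
  refine le_antisymm (fun c hc => ?_) fun c hc => Subgroup.mem_centralizer_singleton_iff.2 (comm_H hK c hc s hs)
  rw [← e, Subgroup.mem_centralizer_singleton_iff]
  exact (show Commute c s from Subgroup.mem_centralizer_singleton_iff.1 hc).pow_right _

/-- An element conjugating one element of `H` that does not square to one into `H` lies in `H ∪ nH`. -/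
theorem conj_H_cases (hK : Fintype.card K = 3 ^ (2 * m + 1)) {g s : ↥(Gr K m)} (hs : s ∈ (cell hK).H)
    (hs2 : s * s ≠ 1) (hgs : g * s * g⁻¹ ∈ (cell hK).H) : g ∈ (cell hK).H ∨ (cell hK).n * g ∈ (cell hK).H := by
  set S := cell hK
  set s' := g * s * g⁻¹ with hs'
  have hs'2 : s' * s' ≠ 1 := fun e => hs2 (by
    calc s * s = g⁻¹ * (s' * s') * g := by rw [hs']; group
      _ = 1 := by rw [e]; group)
  have hfree : ∀ u ∈ S.U, ∀ y ∈ S.H, y * y ≠ 1 → u * y = y * u → u = 1 := fun u hu y hy hy2 e =>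
    S.inf_eq u hu (centralizer_H_elt hK hy hy2 ▸ Subgroup.mem_centralizer_singleton_iff.2 e)
  have e : g * s = s' * g := by rw [hs', inv_mul_cancel_right]
  rcases S.dec g with ⟨u, hu, h, hh, rfl⟩ | ⟨u, hu, h, hh, v, hv, rfl⟩
  · left
    have e1 : u * (h * s) = s' * u * s'⁻¹ * (s' * h) := by
      rw [← mul_assoc, e]; group
    have e2 := (S.uniq_borel hu (S.conjU _ hgs u hu) (mul_mem hh hs) (mul_mem hgs hh) e1).1
    rw [eq_mul_inv_iff_mul_eq] at e2
    rw [hfree u hu s' hgs hs'2 e2, one_mul]; exact hh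
  · right
    have e1 : u * S.n * (h * s) * (s⁻¹ * v * s) = s' * u * s'⁻¹ * S.n * (s'⁻¹ * h) * v := by
      calc u * S.n * (h * s) * (s⁻¹ * v * s) = u * S.n * h * v * s := by group
        _ = s' * (u * S.n * h * v) := e
        _ = s' * u * s'⁻¹ * (s' * S.n) * h * v := by group
        _ = _ := by rw [S.n_inv' hgs]; group
    obtain ⟨e2, -, e3⟩ := S.uniq u hu _ (mul_mem hh hs) _
      (by simpa using S.conjU _ (inv_mem hs) v hv) _ (S.conjU _ hgs u hu) _ (mul_mem (inv_mem hgs) hh) v hv e1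
    rw [eq_mul_inv_iff_mul_eq] at e2
    rw [mul_assoc, inv_mul_eq_iff_eq_mul] at e3
    rw [hfree u hu s' hgs hs'2 e2, hfree v hv s hs hs2 e3, one_mul, mul_one, ← mul_assoc, S.n_sq, one_mul]
    exact hh

/-- The normaliser `H ∪ nH` of `H`. -/
noncomputable def normH (hK : Fintype.card K = 3 ^ (2 * m + 1)) : Subgroup ↥(Gr K m) where
  carrier := {g | g ∈ (cell hK).H ∨ (cell hK).n * g ∈ (cell hK).H}
  one_mem' := Or.inl (one_mem _)
  mul_mem' := by
    set S := cell hK
    have key : ∀ a ∈ S.H, S.n * (a * S.n) ∈ S.H := fun a ha => by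
      rw [S.n_inv' ha, ← mul_assoc, S.n_sq, one_mul]; exact inv_mem ha
    rintro a b (ha | ha) (hb | hb)
    · exact Or.inl (mul_mem ha hb)
    · right
      rw [show S.n * (a * b) = S.n * (a * S.n) * (S.n * b) by
        rw [mul_assoc S.n (a * S.n), mul_assoc a S.n, ← mul_assoc S.n S.n b, S.n_sq, one_mul]]
      exact mul_mem (key a ha) hb
    · exact Or.inr (by rw [← mul_assoc]; exact mul_mem ha hb)
    · left
      have := mul_mem (key _ ha) hb
      rwa [← mul_assoc S.n, ← mul_assoc S.n, S.n_sq, one_mul, mul_assoc, ← mul_assoc S.n S.n b, S.n_sq,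
        one_mul] at this
  inv_mem' := by
    set S := cell hK
    rintro a (ha | ha)
    · exact Or.inl (inv_mem ha)
    · right
      have e := S.n_inv' (inv_mem ha)
      rw [inv_inv, ← mul_assoc, S.n_sq, one_mul] at e
      rw [mul_inv_rev, inv_eq_of_mul_eq_one_right S.n_sq] at e
      have e2 : S.n * a⁻¹ = S.n * (a⁻¹ * S.n) * S.n := by
        rw [mul_assoc, mul_assoc a⁻¹, S.n_sq, mul_one]
      have e3 : S.n * a⁻¹ = S.n * a := by
        calc S.n * a⁻¹ = S.n * (a⁻¹ * S.n * S.n) := by rw [mul_assoc a⁻¹, S.n_sq, mul_one]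
          _ = S.n * a := by rw [e]
      rw [e3]; exact ha

theorem card_normH (hK : Fintype.card K = 3 ^ (2 * m + 1)) :
    Nat.card ↥(normH (m := m) hK) = 2 * (3 ^ (2 * m + 1) - 1) := by
  set S := cell hK
  have hn : ∀ h ∈ S.H, S.n * h ∉ S.H := fun h hh e =>
    S.ne_cell 1 (one_mem _) h hh 1 (one_mem _) 1 (one_mem _) _ e (by rw [one_mul, mul_one, one_mul])
  rw [two_mul, ← card_H hK, ← Nat.card_sum]
  refine (Nat.card_eq_of_bijective (Sum.elim (fun h => ⟨h.1, Or.inl h.2⟩)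
    fun h => ⟨S.n * h.1, Or.inr (by rw [← mul_assoc, S.n_sq, one_mul]; exact h.2)⟩) ⟨?_, ?_⟩).symm
  · rintro (⟨a, ha⟩ | ⟨a, ha⟩) (⟨b, hb⟩ | ⟨b, hb⟩) e
    · obtain rfl : a = b := congrArg Subtype.val e; rfl
    · have e' : a = S.n * b := congrArg Subtype.val e
      exact absurd (e' ▸ ha) (hn b hb)
    · have e' : S.n * a = b := congrArg Subtype.val e
      exact absurd (e'.symm ▸ hb) (hn a ha)
    · obtain rfl : a = b := mul_left_cancel (congrArg Subtype.val e); rfl
  · rintro ⟨a, ha | ha⟩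
    · exact ⟨Sum.inl ⟨a, ha⟩, rfl⟩
    · exact ⟨Sum.inr ⟨_, ha⟩, Subtype.ext (by show S.n * (S.n * a) = a; rw [← mul_assoc, S.n_sq, one_mul])⟩

end Cfsg.Agent.H47.Ree
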