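import Cfsg.Agent.H47.Ree.Centralizers

/-!
Cyclic subgroups of the orders `(q - 1) / 2` and `(q + 1) / 4`.
-/

set_option autoImplicit false

open Cfsg.Lie Cfsg.Agent.H46

namespace Cfsg.Agent.H47.Ree

open Cfsg.Agent.H48.Ree (Gr)

variable {K : Type*} [Field K] [Fintype K] {m : ℕ}

theorem map_centralizer_singleton {G : Type*} [Group G] (g x : G) :
    (Subgroup.centralizer ({x} : Set G)).map (MulAut.conj g).toMonoidHom =
      Subgroup.centralizer {g * x * g⁻¹} := by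
  ext c
  rw [Subgroup.mem_map, Subgroup.mem_centralizer_singleton_iff]
  constructor
  · rintro ⟨d, hd, rfl⟩
    rw [Subgroup.mem_centralizer_singleton_iff] at hd
    simp only [MulEquiv.coe_toMonoidHom, MulAut.conj_apply]
    calc g * d * g⁻¹ * (g * x * g⁻¹) = g * (d * x) * g⁻¹ := by group
      _ = g * x * g⁻¹ * (g * d * g⁻¹) := by rw [hd]; group
  · intro hc
    refine ⟨g⁻¹ * c * g, Subgroup.mem_centralizer_singleton_iff.2 ?_, by
      simp only [MulEquiv.coe_toMonoidHom, MulAut.conj_apply]; group⟩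
    calc g⁻¹ * c * g * x = g⁻¹ * (c * (g * x * g⁻¹)) * g := by group
      _ = x * (g⁻¹ * c * g) := by rw [hc]; group

/-- The centraliser of a cyclic subgroup whose elements of prime order have one abelian centraliser. -/
theorem centralizer_of_prime {G : Type*} [Group G] [Finite G] {H C : Subgroup G} (hH : H ≤ C)
    (hC : ∀ a ∈ C, ∀ b ∈ C, a * b = b * a) (hne : H ≠ ⊥)
    (h : ∀ x ∈ H, ∀ ℓ : ℕ, ℓ.Prime → orderOf x = ℓ → Subgroup.centralizer ({x} : Set G) = C) :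
    Subgroup.centralizer (H : Set G) = C ∧
      ∀ A : Subgroup G, A ≤ H → A ≠ ⊥ → Subgroup.centralizer (A : Set G) = C := by
  have key : ∀ A : Subgroup G, A ≤ H → A ≠ ⊥ → Subgroup.centralizer (A : Set G) = C := by
    intro A hA hA1
    refine le_antisymm ?_ fun c hc => Subgroup.mem_centralizer_iff.2 fun a ha => hC a (hH (hA ha)) c hc
    obtain ⟨a, ha, ha1⟩ := (Subgroup.bot_or_exists_ne_one A).resolve_left hA1
    obtain ⟨p, hp, hpd⟩ := Nat.exists_prime_and_dvd (n := orderOf a) fun e => ha1 (orderOf_eq_one_iff.1 e)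
    have hx : orderOf (a ^ (orderOf a / p)) = p :=
      orderOf_pow_orderOf_div (orderOf_pos a).ne' hpd
    rw [← h _ (hA (pow_mem ha _)) p hp hx]
    exact Subgroup.centralizer_le (Set.singleton_subset_iff.2 (pow_mem ha _))
  exact ⟨key H le_rfl hne, key⟩

/-- The centraliser data of a prime divisor of `(q - 1) / 2` or of `(q + 1) / 4`. -/
theorem split_torus (hK : Fintype.card K = 3 ^ (2 * m + 1)) {x : ↥(Gr K m)} {ℓ : ℕ} (hℓ : ℓ.Prime) (hℓ2 : ℓ ≠ 2)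
    (hd : ℓ ∣ 3 ^ (2 * m + 1) - 1) (ho : orderOf x = ℓ) :
    IsCyclic ↥(Subgroup.centralizer ({x} : Set ↥(Gr K m))) ∧
      Nat.card ↥(Subgroup.centralizer ({x} : Set ↥(Gr K m))) = 3 ^ (2 * m + 1) - 1 := by
  obtain ⟨g, hg⟩ := exists_conj_H hK hℓ hℓ2 hd ho
  have h := centralizer_H hK hg hℓ hℓ2 (by rw [orderOf_conj, ho])
  rw [← map_centralizer_singleton] at h
  let e := (Subgroup.centralizer ({x} : Set ↥(Gr K m))).equivMapOfInjective (MulAut.conj g).toMonoidHom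
    (MulAut.conj g).injective
  have he := e.trans (MulEquiv.subgroupCongr h)
  haveI := isCyclic_H hK
  exact ⟨isCyclic_of_surjective he.symm.toMonoidHom he.symm.surjective,
    (Nat.card_congr he.toEquiv).trans (card_H hK)⟩

theorem nonsplit_torus (hK : Fintype.card K = 3 ^ (2 * m + 1)) {x : ↥(Gr K m)} {ℓ : ℕ} (hℓ : ℓ.Prime) (hℓ2 : ℓ ≠ 2)
    (hd : ℓ ∣ 3 ^ (2 * m + 1) + 1) (ho : orderOf x = ℓ) :
    Nat.card ↥(Subgroup.centralizer ({x} : Set ↥(Gr K m))) = 3 ^ (2 * m + 1) + 1 ∧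
      (∀ a ∈ Subgroup.centralizer ({x} : Set ↥(Gr K m)), ∀ b ∈ Subgroup.centralizer ({x} : Set ↥(Gr K m)),
        a * b = b * a) ∧
      (∀ a ∈ Subgroup.centralizer ({x} : Set ↥(Gr K m)), orderOf a ≠ 4) ∧
      ∃ M : Subgroup ↥(Gr K m), IsCyclic ↥M ∧
        ∀ a ∈ Subgroup.centralizer ({x} : Set ↥(Gr K m)), Odd (orderOf a) → a ∈ M := by
  obtain ⟨T, A, hTA, hcyc, -, hAc, hAcard, hA4, hAodd, hall⟩ := centralizer_torus (m := m) hK
  obtain ⟨g, -, hC⟩ := hall x ℓ hℓ hℓ2 hd ho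
  rw [← map_centralizer_singleton] at hC
  have hmem : ∀ a ∈ Subgroup.centralizer ({x} : Set ↥(Gr K m)), g * a * g⁻¹ ∈ A := fun a ha =>
    hC ▸ ⟨a, ha, by simp⟩
  refine ⟨?_, fun a ha b hb => ?_, fun a ha => ?_, T.map (MulAut.conj g⁻¹).toMonoidHom, ?_, fun a ha hodd => ?_⟩
  · rw [← hAcard, ← hC, Subgroup.card_map_of_injective (MulAut.conj g).injective]
  · have := hAc _ (hmem a ha) _ (hmem b hb)
    apply mul_left_cancel (a := g)
    apply mul_right_cancel (b := g⁻¹)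
    calc g * (a * b) * g⁻¹ = g * a * g⁻¹ * (g * b * g⁻¹) := by group
      _ = g * (b * a) * g⁻¹ := by rw [this]; group
  · rw [← orderOf_conj g a]; exact hA4 _ (hmem a ha)
  · exact isCyclic_of_surjective _ ((MulAut.conj g⁻¹).toMonoidHom.subgroupMap_surjective T)
  · exact ⟨g * a * g⁻¹, hAodd _ (hmem a ha) (by rwa [orderOf_conj]), by simp [mul_assoc]⟩

theorem one_lt_half (m : ℕ) (hm : 1 ≤ m) : 1 < (3 ^ (2 * m + 1) - 1) / 2 ∧ 1 < (3 ^ (2 * m + 1) + 1) / 4 := by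
  have h : 3 ^ 3 ≤ 3 ^ (2 * m + 1) := Nat.pow_le_pow_right (by norm_num) (by omega)
  norm_num at h
  constructor <;> omega

/-- The statement on the centralisers of the two tori. -/
theorem tori_centralizers (hm : 1 ≤ m) (hK : Fintype.card K = 3 ^ (2 * m + 1)) (H : Subgroup ↥(Gr K m))
    (hH : IsCyclic ↥H) :
    (Nat.card H = (3 ^ (2 * m + 1) - 1) / 2 →
      IsCyclic ↥(Subgroup.centralizer (H : Set ↥(Gr K m))) ∧
        Nat.card ↥(Subgroup.centralizer (H : Set ↥(Gr K m))) = 3 ^ (2 * m + 1) - 1 ∧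
        ∀ A : Subgroup ↥(Gr K m), A ≤ H → A ≠ ⊥ →
          Subgroup.centralizer (A : Set ↥(Gr K m)) = Subgroup.centralizer (H : Set ↥(Gr K m))) ∧
    (Nat.card H = (3 ^ (2 * m + 1) + 1) / 4 →
      IsMulCommutative ↥(Subgroup.centralizer (H : Set ↥(Gr K m))) ∧
        Nat.card ↥(Subgroup.centralizer (H : Set ↥(Gr K m))) = 3 ^ (2 * m + 1) + 1 ∧
        (∀ x ∈ Subgroup.centralizer (H : Set ↥(Gr K m)), orderOf x ≠ 4) ∧
        ∀ A : Subgroup ↥(Gr K m), A ≤ H → A ≠ ⊥ →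
          Subgroup.centralizer (A : Set ↥(Gr K m)) = Subgroup.centralizer (H : Set ↥(Gr K m))) := by
  obtain ⟨k, k', hk, hk', hq, hq', -, -⟩ := q_arith m
  obtain ⟨h1, h2⟩ := one_lt_half m hm
  letI : CommGroup ↥H := IsCyclic.commGroup
  have hHle : ∀ x ∈ H, H ≤ Subgroup.centralizer ({x} : Set ↥(Gr K m)) := fun x hx h hh =>
    Subgroup.mem_centralizer_singleton_iff.2 (congrArg Subtype.val (mul_comm (⟨h, hh⟩ : ↥H) ⟨x, hx⟩))
  have prep : ∀ n : ℕ, Odd n → Nat.card ↥H = n → 1 < n →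
      H ≠ ⊥ ∧ ∃ x ∈ H, (orderOf x).Prime ∧ orderOf x ≠ 2 ∧ orderOf x ∣ n := by
    intro n hn hc hlt
    refine ⟨fun e => ?_, ?_⟩
    · rw [e, Subgroup.card_bot] at hc; omega
    obtain ⟨p, hp, hpd⟩ := Nat.exists_prime_and_dvd (n := n) hlt.ne'
    have := Fact.mk hp
    obtain ⟨x, hx⟩ := exists_prime_orderOf_dvd_card' (G := ↥H) p (hc ▸ hpd)
    refine ⟨x, x.2, ?_⟩
    rw [Subgroup.orderOf_coe, hx]
    exact ⟨hp, fun e => (Nat.not_even_iff_odd.2 hn) (even_iff_two_dvd.2 (e ▸ hpd)), hpd⟩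
  have hprime : ∀ {n : ℕ}, Odd n → Nat.card ↥H = n → ∀ x ∈ H, ∀ ℓ : ℕ, ℓ.Prime → orderOf x = ℓ → ℓ ≠ 2 ∧ ℓ ∣ n := by
    intro n hn hc x hx ℓ hℓ ho
    have hd : ℓ ∣ n := by rw [← ho, ← hc]; exact Subgroup.orderOf_dvd_natCard _ hx
    exact ⟨fun e => (Nat.not_even_iff_odd.2 hn) (even_iff_two_dvd.2 (e ▸ hd)), hd⟩
  constructor
  · intro hc
    replace hc : Nat.card ↥H = k' := by omega
    obtain ⟨hne, x, hx, hxp, hx2, hxd⟩ := prep k' hk' hc (by omega)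
    obtain ⟨hcyc, hcard⟩ := split_torus hK hxp hx2 (hq' ▸ hxd.mul_left 2) rfl
    have hcomm : ∀ a ∈ Subgroup.centralizer ({x} : Set ↥(Gr K m)), ∀ b ∈ Subgroup.centralizer ({x} : Set ↥(Gr K m)),
        a * b = b * a := fun a ha b hb => by
      letI : CommGroup ↥(Subgroup.centralizer ({x} : Set ↥(Gr K m))) := IsCyclic.commGroup
      exact congrArg Subtype.val (mul_comm (⟨a, ha⟩ : ↥(Subgroup.centralizer ({x} : Set ↥(Gr K m)))) ⟨b, hb⟩)
    obtain ⟨hH1, hH2⟩ := centralizer_of_prime (hHle x hx) hcomm hne fun y hy ℓ hℓ ho => by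
      obtain ⟨hl2, hld⟩ := hprime hk' hc y hy ℓ hℓ ho
      refine (Subgroup.eq_of_le_of_card_ge ?_ ?_).symm
      · exact fun c hc' => Subgroup.mem_centralizer_singleton_iff.2 (hcomm c hc' y (hHle x hx hy))
      · rw [hcard, (split_torus hK hℓ hl2 (hq' ▸ hld.mul_left 2) ho).2]
    rw [hH1]
    exact ⟨hcyc, hcard, hH2⟩
  · intro hc
    replace hc : Nat.card ↥H = k := by omega
    obtain ⟨hne, x, hx, hxp, hx2, hxd⟩ := prep k hk hc (by omega)
    obtain ⟨hcard, hcomm, h4, -⟩ := nonsplit_torus hK hxp hx2 (hq ▸ hxd.mul_left 4) rfl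
    obtain ⟨hH1, hH2⟩ := centralizer_of_prime (hHle x hx) hcomm hne fun y hy ℓ hℓ ho => by
      obtain ⟨hl2, hld⟩ := hprime hk hc y hy ℓ hℓ ho
      refine (Subgroup.eq_of_le_of_card_ge ?_ ?_).symm
      · exact fun c hc' => Subgroup.mem_centralizer_singleton_iff.2 (hcomm c hc' y (hHle x hx hy))
      · rw [hcard, (nonsplit_torus hK hℓ hl2 (hq ▸ hld.mul_left 4) ho).1]
    rw [hH1]
    exact ⟨⟨⟨fun a b => Subtype.ext (hcomm a a.2 b b.2)⟩⟩, hcard, h4, hH2⟩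

end Cfsg.Agent.H47.Ree
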